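import Mathlib
import Cfsg.Agent.Solv.Core
import Cfsg.Agent.Solv.MinNormal
import Cfsg.Agent.Alperin.Basic
import Cfsg.Agent.Hall.Basic

/-!
Some general lemmas: Sylow subgroups from normalizers, solvability with abelian maximal subgroups.
-/

set_option autoImplicit false

namespace Cfsg.Agent.H1

open scoped Pointwise
open Cfsg

variable {G : Type*} [Group G]

/-- If `P ≤ A` is a `p`-subgroup of index prime to `p` in `A` and `N_G(P) ≤ A`, then `P` has index
prime to `p` in `G`. -/
theorem not_dvd_index_of_normalizer_le [Finite G] {p : ℕ} [hp : Fact p.Prime] (P A : Subgroup G)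
    (hP : IsPGroup p P) (hPA : P ≤ A) (hi : ¬ p ∣ P.relIndex A)
    (hN : Subgroup.normalizer (P : Set G) ≤ A) : ¬ p ∣ P.index := by
  obtain ⟨S, hS⟩ := hP.exists_le_sylow
  have hPS : P = (S : Subgroup G) := by
    by_contra hne
    have hlt : P < (S : Subgroup G) := lt_of_le_of_ne hS hne
    have h1 := Alperin.card_lt_card_inf_normalizer S.isPGroup' hlt
    set D : Subgroup G := (S : Subgroup G) ⊓ Subgroup.normalizer (P : Set G)
    have hD : IsPGroup p D := S.isPGroup'.to_le inf_le_left
    have hDA : D ≤ A := inf_le_right.trans hN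
    obtain ⟨n, hn⟩ := IsPGroup.iff_card.mp hD
    have h2 : Nat.card D ∣ Nat.card A := Subgroup.card_dvd_of_le hDA
    have h3 : Nat.card A = Nat.card P * P.relIndex A := by
      rw [← Subgroup.relIndex_bot_left P, ← Subgroup.relIndex_bot_left A,
        Subgroup.relIndex_mul_relIndex _ _ _ bot_le hPA]
    rw [h3] at h2
    have h4 : (Nat.card D).Coprime (P.relIndex A) := by
      rw [hn]
      exact Nat.Coprime.pow_left _ ((Nat.Prime.coprime_iff_not_dvd hp.out).mpr hi)
    have h5 := h4.dvd_of_dvd_mul_right h2
    exact absurd (Nat.le_of_dvd Nat.card_pos h5) (not_le.mpr h1)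
  rw [hPS]
  exact S.not_dvd_index

/-- A finite group with a solvable normal maximal subgroup is solvable. -/
theorem solvable_of_normal_coatom (M : Subgroup G) [M.Normal] (hM : IsCoatom M)
    (hs : Group.IsSolvable M) : Group.IsSolvable G := by
  have hnt : Nontrivial (G ⧸ M) := by
    rw [QuotientGroup.nontrivial_iff]
    exact hM.1
  obtain ⟨x, hx⟩ := exists_ne (1 : G ⧸ M)
  have h1 : Subgroup.zpowers x = ⊤ := by
    apply Subgroup.comap_injective (QuotientGroup.mk'_surjective M)
    rw [Subgroup.comap_top]
    apply hM.2
    refine lt_of_le_of_ne ?_ ?_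
    · intro y hy
      rw [Subgroup.mem_comap]
      have : QuotientGroup.mk' M y = 1 := by simpa using hy
      rw [this]; exact one_mem _
    · intro h
      obtain ⟨y, rfl⟩ := QuotientGroup.mk'_surjective M x
      have h3 : y ∈ M := by
        rw [h, Subgroup.mem_comap]
        exact Subgroup.mem_zpowers _
      exact hx (by simpa using h3)
  have hc : IsCyclic (G ⧸ M) := ⟨x, fun y => by
    have : y ∈ Subgroup.zpowers x := by rw [h1]; trivial
    exact this⟩
  have hq : Group.IsSolvable (G ⧸ M) := by
    let _ : CommGroup (G ⧸ M) := IsCyclic.commGroup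
    infer_instance
  exact Group.isSolvable_of_ker_le_range M.subtype (QuotientGroup.mk' M) (by simp)

/-- Conjugation of subgroups and joins. -/
theorem conj_smul_top (g : G) : MulAut.conj g • (⊤ : Subgroup G) = ⊤ := by
  rw [eq_top_iff]
  intro x _
  rw [Subgroup.mem_pointwise_smul_iff_inv_smul_mem]
  trivial

/-- If `N ≥ g A g⁻¹` with `A` a maximal subgroup, then `N = ⊤` or `N = g A g⁻¹`. -/
theorem eq_top_or_of_conj_coatom_le (A N : Subgroup G) (hA : IsCoatom A) (g : G)
    (h : MulAut.conj g • A ≤ N) : N = ⊤ ∨ N = MulAut.conj g • A := by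
  have h1 : A ≤ (MulAut.conj g)⁻¹ • N := by
    intro x hx
    rw [Subgroup.mem_pointwise_smul_iff_inv_smul_mem, inv_inv]
    exact h (Subgroup.smul_mem_pointwise_smul _ _ _ hx)
  rcases hA.le_iff.mp h1 with h2 | h2
  · left
    rw [eq_top_iff]
    intro x _
    have h3 : (MulAut.conj g)⁻¹ • x ∈ (MulAut.conj g)⁻¹ • N := by rw [h2]; trivial
    have := (Subgroup.mem_pointwise_smul_iff_inv_smul_mem).mp h3
    rwa [inv_inv, smul_inv_smul] at this
  · right
    rw [← h2, smul_inv_smul]

theorem isMulCommutative_centralizes {A B : Subgroup G} (hA : IsMulCommutative A) (hB : B ≤ A) :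
    A ≤ Subgroup.centralizer (B : Set G) := by
  intro x hx
  rw [Subgroup.mem_centralizer_iff]
  intro y hy
  exact Solv.comm_of_isMulCommutative hA (hB hy) hx

theorem commutator_le_ker_of_comm {S : Type*} [Group S] (hS : ∀ a b : S, a * b = b * a)
    (f : G →* S) : commutator G ≤ f.ker := by
  rw [commutator_def, Subgroup.commutator_le]
  intro a _ b _
  rw [MonoidHom.mem_ker, map_commutatorElement, commutatorElement_def, hS (f a) (f b)]
  group

theorem solvable_of_commutator (h : Group.IsSolvable (commutator G)) : Group.IsSolvable G := by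
  have hq : Group.IsSolvable (G ⧸ commutator G) := by
    change Group.IsSolvable (Abelianization G)
    infer_instance
  exact Group.isSolvable_of_ker_le_range (commutator G).subtype
    (QuotientGroup.mk' (commutator G)) (by simp)

/-- Herstein: an abelian maximal subgroup forces solvability (core-free case). -/
theorem solvable_of_abelian_coatom_core_free [Finite G] (A : Subgroup G) (hA : IsCoatom A)
    (hab : IsMulCommutative A) (hcore : A.normalCore = ⊥) : Group.IsSolvable G := by
  by_cases hbot : A = ⊥
  · subst hbot
    exact solvable_of_normal_coatom ⊥ hA inferInstance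
  have key : ∀ p : ℕ, p.Prime → p ∣ Nat.card A →
      ∃ K : Subgroup G, ¬ p ∣ Nat.card K ∧ commutator G ≤ K := by
    intro p hp hdvd
    have : Fact p.Prime := ⟨hp⟩
    obtain ⟨P⟩ : Nonempty (Sylow p A) := inferInstance
    set P' : Subgroup G := (P : Subgroup A).map A.subtype
    have hP'A : P' ≤ A := Subgroup.map_subtype_le _
    have hP'p : IsPGroup p P' := P.isPGroup'.map _
    have hP'ne : P' ≠ ⊥ := by
      intro h
      have h1 := P.ne_bot_of_dvd_card hdvd
      apply h1
      rw [Subgroup.map_eq_bot_iff_of_injective _ A.subtype_injective] at h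
      exact h
    have hAC : A ≤ Subgroup.centralizer (P' : Set G) := isMulCommutative_centralizes hab hP'A
    have hAN : A ≤ Subgroup.normalizer (P' : Set G) := hAC.trans (Subgroup.centralizer_le_normalizer _)
    have hN : Subgroup.normalizer (P' : Set G) = A := by
      rcases hA.le_iff.mp hAN with h | h
      · exfalso
        have h1 : P'.Normal := Subgroup.normalizer_eq_top_iff.mp h
        have h2 : P' ≤ A.normalCore := Subgroup.normal_le_normalCore.mpr hP'A
        rw [hcore, le_bot_iff] at h2
        exact hP'ne h2
      · exact h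
    have hi : ¬ p ∣ P'.index := by
      apply not_dvd_index_of_normalizer_le P' A hP'p hP'A _ hN.le
      rw [Subgroup.relIndex, Subgroup.subgroupOf, Subgroup.comap_map_eq_self_of_injective
        A.subtype_injective]
      exact P.not_dvd_index
    set S : Sylow p G := hP'p.toSylow hi
    have hS : (S : Subgroup G) = P' := IsPGroup.toSylow_coe _ _
    have hNC : Subgroup.normalizer ((S : Subgroup G) : Set G) ≤
        Subgroup.centralizer ((S : Subgroup G) : Set G) := by
      rw [hS, hN]; exact hAC
    refine ⟨(MonoidHom.transferSylow S hNC).ker, MonoidHom.not_dvd_card_ker_transferSylow S hNC, ?_⟩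
    apply commutator_le_ker_of_comm
    intro a b
    apply Subtype.ext
    have ha : (a : G) ∈ A := hP'A (hS ▸ a.2)
    have hb : (b : G) ∈ A := hP'A (hS ▸ b.2)
    exact Solv.comm_of_isMulCommutative hab ha hb
  set L := commutator G
  have hcop : (Nat.card L).Coprime (Nat.card A) := by
    apply Nat.Coprime.symm
    rw [Nat.coprime_iff_gcd_eq_one]
    by_contra hne
    obtain ⟨p, hp, hdvd⟩ := Nat.exists_prime_and_dvd hne
    obtain ⟨K, hK1, hK2⟩ := key p hp (hdvd.trans (Nat.gcd_dvd_left _ _))
    exact hK1 ((hdvd.trans (Nat.gcd_dvd_right _ _)).trans (Subgroup.card_dvd_of_le hK2))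
  by_cases hLbot : L = ⊥
  · apply solvable_of_commutator
    change Group.IsSolvable L
    rw [hLbot]; infer_instance
  have hLA : ¬ L ≤ A := by
    intro h
    have h1 := (Subgroup.disjoint_of_coprime_natCard hcop)
    rw [disjoint_iff, inf_eq_left.mpr h] at h1
    exact hLbot h1
  have hsup : L ⊔ A = ⊤ := by
    apply hA.2
    exact lt_of_le_of_ne le_sup_right (fun h => hLA (by rw [h]; exact le_sup_left))
  have hcomp : Subgroup.IsComplement' L A := by
    apply Subgroup.isComplement'_of_disjoint_and_mul_eq_univ
      (Subgroup.disjoint_of_coprime_natCard hcop)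
    rw [← Subgroup.normal_mul, hsup]; rfl
  have hidx : L.index = Nat.card A := hcomp.symm.index_eq_card
  have hcop' : (Nat.card L).Coprime L.index := by rw [hidx]; exact hcop
  have hsolq : Group.IsSolvable (G ⧸ L) := by
    change Group.IsSolvable (Abelianization G)
    infer_instance
  have hnil : Group.IsNilpotent L := by
    have q := (Group.isNilpotent_of_finite_tfae (G := L)).out 0 3
    rw [q]; clear q
    intro q hq Q
    set Q' : Subgroup G := (Q : Subgroup L).map L.subtype
    set N := Subgroup.normalizer (Q' : Set G)
    have hNL : N ⊔ L = ⊤ := Sylow.normalizer_sup_eq_top Q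
    have hDn : (L.subgroupOf N).Normal := inferInstance
    have hDidx : (L.subgroupOf N).index = Nat.card A := by
      rw [← hidx, ← Subgroup.relIndex_top_right L, ← hNL, Subgroup.relIndex_sup_right]
      rfl
    have hDcard : Nat.card (L.subgroupOf N) ∣ Nat.card L := by
      have h1 : Nat.card (L.subgroupOf N) = Nat.card (L ⊓ N : Subgroup G) := by
        rw [← Subgroup.subgroupOf_map_subtype]
        exact (Subgroup.card_map_of_injective N.subtype_injective).symm
      rw [h1]
      exact Subgroup.card_dvd_of_le inf_le_left
    have hDcop : (Nat.card (L.subgroupOf N)).Coprime (L.subgroupOf N).index := by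
      rw [hDidx]; exact Nat.Coprime.coprime_dvd_left hDcard hcop
    obtain ⟨H, hH⟩ := Subgroup.exists_right_complement'_of_coprime hDcop
    set B := H.map N.subtype
    have hBN : B ≤ N := Subgroup.map_subtype_le _
    have hBcard : Nat.card B = L.index := by
      rw [hidx, ← hDidx, Subgroup.card_map_of_injective N.subtype_injective]
      exact hH.symm.index_eq_card.symm
    have hBcomp : Subgroup.IsComplement' L B := (Hall.isComplement'_iff_of_coprime hcop').mpr hBcard
    obtain ⟨g, hg⟩ := Hall.sz_conj L hcop' (Or.inr hsolq) A B hcomp hBcomp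
    have h2 : MulAut.conj g • A ≤ N := by rw [hg]; exact hBN
    rcases eq_top_or_of_conj_coatom_le A N hA g h2 with h3 | h3
    · have h4 : Q'.Normal := Subgroup.normalizer_eq_top_iff.mp h3
      exact h4.of_map_subtype
    · have h5 : Q' ≤ B := by
        rw [← hg, ← h3]; exact Subgroup.le_normalizer
      have h6 : Q' ≤ L := Subgroup.map_subtype_le _
      have h7 : L ⊓ B = ⊥ := hBcomp.disjoint.eq_bot
      have h8 : Q' = ⊥ := le_bot_iff.mp (h7 ▸ le_inf h6 h5)
      have h9 : (Q : Subgroup L) = ⊥ := by
        rwa [Subgroup.map_eq_bot_iff_of_injective _ L.subtype_injective] at h8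
      rw [h9]; infer_instance
  apply solvable_of_commutator
  change Group.IsSolvable L
  infer_instance

/-- Herstein: a finite group with an abelian maximal subgroup is solvable. -/
theorem solvable_of_abelian_coatom [Finite G] (A : Subgroup G) (hA : IsCoatom A)
    (hab : IsMulCommutative A) : Group.IsSolvable G := by
  obtain ⟨K, hKdef⟩ : ∃ K, K = A.normalCore := ⟨_, rfl⟩
  have hKn : K.Normal := by rw [hKdef]; infer_instance
  have hKA : K ≤ A := by rw [hKdef]; exact Subgroup.normalCore_le A
  set π := QuotientGroup.mk' K
  have hπ : Function.Surjective π := QuotientGroup.mk'_surjective K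
  have hcm : (A.map π).comap π = A := by
    rw [Subgroup.comap_map_eq, QuotientGroup.ker_mk', sup_eq_left.mpr hKA]
  have hA' : IsCoatom (A.map π) := by
    constructor
    · intro h
      apply hA.1
      rw [← hcm, h, Subgroup.comap_top]
    · intro B hB
      have h1 : A < B.comap π := by
        refine lt_of_le_of_ne (hcm.symm.le.trans (Subgroup.comap_mono hB.le)) ?_
        intro h
        apply hB.ne
        apply Subgroup.comap_injective hπ
        exact hcm.trans h
      apply Subgroup.comap_injective hπ
      rw [hA.2 _ h1, Subgroup.comap_top]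
  have hab' : IsMulCommutative (A.map π) := by
    rw [Solv.isMulCommutative_iff_commutator_eq_bot] at hab ⊢
    rw [← Subgroup.map_commutator, hab, Subgroup.map_bot]
  have hcore : (A.map π).normalCore = ⊥ := by
    rw [eq_bot_iff]
    intro x hx
    obtain ⟨g, rfl⟩ := hπ x
    have h1 : ((A.map π).normalCore).comap π ≤ A :=
      (Subgroup.comap_mono (Subgroup.normalCore_le _)).trans hcm.le
    have h2 : ((A.map π).normalCore).comap π ≤ K :=
      (Subgroup.normal_le_normalCore.mpr h1).trans hKdef.ge
    have h3 : g ∈ K := h2 hx
    rw [Subgroup.mem_bot]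
    simpa [π] using h3
  have hq : Group.IsSolvable (G ⧸ K) := solvable_of_abelian_coatom_core_free _ hA' hab' hcore
  have hK : Group.IsSolvable K := by
    have h1 : IsMulCommutative K := Solv.isMulCommutative_of_le hKA hab
    have h2 : Group.IsNilpotent K := by
      let _ : CommGroup K := { (inferInstance : Group K) with mul_comm := h1.is_comm.comm }
      exact CommGroup.isNilpotent
    infer_instance
  exact Group.isSolvable_of_ker_le_range K.subtype (QuotientGroup.mk' K) (by simp)

end Cfsg.Agent.H1
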