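import Cfsg.Agent.S3347
import Cfsg.Agent.S0105
import Cfsg.Agent.H4.K3Def
import Cfsg.Agent.H9.SylowUtil
import Cfsg.Agent.Fus.Alperin
import Cfsg.Agent.Transfer.Fusion
import Cfsg.Agent.Solv.Core

set_option autoImplicit false
set_option linter.all false

/-! S2219 (for helper4): the two cases for the Sylow 3-subgroup of order nine. -/

namespace Cfsg.Agent.H1.K3

open Cfsg Subgroup
open Cfsg.Agent.H4

universe u

section Mat

/-- the action of a matrix on a vector over `ZMod 3` -/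
def act (a b c d : ZMod 3) (v : ZMod 3 × ZMod 3) : ZMod 3 × ZMod 3 := (a * v.1 + c * v.2, b * v.1 + d * v.2)

set_option maxRecDepth 100000 in
theorem dec1 : ∀ a b c d : ZMod 3, a * d - b * c ≠ 0 →
    (∀ v : ZMod 3 × ZMod 3, (act a b c d)^[6] v = v) ∨
    (∀ v : ZMod 3 × ZMod 3, (act a b c d)^[2] v = v) ∨
    (∃ v2 : ZMod 3 × ZMod 3, v2 ≠ 0 ∧ ∀ w : ZMod 3 × ZMod 3, w ≠ 0 → ∃ i : Fin 8, w = (act a b c d)^[i.1] (1, 0) ∨ w = (act a b c d)^[i.1] v2) := by
  decide +kernel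

set_option maxRecDepth 100000 in
theorem dec0 : ∀ a b c d : ZMod 3, a * d - b * c = 0 → ∃ v : ZMod 3 × ZMod 3, v ≠ 0 ∧ act a b c d v = 0 := by
  decide +kernel

theorem dec9 : ∀ i : Fin 9, i.1 % 3 = 0 ∨ i.1 ^ 6 % 9 = 1 := by decide

theorem dec9' : ∀ i : Fin 9, i.1 ^ 2 % 9 = 1 → i.1 = 1 ∨ i.1 = 8 := by decide

end Mat

variable {G : Type u} [Group G] [Finite G]

theorem card_nine {q a b : ℕ} (hq : q.Prime) (hq3 : q ≠ 3)
    (hcard : Nat.card G = 9 * 2 ^ a * q ^ b) (P : Sylow 3 G) : Nat.card (P : Subgroup G) = 9 := by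
  have : Fact (Nat.Prime 3) := ⟨Nat.prime_three⟩
  have hq0 : q ≠ 0 := hq.ne_zero
  have hc : Nat.Coprime 3 (2 ^ a * q ^ b) := by
    apply Nat.Coprime.mul_right
    · exact Nat.Coprime.pow_right _ (by norm_num)
    · exact Nat.Coprime.pow_right _ ((Nat.coprime_primes Nat.prime_three hq).2 hq3.symm)
  have h1 : (Nat.card G).factorization 3 = 2 := by
    rw [hcard, mul_assoc, Nat.factorization_mul (by norm_num) (by positivity), Finsupp.add_apply,
      Nat.factorization_eq_zero_of_not_dvd ((Nat.Prime.coprime_iff_not_dvd Nat.prime_three).1 hc),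
      show (9:ℕ) = 3 ^ 2 by norm_num, Nat.Prime.factorization_pow Nat.prime_three]
    simp
  rw [P.card_eq_multiplicity, h1]
  norm_num

theorem iter_conj (n : G) (k : ℕ) (x : G) : (fun y => n * y * n⁻¹)^[k] x = n ^ k * x * (n ^ k)⁻¹ := by
  induction k with
  | zero => simp
  | succ k ih =>
    rw [Function.iterate_succ_apply', ih, pow_succ']
    group

theorem exists_pow_centralizes (P : Sylow 3 G) (hcomm : ∀ x ∈ P, ∀ y ∈ P, x * y = y * x) {n : G}
    (hn : n ∈ normalizer ((P : Subgroup G) : Set G)) :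
    ∃ k, ¬ 3 ∣ k ∧ ∀ x ∈ P, n ^ k * x * (n ^ k)⁻¹ = x := by
  have : Fact (Nat.Prime 3) := ⟨Nat.prime_three⟩
  have ho : orderOf n ≠ 0 := (orderOf_pos n).ne'
  refine ⟨ordCompl[3] (orderOf n), Nat.not_dvd_ordCompl Nat.prime_three ho, ?_⟩
  set m := ordCompl[3] (orderOf n) with hm
  have h1 : (n ^ m) ^ (3 ^ (orderOf n).factorization 3) = 1 := by
    rw [← pow_mul, mul_comm, Nat.ordProj_mul_ordCompl_eq_self, pow_orderOf_eq_one]
  have h2 : IsPGroup 3 (zpowers (n ^ m)) := by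
    obtain ⟨j, -, hj⟩ := (Nat.dvd_prime_pow Nat.prime_three).1 (orderOf_dvd_of_pow_eq_one h1)
    exact IsPGroup.of_card (n := j) (by rw [Nat.card_zpowers, hj])
  have h3 : n ^ m ∈ (P : Subgroup G) := by
    have h4 : n ^ m ∈ zpowers (n ^ m) ⊓ (P : Subgroup G) := by
      rw [← h2.inf_normalizer_sylow P]
      exact ⟨mem_zpowers _, pow_mem hn _⟩
    exact h4.2
  intro x hx
  rw [hcomm _ h3 x hx]
  group

/-- from `n ^ 6` and `n ^ k`, `3 ∤ k`, in a subgroup -/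
theorem sq_mem {C : Subgroup G} {n : G} {k : ℕ} (hk : ¬ 3 ∣ k) (h1 : n ^ k ∈ C) (h6 : n ^ 6 ∈ C) : n ^ 2 ∈ C := by
  have h2 : n ^ (2 * k) ∈ C := by
    rw [mul_comm, pow_mul]
    exact pow_mem h1 2
  have h3 : k = 3 * (k / 3) + k % 3 := (Nat.div_add_mod k 3).symm
  have h4 : k % 3 = 1 ∨ k % 3 = 2 := by omega
  rcases h4 with h4 | h4
  · have h5 : 2 * k = 6 * (k / 3) + 2 := by omega
    rw [h5, pow_add, pow_mul] at h2
    exact (mul_mem_cancel_left (pow_mem h6 _)).1 h2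
  · have h5 : 2 * k = 6 * (k / 3) + 4 := by omega
    rw [h5, pow_add, pow_mul] at h2
    have h7 := (mul_mem_cancel_left (pow_mem h6 _)).1 h2
    have h8 : n ^ 2 = n ^ 6 * (n ^ 4)⁻¹ := by group
    rw [h8]
    exact mul_mem h6 (inv_mem h7)

theorem mem_cent {P : Sylow 3 G} {m : G} : m ∈ centralizer ((P : Subgroup G) : Set G) ↔ ∀ x ∈ P, m * x * m⁻¹ = x := by
  rw [mem_centralizer_iff]
  constructor
  · intro h x hx
    rw [← h x hx]
    group
  · intro h x hx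
    have := h x hx
    calc x * m = (m * x * m⁻¹) * m := by rw [this]
      _ = m * x := by group

theorem exists_isoish (P : Sylow 3 G) (hcomm : ∀ x ∈ P, ∀ y ∈ P, x * y = y * x) (hc9 : Nat.card (P : Subgroup G) = 9)
    (hnc : ¬ IsCyclic (P : Subgroup G)) :
    (∀ x ∈ P, x ^ 3 = 1) ∧ ∃ f : ZMod 3 × ZMod 3 → G, (∀ v w, f (v + w) = f v * f w) ∧ Function.Injective f ∧
      (∀ v, f v ∈ P) ∧ ∀ x ∈ P, ∃ v, f v = x := by
  have : Fact (Nat.Prime 3) := ⟨Nat.prime_three⟩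
  have h3 : ∀ x ∈ P, x ^ 3 = 1 := by
    intro x hx
    have h1 : orderOf (⟨x, hx⟩ : (P : Subgroup G)) ∣ 9 := by
      rw [← hc9]; exact orderOf_dvd_natCard _
    have h2 : orderOf (⟨x, hx⟩ : (P : Subgroup G)) ≠ 9 := by
      intro h
      exact hnc (isCyclic_of_orderOf_eq_card _ (by rw [h, hc9]))
    have h4 : orderOf (⟨x, hx⟩ : (P : Subgroup G)) ∣ 3 := by
      obtain ⟨j, hj, hj'⟩ := (Nat.dvd_prime_pow Nat.prime_three).1
        (show orderOf (⟨x, hx⟩ : (P : Subgroup G)) ∣ 3 ^ 2 by rw [show (3:ℕ) ^ 2 = 9 by norm_num]; exact h1)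
      rw [hj'] at h2 ⊢
      interval_cases j
      · norm_num
      · norm_num
      · norm_num at h2
    have h5 := orderOf_dvd_iff_pow_eq_one.1 h4
    exact congrArg Subtype.val h5
  refine ⟨h3, ?_⟩
  obtain ⟨k₁, hk₁, hk₁1⟩ : ∃ x ∈ P, x ≠ 1 := by
    by_contra hcon
    push Not at hcon
    have : (P : Subgroup G) = ⊥ := by
      rw [eq_bot_iff]; intro x hx; exact mem_bot.2 (hcon x hx)
    rw [this, card_bot] at hc9
    norm_num at hc9
  obtain ⟨k₂, hk₂, hk₂'⟩ : ∃ x ∈ P, x ∉ zpowers k₁ := by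
    by_contra hcon
    push Not at hcon
    have h1 : (P : Subgroup G) = zpowers k₁ := le_antisymm hcon (zpowers_le.2 hk₁)
    have h2 : Nat.card (zpowers k₁) ≤ 3 := by
      rw [Nat.card_zpowers]
      exact Nat.le_of_dvd (by norm_num) (orderOf_dvd_of_pow_eq_one (h3 _ hk₁))
    rw [← h1, hc9] at h2
    norm_num at h2
  have hc12 : k₁ * k₂ = k₂ * k₁ := hcomm _ hk₁ _ hk₂
  let f : ZMod 3 × ZMod 3 → G := fun v => k₁ ^ v.1.val * k₂ ^ v.2.val
  have hmod : ∀ k ∈ P, ∀ a b : ZMod 3, k ^ (a + b).val = k ^ a.val * k ^ b.val := by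
    intro k hk a b
    rw [ZMod.val_add, ← pow_add]
    conv_rhs => rw [← Nat.div_add_mod (a.val + b.val) 3, pow_add, pow_mul, h3 k hk, one_pow, one_mul]
  have hadd : ∀ v w, f (v + w) = f v * f w := by
    intro v w
    show k₁ ^ (v.1 + w.1).val * k₂ ^ (v.2 + w.2).val = k₁ ^ v.1.val * k₂ ^ v.2.val * (k₁ ^ w.1.val * k₂ ^ w.2.val)
    rw [hmod _ hk₁, hmod _ hk₂]
    have : Commute (k₂ ^ v.2.val) (k₁ ^ w.1.val) := Commute.pow_pow hc12.symm _ _
    calc k₁ ^ v.1.val * k₁ ^ w.1.val * (k₂ ^ v.2.val * k₂ ^ w.2.val)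
        = k₁ ^ v.1.val * (k₁ ^ w.1.val * k₂ ^ v.2.val) * k₂ ^ w.2.val := by group
      _ = k₁ ^ v.1.val * (k₂ ^ v.2.val * k₁ ^ w.1.val) * k₂ ^ w.2.val := by rw [this.eq]
      _ = _ := by group
  have hf0 : f 0 = 1 := by simp [f]
  have hker : ∀ v, f v = 1 → v = 0 := by
    rintro ⟨i, j⟩ h
    have h1 : k₁ ^ i.val * k₂ ^ j.val = 1 := h
    have hj : j = 0 := by
      by_contra hj
      apply hk₂'
      have h2 : k₂ ^ j.val ∈ zpowers k₁ := by
        have : k₂ ^ j.val = (k₁ ^ i.val)⁻¹ := by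
          rw [eq_inv_iff_mul_eq_one, ← (Commute.pow_pow hc12 _ _ : Commute (k₁ ^ i.val) (k₂ ^ j.val)).eq]
          exact h1
        rw [this]
        exact inv_mem (pow_mem (mem_zpowers _) _)
      have hj2 : j.val = 1 ∨ j.val = 2 := by
        have h5 := ZMod.val_lt j
        have h6 : j.val ≠ 0 := by rwa [Ne, ZMod.val_eq_zero]
        omega
      rcases hj2 with h5 | h5
      · rw [h5, pow_one] at h2; exact h2
      · rw [h5] at h2
        have h6 : k₂ = (k₂ ^ 2) ^ 2 := by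
          calc k₂ = k₂ * 1 := (mul_one _).symm
            _ = k₂ * k₂ ^ 3 := by rw [h3 _ hk₂]
            _ = (k₂ ^ 2) ^ 2 := by group
        rw [h6]
        exact pow_mem h2 2
    subst hj
    have hi : i = 0 := by
      by_contra hi
      have h2 : k₁ ^ i.val = 1 := by simpa using h1
      have h7 : orderOf k₁ = 3 := orderOf_eq_prime (h3 _ hk₁) hk₁1
      have h8 := orderOf_dvd_of_pow_eq_one h2
      rw [h7] at h8
      have h9 := ZMod.val_lt i
      have h10 : i.val ≠ 0 := by rwa [Ne, ZMod.val_eq_zero]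
      have := Nat.le_of_dvd (by omega) h8
      omega
    rw [hi]; rfl
  have hinj : Function.Injective f := by
    intro v w h
    have h1 : f (v - w) * f w = f w := by rw [← hadd, sub_add_cancel, h]
    have h2 : f (v - w) = 1 := by
      simpa using h1
    exact sub_eq_zero.1 (hker _ h2)
  have hmem : ∀ v, f v ∈ P := fun v => mul_mem (pow_mem hk₁ _) (pow_mem hk₂ _)
  refine ⟨f, hadd, hinj, hmem, ?_⟩
  have hbij : Function.Bijective (fun v => (⟨f v, hmem v⟩ : (P : Subgroup G))) := by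
    rw [Nat.bijective_iff_injective_and_card]
    refine ⟨fun v w h => hinj (congrArg Subtype.val h), ?_⟩
    rw [hc9, Nat.card_prod, Nat.card_zmod]
  intro x hx
  obtain ⟨v, hv⟩ := hbij.2 ⟨x, hx⟩
  exact ⟨v, congrArg Subtype.val hv⟩

theorem f_zero {f : ZMod 3 × ZMod 3 → G} (hadd : ∀ v w, f (v + w) = f v * f w) : f 0 = 1 := by
  have h := hadd 0 0
  rw [add_zero] at h
  exact (mul_eq_left.1 h.symm)

theorem f_pow {f : ZMod 3 × ZMod 3 → G} (hadd : ∀ v w, f (v + w) = f v * f w) (a : ZMod 3) (v : ZMod 3 × ZMod 3) :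
    f (a * v.1, a * v.2) = f v ^ a.val := by
  have h1 : ∀ k : ℕ, f ((k : ZMod 3) * v.1, (k : ZMod 3) * v.2) = f v ^ k := by
    intro k
    induction k with
    | zero =>
      rw [pow_zero, ← f_zero hadd]
      congr 1
      ext <;> simp
    | succ k ih =>
      rw [pow_succ, ← ih, ← hadd]
      congr 1
      ext <;> simp [add_mul]
  rw [← h1]
  simp


theorem exists_act (P : Sylow 3 G) {f : ZMod 3 × ZMod 3 → G} (hadd : ∀ v w, f (v + w) = f v * f w)
    (hinj : Function.Injective f) (hmem : ∀ v, f v ∈ P) (hsurj : ∀ x ∈ P, ∃ v, f v = x) {n : G}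
    (hn : n ∈ normalizer ((P : Subgroup G) : Set G)) :
    ∃ a b c d : ZMod 3, a * d - b * c ≠ 0 ∧ ∀ v, n * f v * n⁻¹ = f (act a b c d v) := by
  obtain ⟨⟨a, b⟩, h1⟩ := hsurj (n * f (1, 0) * n⁻¹) ((mem_normalizer_iff.1 hn _).1 (hmem _))
  obtain ⟨⟨c, d⟩, h2⟩ := hsurj (n * f (0, 1) * n⁻¹) ((mem_normalizer_iff.1 hn _).1 (hmem _))
  have hact : ∀ v, n * f v * n⁻¹ = f (act a b c d v) := by
    intro v
    have e1 : f v = f (1, 0) ^ v.1.val * f (0, 1) ^ v.2.val := by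
      rw [← f_pow hadd, ← f_pow hadd, ← hadd]
      congr 1
      ext <;> simp
    have e2 : n * f v * n⁻¹ = (n * f (1, 0) * n⁻¹) ^ v.1.val * (n * f (0, 1) * n⁻¹) ^ v.2.val := by
      rw [e1, conj_pow, conj_pow]
      group
    rw [e2, ← h1, ← h2, ← f_pow hadd, ← f_pow hadd, ← hadd]
    congr 1
    ext
    · show v.1 * a + v.2 * c = a * v.1 + c * v.2
      ring
    · show v.1 * b + v.2 * d = b * v.1 + d * v.2
      ring
  refine ⟨a, b, c, d, ?_, hact⟩
  intro h0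
  obtain ⟨v, hv, hv0⟩ := dec0 a b c d h0
  apply hv
  apply hinj
  have h5 := hact v
  rw [hv0, f_zero hadd] at h5
  rw [f_zero hadd]
  calc f v = n⁻¹ * (n * f v * n⁻¹) * n := by group
    _ = 1 := by rw [h5]; group

theorem iter_act {f : ZMod 3 × ZMod 3 → G} {n : G} {a b c d : ZMod 3}
    (hact : ∀ v, n * f v * n⁻¹ = f (act a b c d v)) (k : ℕ) (v : ZMod 3 × ZMod 3) :
    n ^ k * f v * (n ^ k)⁻¹ = f ((act a b c d)^[k] v) := by
  induction k with
  | zero => simp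
  | succ k ih =>
    rw [Function.iterate_succ_apply', ← hact, ← ih, pow_succ']
    group

theorem class_le_two (P : Sylow 3 G) {x₁ x₂ : G} (h : ∀ w ∈ P, w ≠ 1 → ∃ g : G, w = g * x₁ * g⁻¹ ∨ w = g * x₂ * g⁻¹) :
    Nat.card {C : ConjClasses G // ∃ g ∈ C.carrier, g ≠ 1 ∧ orderOf g ∣ 9} ≤ 2 := by
  classical
  have : Fact (Nat.Prime 3) := ⟨Nat.prime_three⟩
  have key : ∀ C : {C : ConjClasses G // ∃ g ∈ C.carrier, g ≠ 1 ∧ orderOf g ∣ 9},
      C.1 = ConjClasses.mk x₁ ∨ C.1 = ConjClasses.mk x₂ := by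
    rintro ⟨C, g, hg, hg1, hg9⟩
    have h1 : IsPGroup 3 (zpowers g) := by
      obtain ⟨j, -, hj⟩ := (Nat.dvd_prime_pow Nat.prime_three).1 (show orderOf g ∣ 3 ^ 2 by simpa using hg9)
      exact IsPGroup.of_card (n := j) (by rw [Nat.card_zpowers, hj])
    obtain ⟨x, hx⟩ := H9.exists_conj_smul_le_sylow h1 P
    have h2 : x * g * x⁻¹ ∈ (P : Subgroup G) := H9.conj_smul_le_iff.1 hx g (mem_zpowers g)
    have h3 : x * g * x⁻¹ ≠ 1 := by
      intro h
      apply hg1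
      calc g = x⁻¹ * (x * g * x⁻¹) * x := by group
        _ = 1 := by rw [h]; group
    have hC : C = ConjClasses.mk g := (ConjClasses.mem_carrier_iff_mk_eq.1 hg).symm
    obtain ⟨y, hy | hy⟩ := h _ h2 h3
    · left
      show C = _
      rw [hC, ConjClasses.mk_eq_mk_iff_isConj, isConj_comm, isConj_iff]
      refine ⟨x⁻¹ * y, ?_⟩
      calc x⁻¹ * y * x₁ * (x⁻¹ * y)⁻¹ = x⁻¹ * (y * x₁ * y⁻¹) * x := by group
        _ = x⁻¹ * (x * g * x⁻¹) * x := by rw [← hy]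
        _ = g := by group
    · right
      show C = _
      rw [hC, ConjClasses.mk_eq_mk_iff_isConj, isConj_comm, isConj_iff]
      refine ⟨x⁻¹ * y, ?_⟩
      calc x⁻¹ * y * x₂ * (x⁻¹ * y)⁻¹ = x⁻¹ * (y * x₂ * y⁻¹) * x := by group
        _ = x⁻¹ * (x * g * x⁻¹) * x := by rw [← hy]
        _ = g := by group
  have hb : Nat.card Bool = 2 := by simp
  rw [← hb]
  apply Nat.card_le_card_of_injective (fun C : {C : ConjClasses G // ∃ g ∈ C.carrier, g ≠ 1 ∧ orderOf g ∣ 9} =>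
    decide (C.1 = ConjClasses.mk x₁))
  intro C D hCD
  simp only [decide_eq_decide] at hCD
  apply Subtype.ext
  by_cases hC : C.1 = ConjClasses.mk x₁
  · rw [hC, hCD.1 hC]
  · have hD : D.1 ≠ ConjClasses.mk x₁ := fun hD => hC (hCD.2 hD)
    rw [(key C).resolve_left hC, (key D).resolve_left hD]

theorem sq_noncyc (P : Sylow 3 G) (hcomm : ∀ x ∈ P, ∀ y ∈ P, x * y = y * x) (hc9 : Nat.card (P : Subgroup G) = 9)
    (hnc : ¬ IsCyclic (P : Subgroup G))
    (h3 : 3 ≤ Nat.card {C : ConjClasses G // ∃ g ∈ C.carrier, g ≠ 1 ∧ orderOf g ∣ 9}) {n : G}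
    (hn : n ∈ normalizer ((P : Subgroup G) : Set G)) : n ^ 2 ∈ centralizer ((P : Subgroup G) : Set G) := by
  obtain ⟨-, f, hadd, hinj, hmem, hsurj⟩ := exists_isoish P hcomm hc9 hnc
  obtain ⟨a, b, c, d, hdet, hact⟩ := exists_act P hadd hinj hmem hsurj hn
  obtain ⟨k, hk, hkc⟩ := exists_pow_centralizes P hcomm hn
  rcases dec1 a b c d hdet with h6 | h2 | ⟨v2, hv2, horb⟩
  · apply sq_mem hk (mem_cent.2 hkc)
    rw [mem_cent]
    intro x hx
    obtain ⟨v, rfl⟩ := hsurj x hx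
    rw [iter_act hact, h6]
  · rw [mem_cent]
    intro x hx
    obtain ⟨v, rfl⟩ := hsurj x hx
    rw [iter_act hact, h2]
  · exfalso
    have := class_le_two P (x₁ := f (1, 0)) (x₂ := f v2) (by
      intro w hw hw1
      obtain ⟨v, rfl⟩ := hsurj w hw
      have hv : v ≠ 0 := by
        rintro rfl
        exact hw1 (f_zero hadd)
      obtain ⟨i, hi | hi⟩ := horb v hv
      · exact ⟨n ^ i.1, Or.inl (by rw [iter_act hact, ← hi])⟩
      · exact ⟨n ^ i.1, Or.inr (by rw [iter_act hact, ← hi])⟩)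
    omega

theorem dich_cyc (P : Sylow 3 G) (hcomm : ∀ x ∈ P, ∀ y ∈ P, x * y = y * x) (hc9 : Nat.card (P : Subgroup G) = 9)
    (hc : IsCyclic (P : Subgroup G)) {n : G} (hn : n ∈ normalizer ((P : Subgroup G) : Set G)) :
    (∀ x ∈ P, n * x * n⁻¹ = x) ∨ (∀ x ∈ P, n * x * n⁻¹ = x⁻¹) := by
  obtain ⟨⟨g, hg⟩, hgen⟩ := hc.exists_generator
  have hgen' : ∀ x ∈ P, ∃ k : ℕ, g ^ k = x := by
    intro x hx
    obtain ⟨k, hk⟩ := mem_powers_iff_mem_zpowers.2 (hgen ⟨x, hx⟩)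
    exact ⟨k, congrArg Subtype.val hk⟩
  have hog : orderOf g = 9 := by
    have h1 : orderOf (⟨g, hg⟩ : (P : Subgroup G)) = 9 := by
      rw [← hc9]
      exact orderOf_eq_card_of_forall_mem_zpowers hgen
    rwa [Subgroup.orderOf_mk] at h1
  obtain ⟨j, hj⟩ := hgen' (n * g * n⁻¹) ((mem_normalizer_iff.1 hn _).1 hg)
  set i := j % 9 with hi
  have hgi : n * g * n⁻¹ = g ^ i := by
    rw [← hj, hi, ← hog, pow_mod_orderOf]
  have hi9 : i < 9 := Nat.mod_lt _ (by norm_num)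
  have hpow : ∀ k, n ^ k * g * (n ^ k)⁻¹ = g ^ (i ^ k) := by
    intro k
    induction k with
    | zero => simp
    | succ k ih =>
      have : n ^ (k + 1) * g * (n ^ (k + 1))⁻¹ = n * (n ^ k * g * (n ^ k)⁻¹) * n⁻¹ := by
        rw [pow_succ']; group
      rw [this, ih, ← conj_pow, hgi, ← pow_mul, pow_succ, mul_comm]
  have hall : ∀ m : G, m * g * m⁻¹ = g → m ∈ centralizer ((P : Subgroup G) : Set G) := by
    intro m hm
    rw [mem_cent]
    intro x hx
    obtain ⟨k, rfl⟩ := hgen' x hx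
    rw [← conj_pow, hm]
  have hi3 : i % 3 ≠ 0 := by
    intro h0
    obtain ⟨l, hl⟩ := Nat.dvd_of_mod_eq_zero h0
    have h1 : (n * g * n⁻¹) ^ 3 = 1 := by
      rw [hgi, ← pow_mul, hl, show 3 * l * 3 = 9 * l by ring, ← hog, pow_mul, pow_orderOf_eq_one, one_pow]
    rw [conj_pow] at h1
    have h2 : g ^ 3 = 1 := by
      calc g ^ 3 = n⁻¹ * (n * g ^ 3 * n⁻¹) * n := by group
        _ = 1 := by rw [h1]; group
    have h4 := orderOf_dvd_of_pow_eq_one h2
    rw [hog] at h4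
    norm_num at h4
  have h6 : n ^ 6 ∈ centralizer ((P : Subgroup G) : Set G) := by
    apply hall
    rw [hpow]
    have h1 := (dec9 ⟨i, hi9⟩).resolve_left hi3
    simp only at h1
    rw [← pow_mod_orderOf, hog, h1, pow_one]
  obtain ⟨k, hk, hkc⟩ := exists_pow_centralizes P hcomm hn
  have h2 := sq_mem hk (mem_cent.2 hkc) h6
  have h5 : g ^ (i ^ 2) = g := by
    rw [← hpow]
    exact mem_cent.1 h2 g hg
  have h7 : i ^ 2 % 9 = 1 := by
    have h8 : g ^ (i ^ 2) = g ^ 1 := by rw [h5, pow_one]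
    rw [pow_inj_mod, hog] at h8
    simpa using h8
  rcases dec9' ⟨i, hi9⟩ h7 with h8 | h8
  · left
    simp only at h8
    rw [h8, pow_one] at hgi
    exact mem_cent.1 (hall _ hgi)
  · right
    simp only at h8
    have h9 : n * g * n⁻¹ = g⁻¹ := by
      rw [hgi, h8, eq_inv_iff_mul_eq_one, ← pow_succ]
      have h10 := pow_orderOf_eq_one g
      rw [hog] at h10
      exact h10
    intro x hx
    obtain ⟨k, rfl⟩ := hgen' x hx
    rw [← conj_pow, h9, inv_pow]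

/-- `C_P(N_G(P)) = 1` -/
theorem fixed_one [IsSimpleGroup G] (hG : ¬ IsMulCommutative G) (P : Sylow 3 G)
    (hcomm : ∀ x ∈ P, ∀ y ∈ P, x * y = y * x) {x : G} (hx : x ∈ P)
    (hfix : ∀ n ∈ normalizer ((P : Subgroup G) : Set G), n * x * n⁻¹ = x) : x = 1 := by
  have : Fact (Nat.Prime 3) := ⟨Nat.prime_three⟩
  have hP : IsMulCommutative (P : Subgroup G) := ⟨⟨fun a b => Subtype.ext (hcomm a a.2 b b.2)⟩⟩
  obtain ⟨N, hN, ⟨e⟩⟩ := Cfsg.Agent.S0105.result P hP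
  rcases hN.eq_bot_or_eq_top with h | h
  · exfalso
    apply hG
    subst h
    have e' := (QuotientGroup.quotientBot (G := G)).symm.trans e
    refine ⟨⟨fun a b => ?_⟩⟩
    apply e'.injective
    rw [map_mul, map_mul]
    apply Subtype.ext
    exact hcomm _ (e' a).2.1 _ (e' b).2.1
  · subst h
    have h1 : ∀ y : ((P : Subgroup G) ⊓ Subgroup.centralizer (Subgroup.normalizer (P : Set G) : Set G) : Subgroup G), y = 1 := by
      intro y
      obtain ⟨z, rfl⟩ := e.surjective y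
      have : z = 1 := by
        obtain ⟨w, rfl⟩ := QuotientGroup.mk_surjective z
        exact (QuotientGroup.eq_one_iff w).2 (mem_top _)
      rw [this, map_one]
    have h2 : x ∈ ((P : Subgroup G) ⊓ Subgroup.centralizer (Subgroup.normalizer (P : Set G) : Set G) : Subgroup G) := by
      refine ⟨hx, mem_centralizer_iff.2 ?_⟩
      intro n hn
      have := hfix n hn
      calc n * x = (n * x * n⁻¹) * n := by group
        _ = x * n := by rw [this]
    exact congrArg Subtype.val (h1 ⟨x, h2⟩)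

theorem no_plength [IsSimpleGroup G] (h3 : 3 ∣ Nat.card G) (hp : ¬ IsPGroup 3 G) : ¬ Cfsg.PLengthLE 3 1 G := by
  have : Fact (Nat.Prime 3) := ⟨Nat.prime_three⟩
  have key : ∀ n, (Cfsg.upperPSeries 3 G n).1 = ⊥ := by
    intro n
    induction n with
    | zero => rfl
    | succ n ih =>
      have hn : ((Cfsg.upperPSeries 3 G (n + 1)).1).Normal := (Cfsg.upperPSeries 3 G (n + 1)).2
      rcases hn.eq_bot_or_eq_top with h | h
      · exact h
      · exfalso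
        have hcard : Nat.card (G ⧸ (Cfsg.upperPSeries 3 G n).1) = Nat.card G := by
          have h1 := (Cfsg.upperPSeries 3 G n).1.card_eq_card_quotient_mul_card_subgroup
          have h2 : Nat.card (Cfsg.upperPSeries 3 G n).1 = 1 := by rw [ih, card_bot]
          rw [h2, mul_one] at h1
          exact h1.symm
        by_cases he : Even n
        · have h1 : (Cfsg.pPrimeCore 3 (G ⧸ (Cfsg.upperPSeries 3 G n).1)) = ⊤ := by
            rw [Cfsg.upperPSeries] at h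
            simp only [he, if_true] at h
            rw [← Subgroup.map_comap_eq_self_of_surjective (QuotientGroup.mk'_surjective (Cfsg.upperPSeries 3 G n).1)
              (Cfsg.pPrimeCore 3 (G ⧸ (Cfsg.upperPSeries 3 G n).1)), h]
            exact Subgroup.map_top_of_surjective _ (QuotientGroup.mk'_surjective _)
          have h2 := Cfsg.Agent.Solv.pPrimeCore_card_coprime (G := G ⧸ (Cfsg.upperPSeries 3 G n).1) 3
          rw [h1, card_top, hcard] at h2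
          have := Nat.Coprime.eq_one_of_dvd (h2.symm) h3
          norm_num at this
        · have h1 : (Cfsg.pCore 3 (G ⧸ (Cfsg.upperPSeries 3 G n).1)) = ⊤ := by
            rw [Cfsg.upperPSeries] at h
            simp only [he, if_false] at h
            rw [← Subgroup.map_comap_eq_self_of_surjective (QuotientGroup.mk'_surjective (Cfsg.upperPSeries 3 G n).1)
              (Cfsg.pCore 3 (G ⧸ (Cfsg.upperPSeries 3 G n).1)), h]
            exact Subgroup.map_top_of_surjective _ (QuotientGroup.mk'_surjective _)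
          have h2 := Cfsg.Agent.Fus.isPGroup_pCore 3 (G ⧸ (Cfsg.upperPSeries 3 G n).1)
          obtain ⟨m, hm⟩ := IsPGroup.iff_card.1 h2
          rw [h1, card_top, hcard] at hm
          exact hp (IsPGroup.of_card hm)
  intro h
  rw [Cfsg.PLengthLE, key] at h
  have : Nat.card G = 1 := by
    rw [← card_top (G := G), ← h, card_bot]
  rw [this] at h3
  norm_num at h3

theorem residual_top [IsSimpleGroup G] (hp : ¬ IsPGroup 3 G) : Cfsg.pResidual 3 G = ⊤ := by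
  have : Fact (Nat.Prime 3) := ⟨Nat.prime_three⟩
  have hn : (Cfsg.pResidual 3 G).Normal := Cfsg.Agent.Transfer.pResidual_normal 3
  rcases hn.eq_bot_or_eq_top with h | h
  · exfalso
    apply hp
    intro g
    have ho : orderOf g ≠ 0 := (orderOf_pos g).ne'
    refine ⟨(orderOf g).factorization 3, ?_⟩
    have h1 : Nat.Coprime (orderOf (g ^ 3 ^ (orderOf g).factorization 3)) 3 := by
      rw [orderOf_pow, Nat.gcd_eq_right (Nat.ordProj_dvd _ _)]
      exact (Nat.coprime_ordCompl Nat.prime_three ho).symm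
    have h2 : g ^ 3 ^ (orderOf g).factorization 3 ∈ Cfsg.pResidual 3 G := subset_closure h1
    rw [h] at h2
    exact mem_bot.1 h2
  · exact h


theorem index_two [IsSimpleGroup G] (hG : ¬ IsMulCommutative G) (P : Sylow 3 G)
    (hcomm : ∀ x ∈ P, ∀ y ∈ P, x * y = y * x) (hc9 : Nat.card (P : Subgroup G) = 9)
    (hd : ∀ n ∈ normalizer ((P : Subgroup G) : Set G), (∀ x ∈ P, n * x * n⁻¹ = x) ∨ (∀ x ∈ P, n * x * n⁻¹ = x⁻¹)) :
    (∃ t ∈ normalizer ((P : Subgroup G) : Set G), ∀ x ∈ P, t * x * t⁻¹ = x⁻¹) ∧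
    ((centralizer ((P : Subgroup G) : Set G)).subgroupOf (normalizer ((P : Subgroup G) : Set G))).index = 2 := by
  obtain ⟨x₀, hx₀, hx₀1⟩ : ∃ x ∈ P, x ≠ 1 := by
    by_contra hcon
    push Not at hcon
    have : (P : Subgroup G) = ⊥ := by
      rw [eq_bot_iff]; intro x hx; exact mem_bot.2 (hcon x hx)
    rw [this, card_bot] at hc9
    norm_num at hc9
  have ht : ∃ t ∈ normalizer ((P : Subgroup G) : Set G), ∀ x ∈ P, t * x * t⁻¹ = x⁻¹ := by
    by_contra hcon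
    push Not at hcon
    apply hx₀1
    apply fixed_one hG P hcomm hx₀
    intro n hn
    rcases hd n hn with h | h
    · exact h _ hx₀
    · obtain ⟨x, hx, hx'⟩ := hcon n hn
      exact absurd (h x hx) hx'
  refine ⟨ht, ?_⟩
  obtain ⟨t, ht, hti⟩ := ht
  rw [index_eq_two_iff]
  have hnot : ∀ m : G, (∀ x ∈ P, m * x * m⁻¹ = x⁻¹) → m ∉ centralizer ((P : Subgroup G) : Set G) := by
    intro m hm hmc
    have h1 := hm _ hx₀
    rw [mem_cent.1 hmc _ hx₀] at h1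
    have h2 : x₀ ^ 2 = 1 := by
      rw [pow_two]; nth_rewrite 2 [h1]; exact mul_inv_cancel x₀
    have h3 : x₀ ^ 9 = 1 := by
      have h4 : (⟨x₀, hx₀⟩ : (P : Subgroup G)) ^ 9 = 1 := by rw [← hc9]; exact pow_card_eq_one'
      exact congrArg Subtype.val h4
    apply hx₀1
    calc x₀ = x₀ ^ 9 * ((x₀ ^ 2) ^ 4)⁻¹ := by group
      _ = 1 := by rw [h3, h2]; simp
  refine ⟨⟨t, ht⟩, ?_⟩
  rintro ⟨b, hb⟩
  rw [mem_subgroupOf, mem_subgroupOf]
  show Xor (b * t ∈ centralizer ((P : Subgroup G) : Set G)) (b ∈ centralizer ((P : Subgroup G) : Set G))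
  rcases hd b hb with h | h
  · right
    refine ⟨mem_cent.2 h, ?_⟩
    apply hnot
    intro x hx
    calc b * t * x * (b * t)⁻¹ = b * (t * x * t⁻¹) * b⁻¹ := by group
      _ = x⁻¹ := by rw [hti x hx, h _ (inv_mem hx)]
  · left
    refine ⟨?_, hnot b h⟩
    rw [mem_cent]
    intro x hx
    calc b * t * x * (b * t)⁻¹ = b * (t * x * t⁻¹) * b⁻¹ := by group
      _ = x := by rw [hti x hx, h _ (inv_mem hx), inv_inv]

theorem cases {G : Type u} [Group G] [Finite G] [IsSimpleGroup G] (hG : ¬ IsMulCommutative G) (q a b : ℕ)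
    (hq : q.Prime) (hq2 : q ≠ 2) (hq3 : q ≠ 3) (hcard : Nat.card G = 9 * 2 ^ a * q ^ b)
    (h3 : 3 ≤ Nat.card {C : ConjClasses G // ∃ g ∈ C.carrier, g ≠ 1 ∧ orderOf g ∣ 9}) (P : Sylow 3 G) :
    (IsCyclic (P : Subgroup G) ∧
      (centralizer ((P : Subgroup G) : Set G)).relIndex (normalizer ((P : Subgroup G) : Set G)) = 2 ∧
      (∃ t : G, ∀ x ∈ P, t * x * t⁻¹ = x⁻¹) ∧
      ∀ n ∈ normalizer ((P : Subgroup G) : Set G), (∀ x ∈ P, n * x * n⁻¹ = x) ∨ (∀ x ∈ P, n * x * n⁻¹ = x⁻¹)) ∨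
    ∃ k1 k2 e1 e2 : G, K3.V4Sit P k1 k2 e1 e2 := by
  have : Fact (Nat.Prime 3) := ⟨Nat.prime_three⟩
  have hc9 := card_nine hq hq3 hcard P
  have hcomm' : ∀ x y : (P : Subgroup G), x * y = y * x := by
    have h1 : Nat.card (P : Subgroup G) = 3 ^ 2 := by rw [hc9]; norm_num
    exact (IsPGroup.isMulCommutative_of_card_eq_prime_sq h1).is_comm.comm
  have hcomm : ∀ x ∈ P, ∀ y ∈ P, x * y = y * x := fun x hx y hy => congrArg Subtype.val (hcomm' ⟨x, hx⟩ ⟨y, hy⟩)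
  have h3c : 3 ∣ Nat.card G := ⟨3 * 2 ^ a * q ^ b, by rw [hcard]; ring⟩
  have hnp : ¬ IsPGroup 3 G := by
    intro h
    apply hG
    have h1 : (P : Subgroup G) = ⊤ := by
      apply P.3 (IsPGroup.of_equiv h (Subgroup.topEquiv (G := G)).symm) le_top |>.symm
    refine ⟨⟨fun x y => ?_⟩⟩
    have hx : x ∈ (P : Subgroup G) := by rw [h1]; exact mem_top x
    have hy : y ∈ (P : Subgroup G) := by rw [h1]; exact mem_top y
    exact hcomm x hx y hy
  by_cases hd : ∀ n ∈ normalizer ((P : Subgroup G) : Set G), (∀ x ∈ P, n * x * n⁻¹ = x) ∨ (∀ x ∈ P, n * x * n⁻¹ = x⁻¹)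
  · obtain ⟨⟨t, ht, hti⟩, hidx⟩ := index_two hG P hcomm hc9 hd
    by_cases hc : IsCyclic (P : Subgroup G)
    · exact Or.inl ⟨hc, hidx, ⟨t, hti⟩, hd⟩
    · exfalso
      have hab : IsMulCommutative (P : Subgroup G) := ⟨⟨hcomm'⟩⟩
      rcases Cfsg.Agent.S3347.result 3 (by norm_num) P hab hc hidx with h | h
      · exact h (residual_top hnp)
      · exact no_plength h3c hnp h
  · right
    have hnc : ¬ IsCyclic (P : Subgroup G) := by
      intro hc
      exact hd (fun n hn => dich_cyc P hcomm hc9 hc hn)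
    have hexp : ∀ x ∈ P, x ^ 3 = 1 := (exists_isoish P hcomm hc9 hnc).1
    push Not at hd
    obtain ⟨n, hn, ⟨x, hx, hx'⟩, ⟨y, hy, hy'⟩⟩ := hd
    have hsq : ∀ m ∈ normalizer ((P : Subgroup G) : Set G), ∀ z ∈ P, m * (m * z * m⁻¹) * m⁻¹ = z := by
      intro m hm z hz
      have h1 := mem_cent.1 (sq_noncyc P hcomm hc9 hnc h3 hm) z hz
      calc m * (m * z * m⁻¹) * m⁻¹ = m ^ 2 * z * (m ^ 2)⁻¹ := by simp only [pow_two, mul_inv_rev, mul_assoc]
        _ = z := h1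
    have hmemn : ∀ m ∈ normalizer ((P : Subgroup G) : Set G), ∀ z ∈ P, m * z * m⁻¹ ∈ P :=
      fun m hm z hz => (mem_normalizer_iff.1 hm _).1 hz
    obtain ⟨k₁, hk₁d⟩ : ∃ k, k = x⁻¹ * (n * x * n⁻¹) := ⟨_, rfl⟩
    obtain ⟨k₂, hk₂d⟩ : ∃ k, k = y * (n * y * n⁻¹) := ⟨_, rfl⟩
    have hk₁ : k₁ ∈ P := by rw [hk₁d]; exact mul_mem (inv_mem hx) (hmemn n hn x hx)
    have hk₂ : k₂ ∈ P := by rw [hk₂d]; exact mul_mem hy (hmemn n hn y hy)
    have a₁ : n * k₁ * n⁻¹ = k₁⁻¹ := by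
      calc n * k₁ * n⁻¹ = (n * x * n⁻¹)⁻¹ * (n * (n * x * n⁻¹) * n⁻¹) := by rw [hk₁d]; group
        _ = (n * x * n⁻¹)⁻¹ * x := by rw [hsq n hn x hx]
        _ = k₁⁻¹ := by rw [hk₁d]; group
    have a₂ : n * k₂ * n⁻¹ = k₂ := by
      calc n * k₂ * n⁻¹ = (n * y * n⁻¹) * (n * (n * y * n⁻¹) * n⁻¹) := by rw [hk₂d]; group
        _ = (n * y * n⁻¹) * y := by rw [hsq n hn y hy]
        _ = k₂ := by rw [hk₂d, hcomm _ (hmemn n hn y hy) _ hy]
    have hk₁1 : k₁ ≠ 1 := by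
      intro h
      rw [hk₁d] at h
      exact hx' ((inv_mul_eq_one.1 h).symm)
    have hk₂1 : k₂ ≠ 1 := by
      intro h
      rw [hk₂d] at h
      exact hy' (eq_inv_of_mul_eq_one_right h)
    have o₁ : orderOf k₁ = 3 := orderOf_eq_prime (hexp _ hk₁) hk₁1
    have o₂ : orderOf k₂ = 3 := orderOf_eq_prime (hexp _ hk₂) hk₂1
    -- fixed and inverted elements are trivial
    have hfi : ∀ z ∈ P, n * z * n⁻¹ = z → n * z * n⁻¹ = z⁻¹ → z = 1 := by
      intro z hz h1 h2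
      rw [h1] at h2
      have h4 : z ^ 2 = 1 := by rw [pow_two]; nth_rewrite 2 [h2]; exact mul_inv_cancel z
      calc z = z ^ 3 * (z ^ 2)⁻¹ := by group
        _ = 1 := by rw [h4, hexp z hz]; simp
    have hinj : Function.Injective (fun v : Fin 3 × Fin 3 => (⟨k₁ ^ v.1.1 * k₂ ^ v.2.1, mul_mem (pow_mem hk₁ _) (pow_mem hk₂ _)⟩ : (P : Subgroup G))) := by
      rintro ⟨i, j⟩ ⟨i', j'⟩ h
      have h1 : k₁ ^ i.1 * k₂ ^ j.1 = k₁ ^ i'.1 * k₂ ^ j'.1 := congrArg Subtype.val h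
      have h2 : (k₁ ^ i'.1)⁻¹ * k₁ ^ i.1 = k₂ ^ j'.1 * (k₂ ^ j.1)⁻¹ := by
        calc (k₁ ^ i'.1)⁻¹ * k₁ ^ i.1 = (k₁ ^ i'.1)⁻¹ * (k₁ ^ i.1 * k₂ ^ j.1) * (k₂ ^ j.1)⁻¹ := by group
          _ = _ := by rw [h1]; group
      have h3' : (k₁ ^ i'.1)⁻¹ * k₁ ^ i.1 = 1 := by
        apply hfi _ (mul_mem (inv_mem (pow_mem hk₁ _)) (pow_mem hk₁ _))
        · rw [h2]
          calc n * (k₂ ^ j'.1 * (k₂ ^ j.1)⁻¹) * n⁻¹ = (n * k₂ * n⁻¹) ^ j'.1 * ((n * k₂ * n⁻¹) ^ j.1)⁻¹ := by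
                rw [conj_pow, conj_pow]; group
            _ = _ := by rw [a₂]
        · calc n * ((k₁ ^ i'.1)⁻¹ * k₁ ^ i.1) * n⁻¹ = ((n * k₁ * n⁻¹) ^ i'.1)⁻¹ * (n * k₁ * n⁻¹) ^ i.1 := by
                rw [conj_pow, conj_pow]; group
            _ = ((k₁ ^ i'.1)⁻¹ * k₁ ^ i.1)⁻¹ := by
                rw [a₁, mul_inv_rev, inv_inv, inv_pow, inv_pow, inv_inv]
                exact (Commute.pow_pow (Commute.refl k₁) _ _).inv_right.eq
      have h4 : k₁ ^ i.1 = k₁ ^ i'.1 := by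
        rw [inv_mul_eq_one] at h3'; exact h3'.symm
      have h5 : k₂ ^ j.1 = k₂ ^ j'.1 := by
        rw [h4] at h1
        exact mul_left_cancel h1
      have hi : i = i' := by
        rw [pow_inj_mod, o₁, Nat.mod_eq_of_lt i.2, Nat.mod_eq_of_lt i'.2] at h4
        exact Fin.ext h4
      have hj : j = j' := by
        rw [pow_inj_mod, o₂, Nat.mod_eq_of_lt j.2, Nat.mod_eq_of_lt j'.2] at h5
        exact Fin.ext h5
      rw [hi, hj]
    have hgen : ∀ z ∈ P, ∃ i j : ℕ, z = k₁ ^ i * k₂ ^ j := by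
      have hbij := (Nat.bijective_iff_injective_and_card (fun v : Fin 3 × Fin 3 => (⟨k₁ ^ v.1.1 * k₂ ^ v.2.1, mul_mem (pow_mem hk₁ _) (pow_mem hk₂ _)⟩ : (P : Subgroup G)))).2
        ⟨hinj, by rw [hc9, Nat.card_prod, Nat.card_fin]⟩
      intro z hz
      obtain ⟨⟨i, j⟩, h⟩ := hbij.2 ⟨z, hz⟩
      exact ⟨i.1, j.1, (congrArg Subtype.val h).symm⟩
    -- the eigenspaces
    have hminus : ∀ z ∈ P, n * z * n⁻¹ = z⁻¹ → ∃ i : ℕ, z = k₁ ^ i := by
      intro z hz h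
      obtain ⟨i, j, rfl⟩ := hgen z hz
      have h1 : n * (k₁ ^ i * k₂ ^ j) * n⁻¹ = (k₁ ^ i)⁻¹ * k₂ ^ j := by
        calc n * (k₁ ^ i * k₂ ^ j) * n⁻¹ = (n * k₁ * n⁻¹) ^ i * (n * k₂ * n⁻¹) ^ j := by
              rw [conj_pow, conj_pow]; group
          _ = _ := by rw [a₁, a₂, inv_pow]
      rw [h1, mul_inv_rev, (Commute.pow_pow (hcomm _ hk₁ _ hk₂ : Commute k₁ k₂) i j).inv_inv.symm.eq] at h
      have h2 : k₂ ^ j = (k₂ ^ j)⁻¹ := mul_left_cancel h
      have h4 : k₂ ^ j = 1 := by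
        apply hfi _ (pow_mem hk₂ _)
        · rw [← conj_pow, a₂]
        · rw [← conj_pow, a₂]
          exact h2
      exact ⟨i, by rw [h4, mul_one]⟩
    have hplus : ∀ z ∈ P, n * z * n⁻¹ = z → ∃ j : ℕ, z = k₂ ^ j := by
      intro z hz h
      obtain ⟨i, j, rfl⟩ := hgen z hz
      have h1 : n * (k₁ ^ i * k₂ ^ j) * n⁻¹ = (k₁ ^ i)⁻¹ * k₂ ^ j := by
        calc n * (k₁ ^ i * k₂ ^ j) * n⁻¹ = (n * k₁ * n⁻¹) ^ i * (n * k₂ * n⁻¹) ^ j := by
              rw [conj_pow, conj_pow]; group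
          _ = _ := by rw [a₁, a₂, inv_pow]
      rw [h1] at h
      have h2 : (k₁ ^ i)⁻¹ = k₁ ^ i := mul_right_cancel h
      have h4 : k₁ ^ i = 1 := by
        have h5 : n * k₁ ^ i * n⁻¹ = (k₁ ^ i)⁻¹ := by rw [← conj_pow, a₁, inv_pow]
        apply hfi _ (pow_mem hk₁ _)
        · rw [h5, h2]
        · exact h5
      exact ⟨j, by rw [h4, one_mul]⟩
    have hone : ∀ k ∈ P, k ≠ 1 → ∀ i : ℕ, k ^ i ≠ 1 → k ^ i = k ∨ k ^ i = k⁻¹ := by
      intro k hk hk1 i hi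
      have h1 := hexp k hk
      have h2 : i = 3 * (i / 3) + i % 3 := (Nat.div_add_mod i 3).symm
      rw [h2, pow_add, pow_mul, h1, one_pow, one_mul] at hi ⊢
      have h4 : i % 3 = 0 ∨ i % 3 = 1 ∨ i % 3 = 2 := by omega
      rcases h4 with h | h | h
      · rw [h] at hi; simp at hi
      · left; rw [h, pow_one]
      · right
        rw [h, eq_inv_iff_mul_eq_one, ← pow_succ, h1]
    have hconj1 : ∀ (m k : G), k ≠ 1 → m * k * m⁻¹ ≠ 1 := by
      intro m k hk h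
      apply hk
      calc k = m⁻¹ * (m * k * m⁻¹) * m := by group
        _ = 1 := by rw [h]; group
    -- commuting of the actions
    have hcomm2 : ∀ m ∈ normalizer ((P : Subgroup G) : Set G), ∀ z ∈ P, n * (m * z * m⁻¹) * n⁻¹ = m * (n * z * n⁻¹) * m⁻¹ := by
      intro m hm z hz
      have h1 := hsq (n * m) (mul_mem hn hm) z hz
      have h2 : n * (m * (n * (m * z * m⁻¹) * n⁻¹) * m⁻¹) * n⁻¹ = z := by
        calc n * (m * (n * (m * z * m⁻¹) * n⁻¹) * m⁻¹) * n⁻¹ = n * m * (n * m * z * (n * m)⁻¹) * (n * m)⁻¹ := by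
              simp only [mul_inv_rev, mul_assoc]
          _ = z := h1
      have h4 : m * (n * (m * z * m⁻¹) * n⁻¹) * m⁻¹ = n * z * n⁻¹ := by
        have h5 := hsq n hn (m * (n * (m * z * m⁻¹) * n⁻¹) * m⁻¹) (hmemn m hm _ (hmemn n hn _ (hmemn m hm _ hz)))
        rw [h2] at h5
        exact h5.symm
      have h6 := hsq m hm (n * (m * z * m⁻¹) * n⁻¹) (hmemn n hn _ (hmemn m hm _ hz))
      rw [h4] at h6
      exact h6.symm
    have hnrm : ∀ m ∈ normalizer ((P : Subgroup G) : Set G),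
        (m * k₁ * m⁻¹ = k₁ ∨ m * k₁ * m⁻¹ = k₁⁻¹) ∧ (m * k₂ * m⁻¹ = k₂ ∨ m * k₂ * m⁻¹ = k₂⁻¹) := by
      intro m hm
      constructor
      · obtain ⟨i, hi⟩ := hminus (m * k₁ * m⁻¹) (hmemn m hm _ hk₁) (by
          rw [hcomm2 m hm _ hk₁, a₁]; group)
        rw [hi]
        apply hone _ hk₁ hk₁1
        rw [← hi]
        exact hconj1 m _ hk₁1
      · obtain ⟨i, hi⟩ := hplus (m * k₂ * m⁻¹) (hmemn m hm _ hk₂) (by
          rw [hcomm2 m hm _ hk₂, a₂])
        rw [hi]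
        apply hone _ hk₂ hk₂1
        rw [← hi]
        exact hconj1 m _ hk₂1
    obtain ⟨m, hm, hmk₂⟩ : ∃ m ∈ normalizer ((P : Subgroup G) : Set G), m * k₂ * m⁻¹ = k₂⁻¹ := by
      by_contra hcon
      push Not at hcon
      apply hk₂1
      apply fixed_one hG P hcomm hk₂
      intro m hm
      exact (hnrm m hm).2.resolve_right (hcon m hm)
    have hgo : ∃ e₂ : G, e₂ * k₁ * e₂⁻¹ = k₁ ∧ e₂ * k₂ * e₂⁻¹ = k₂⁻¹ := by
      rcases (hnrm m hm).1 with h | h
      · exact ⟨m, h, hmk₂⟩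
      · refine ⟨n * m, ?_, ?_⟩
        · calc n * m * k₁ * (n * m)⁻¹ = n * (m * k₁ * m⁻¹) * n⁻¹ := by group
            _ = (n * k₁ * n⁻¹)⁻¹ := by rw [h]; group
            _ = k₁ := by rw [a₁, inv_inv]
        · calc n * m * k₂ * (n * m)⁻¹ = n * (m * k₂ * m⁻¹) * n⁻¹ := by group
            _ = (n * k₂ * n⁻¹)⁻¹ := by rw [hmk₂]; group
            _ = k₂⁻¹ := by rw [a₂]
    obtain ⟨e₂, b₁, b₂⟩ := hgo
    exact ⟨k₁, k₂, n, e₂, hk₁, hk₂, o₁, o₂, hcomm _ hk₁ _ hk₂, hgen, hc9, a₁, a₂, b₁, b₂, hnrm⟩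

end Cfsg.Agent.H1.K3
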