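import Mathlib
import Cfsg.Agent.H1.Basic

/-!
A counting lemma on centres of Sylow normalizers.
-/

set_option autoImplicit false

namespace Cfsg.Agent.H1

open scoped Pointwise
open Cfsg

/-- `∑ 1/p² < 1/2` over a finite set of primes. -/
theorem sum_prime_inv_sq_lt (s : Finset ℕ) (hs : ∀ p ∈ s, p.Prime) :
    ∑ p ∈ s, (1 : ℚ) / (p : ℚ) ^ 2 < 1 / 2 := by
  have hodd : ∀ N : ℕ, ∑ k ∈ Finset.range N, (1 : ℚ) / ((2 * (k + 1) + 1 : ℕ) : ℚ) ^ 2 ≤
      1 / 4 * (1 - 1 / ((N : ℚ) + 1)) := by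
    intro N
    induction N with
    | zero => simp
    | succ N ih =>
      rw [Finset.sum_range_succ]
      have h1 : (1 : ℚ) / ((2 * (N + 1) + 1 : ℕ) : ℚ) ^ 2 ≤
          1 / 4 * (1 / ((N : ℚ) + 1) - 1 / ((N : ℚ) + 1 + 1)) := by
        have hN : (0 : ℚ) ≤ N := Nat.cast_nonneg N
        have h2 : 1 / 4 * (1 / ((N : ℚ) + 1) - 1 / ((N : ℚ) + 1 + 1)) =
            1 / (4 * (((N : ℚ) + 1) * ((N : ℚ) + 1 + 1))) := by
          field_simp
          ring
        rw [h2]
        apply one_div_le_one_div_of_le (by positivity)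
        push_cast
        nlinarith
      push_cast at h1 ih ⊢
      linarith
  obtain ⟨N, hN⟩ : ∃ N : ℕ, ∀ p ∈ s, p < N := ⟨s.sup id + 1, fun p hp =>
    Nat.lt_succ_of_le (Finset.le_sup (f := id) hp)⟩
  let f : ℕ → ℕ := fun k => 2 * (k + 1) + 1
  let T : Finset ℕ := (Finset.range N).image f
  have hT2 : (2 : ℕ) ∉ T := by
    intro h
    obtain ⟨k, -, hk⟩ := Finset.mem_image.mp h
    have : 2 * (k + 1) + 1 = 2 := hk
    omega
  have hsub : s ⊆ insert 2 T := by
    intro p hp
    rw [Finset.mem_insert, Finset.mem_image]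
    rcases (hs p hp).eq_two_or_odd' with h | h
    · exact Or.inl h
    · right
      obtain ⟨k, hk⟩ := h
      have hp1 : p ≠ 1 := (hs p hp).one_lt.ne'
      refine ⟨k - 1, ?_, ?_⟩
      · rw [Finset.mem_range]
        have := hN p hp
        omega
      · change 2 * (k - 1 + 1) + 1 = p
        omega
  have hTsum : ∑ p ∈ T, (1 : ℚ) / (p : ℚ) ^ 2 =
      ∑ k ∈ Finset.range N, (1 : ℚ) / ((2 * (k + 1) + 1 : ℕ) : ℚ) ^ 2 := by
    apply Finset.sum_image
    intro a _ b _ hab
    have : 2 * (a + 1) + 1 = 2 * (b + 1) + 1 := hab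
    omega
  have h1 : ∑ p ∈ s, (1 : ℚ) / (p : ℚ) ^ 2 ≤ ∑ p ∈ insert 2 T, (1 : ℚ) / (p : ℚ) ^ 2 :=
    Finset.sum_le_sum_of_subset_of_nonneg hsub (fun _ _ _ => by positivity)
  rw [Finset.sum_insert hT2, hTsum] at h1
  have h2 := hodd N
  have h3 : (0 : ℚ) < 1 / ((N : ℚ) + 1) := by positivity
  have h4 : (1 : ℚ) / ((2 : ℕ) : ℚ) ^ 2 = 1 / 4 := by norm_num
  rw [h4] at h1
  linarith

variable {G : Type*} [Group G]

/-- The centre of `N_G(S)` as a subgroup of `G`. -/
def normCentre {p : ℕ} (S : Sylow p G) : Subgroup G :=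
  Subgroup.normalizer ((S : Subgroup G) : Set G) ⊓
    Subgroup.centralizer (Subgroup.normalizer ((S : Subgroup G) : Set G) : Set G)

theorem card_sylow_mul_card_normalizer [Finite G] {p : ℕ} [hp : Fact p.Prime] (S : Sylow p G) :
    Nat.card (Sylow p G) * Nat.card (Subgroup.normalizer ((S : Subgroup G) : Set G)) =
      Nat.card G := by
  rw [S.card_eq_index_normalizer]
  exact Subgroup.index_mul_card _

/-- The union of the `normCentre S` which are small enough has at most `|G|/p²` elements. -/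
theorem sq_mul_ncard_le [Finite G] {p : ℕ} [hp : Fact p.Prime] :
    p ^ 2 * Set.ncard {g : G | ∃ S : Sylow p G, g ∈ normCentre S ∧
      p ^ 2 * Nat.card (normCentre S) ≤
        Nat.card (Subgroup.normalizer ((S : Subgroup G) : Set G))} ≤ Nat.card G := by
  classical
  have : Fintype (Sylow p G) := Fintype.ofFinite _
  let V : Sylow p G → Set G := fun S =>
    if p ^ 2 * Nat.card (normCentre S) ≤
        Nat.card (Subgroup.normalizer ((S : Subgroup G) : Set G)) then (normCentre S : Set G) else ∅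
  have hV : {g : G | ∃ S : Sylow p G, g ∈ normCentre S ∧
      p ^ 2 * Nat.card (normCentre S) ≤
        Nat.card (Subgroup.normalizer ((S : Subgroup G) : Set G))} = ⋃ S, V S := by
    ext g
    simp only [Set.mem_ofPred_eq, Set.mem_iUnion, V]
    constructor
    · rintro ⟨S, h1, h2⟩
      exact ⟨S, by rw [if_pos h2]; exact h1⟩
    · rintro ⟨S, hS⟩
      by_cases h2 : p ^ 2 * Nat.card (normCentre S) ≤
        Nat.card (Subgroup.normalizer ((S : Subgroup G) : Set G))
      · rw [if_pos h2] at hS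
        exact ⟨S, hS, h2⟩
      · rw [if_neg h2] at hS
        exact absurd hS (Set.notMem_empty _)
  rw [hV]
  have h1 : (⋃ S, V S).ncard ≤ ∑ S, (V S).ncard := by
    have := Set.ncard_iUnion_le_of_fintype V
    exact this
  have h2 : ∀ S : Sylow p G, p ^ 2 * (V S).ncard ≤
      Nat.card (Subgroup.normalizer ((S : Subgroup G) : Set G)) := by
    intro S
    simp only [V]
    split_ifs with h
    · exact h
    · simp
  obtain ⟨S₀⟩ : Nonempty (Sylow p G) := inferInstance
  have h3 : ∀ S : Sylow p G, Nat.card (Subgroup.normalizer ((S : Subgroup G) : Set G)) =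
      Nat.card (Subgroup.normalizer ((S₀ : Subgroup G) : Set G)) := by
    intro S
    have h4 : 0 < Nat.card (Sylow p G) := Nat.card_pos
    apply Nat.eq_of_mul_eq_mul_left h4
    rw [card_sylow_mul_card_normalizer, card_sylow_mul_card_normalizer]
  calc p ^ 2 * (⋃ S, V S).ncard ≤ p ^ 2 * ∑ S, (V S).ncard := Nat.mul_le_mul_left _ h1
    _ = ∑ S, p ^ 2 * (V S).ncard := by rw [Finset.mul_sum]
    _ ≤ ∑ S : Sylow p G, Nat.card (Subgroup.normalizer ((S : Subgroup G) : Set G)) :=
        Finset.sum_le_sum fun S _ => h2 S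
    _ = ∑ _S : Sylow p G, Nat.card (Subgroup.normalizer ((S₀ : Subgroup G) : Set G)) :=
        Finset.sum_congr rfl fun S _ => h3 S
    _ = Nat.card G := by
        rw [Finset.sum_const, Finset.card_univ, smul_eq_mul, ← Nat.card_eq_fintype_card,
          card_sylow_mul_card_normalizer]

/-- The class counting contradiction. -/
theorem false_of_forall_mem_normCentre [Finite G] (hne : Subgroup.center G ≠ ⊤)
    (h : ∀ g : G, g ∉ Subgroup.center G → ∃ (p : ℕ) (_ : p ∣ Nat.card G) (_ : p.Prime)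
      (S : Sylow p G), g ∈ normCentre S ∧ p ^ 2 * Nat.card (normCentre S) ≤
        Nat.card (Subgroup.normalizer ((S : Subgroup G) : Set G))) : False := by
  classical
  let U : ℕ → Set G := fun p => {g : G | ∃ S : Sylow p G, g ∈ normCentre S ∧
      p ^ 2 * Nat.card (normCentre S) ≤
        Nat.card (Subgroup.normalizer ((S : Subgroup G) : Set G))}
  set s := (Nat.card G).primeFactors
  have hcover : (Set.univ : Set G) ⊆ (Subgroup.center G : Set G) ∪ ⋃ p ∈ s, U p := by
    intro g _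
    by_cases hg : g ∈ Subgroup.center G
    · exact Or.inl hg
    · right
      obtain ⟨p, h1, h2, S, h3⟩ := h g hg
      rw [Set.mem_iUnion₂]
      exact ⟨p, Nat.mem_primeFactors.mpr ⟨h2, h1, Nat.card_pos.ne'⟩, S, h3⟩
  have hcard : Nat.card G ≤ Nat.card (Subgroup.center G) + ∑ p ∈ s, (U p).ncard := by
    calc Nat.card G = (Set.univ : Set G).ncard := (Set.ncard_univ G).symm
      _ ≤ ((Subgroup.center G : Set G) ∪ ⋃ p ∈ s, U p).ncard :=
          Set.ncard_le_ncard hcover (Set.toFinite _)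
      _ ≤ (Subgroup.center G : Set G).ncard + (⋃ p ∈ s, U p).ncard := Set.ncard_union_le _ _
      _ ≤ (Subgroup.center G : Set G).ncard + ∑ p ∈ s, (U p).ncard := by
          gcongr
          exact Finset.set_ncard_biUnion_le s U
      _ = _ := rfl
  have hU : ∀ p ∈ s, ((U p).ncard : ℚ) ≤ (Nat.card G : ℚ) * (1 / (p : ℚ) ^ 2) := by
    intro p hp
    have hp' : p.Prime := Nat.prime_of_mem_primeFactors hp
    have : Fact p.Prime := ⟨hp'⟩
    have h1 := sq_mul_ncard_le (G := G) (p := p)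
    have h2 : ((p : ℚ) ^ 2) * ((U p).ncard : ℚ) ≤ (Nat.card G : ℚ) := by exact_mod_cast h1
    have h3 : (0 : ℚ) < (p : ℚ) ^ 2 := by
      have := hp'.pos
      positivity
    rw [mul_one_div, le_div_iff₀ h3]
    linarith
  have hZ : (2 : ℚ) * (Nat.card (Subgroup.center G) : ℚ) ≤ (Nat.card G : ℚ) := by
    have h1 : 2 ≤ (Subgroup.center G).index := by
      have h2 : (Subgroup.center G).index ≠ 0 := Subgroup.index_ne_zero_of_finite
      have h3 : (Subgroup.center G).index ≠ 1 := fun h => hne (Subgroup.index_eq_one.mp h)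
      omega
    have h2 := Subgroup.card_mul_index (Subgroup.center G)
    have h3 : 2 * Nat.card (Subgroup.center G) ≤ Nat.card G := by
      rw [← h2, mul_comm]
      exact Nat.mul_le_mul_left _ h1
    exact_mod_cast h3
  have hpos : (0 : ℚ) < Nat.card G := by
    have : 0 < Nat.card G := Nat.card_pos
    exact_mod_cast this
  have h1 : (Nat.card G : ℚ) ≤ Nat.card (Subgroup.center G) + ∑ p ∈ s, ((U p).ncard : ℚ) := by
    exact_mod_cast hcard
  have h2 : ∑ p ∈ s, ((U p).ncard : ℚ) ≤ (Nat.card G : ℚ) * ∑ p ∈ s, (1 / (p : ℚ) ^ 2) := by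
    rw [Finset.mul_sum]
    exact Finset.sum_le_sum hU
  have h3 := sum_prime_inv_sq_lt s (fun p hp => Nat.prime_of_mem_primeFactors hp)
  have h4 : (Nat.card G : ℚ) * ∑ p ∈ s, (1 / (p : ℚ) ^ 2) < (Nat.card G : ℚ) * (1 / 2) :=
    mul_lt_mul_of_pos_left h3 hpos
  linarith

end Cfsg.Agent.H1
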