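import Mathlib
import Cfsg.Agent.H1.Basic
import Cfsg.Agent.H1.SylowCount

/-!
Groups in which centralizers of noncentral elements are maximal.
-/

set_option autoImplicit false

namespace Cfsg.Agent.H1

open scoped Pointwise
open Cfsg

variable {G : Type*} [Group G]

/-- Every element `g` outside a subgroup `Z` has a power `x ∉ Z` of prime power order. -/
theorem exists_primePow_power_notMem [Finite G] (Z : Subgroup G) (g : G) (hg : g ∉ Z) :
    ∃ x ∈ Subgroup.zpowers g, x ∉ Z ∧ ∃ p : ℕ, p.Prime ∧ ∃ k : ℕ, orderOf x = p ^ k := by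
  classical
  have hfin : ({x : G | x ∈ Subgroup.zpowers g ∧ x ∉ Z} : Set G).Finite := Set.toFinite _
  obtain ⟨x, hx, hmin⟩ := Set.exists_min_image _ (fun x => orderOf x) hfin
    ⟨g, Subgroup.mem_zpowers g, hg⟩
  refine ⟨x, hx.1, hx.2, ?_⟩
  have hx1 : orderOf x ≠ 1 := by
    intro h
    rw [orderOf_eq_one_iff] at h
    exact hx.2 (h ▸ one_mem _)
  obtain ⟨p, hp, hdvd⟩ := Nat.exists_prime_and_dvd hx1
  refine ⟨p, hp, ?_⟩
  have hpow : ∀ q : ℕ, q.Prime → q ∣ orderOf x → x ^ q ∈ Z := by
    intro q hq hqd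
    by_contra hcon
    have h1 : x ^ q ∈ Subgroup.zpowers g := Subgroup.pow_mem _ hx.1 q
    have h2 := hmin (x ^ q) ⟨h1, hcon⟩
    have h3 : orderOf (x ^ q) = orderOf x / q := by
      rw [orderOf_pow' x hq.ne_zero, Nat.gcd_eq_right hqd]
    have h4 : 0 < orderOf x := orderOf_pos x
    have h5 : orderOf x / q < orderOf x := Nat.div_lt_self h4 hq.one_lt
    have h2' : orderOf x ≤ orderOf (x ^ q) := h2
    rw [h3] at h2'
    omega
  have huniq : ∀ q : ℕ, q.Prime → q ∣ orderOf x → q = p := by
    intro q hq hqd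
    by_contra hne
    have hcop : Nat.Coprime q p := (Nat.coprime_primes hq hp).mpr hne
    have h1 := hpow q hq hqd
    have h2 := hpow p hp hdvd
    apply hx.2
    have h3 : x = (x ^ q) ^ (Nat.gcdA q p) * (x ^ p) ^ (Nat.gcdB q p) := by
      rw [← zpow_natCast, ← zpow_natCast, ← zpow_mul, ← zpow_mul, ← zpow_add,
        ← Nat.gcd_eq_gcd_ab, hcop]
      simp
    rw [h3]
    exact Z.mul_mem (Z.zpow_mem h1 _) (Z.zpow_mem h2 _)
  exact ⟨_, Nat.eq_prime_pow_of_unique_prime_dvd (orderOf_pos x).ne' (fun {q} hq hqd => huniq q hq hqd)⟩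

theorem centralizer_singleton_le_of_mem_zpowers {x g : G} (h : x ∈ Subgroup.zpowers g) :
    Subgroup.centralizer ({g} : Set G) ≤ Subgroup.centralizer ({x} : Set G) := by
  obtain ⟨n, rfl⟩ := Subgroup.mem_zpowers_iff.mp h
  intro y hy
  rw [Subgroup.mem_centralizer_singleton_iff] at hy ⊢
  have h1 : Commute y g := hy
  exact h1.zpow_right n

theorem eq_of_coatom_le {A B : Subgroup G} (hA : IsCoatom A) (hB : IsCoatom B) (h : A ≤ B) :
    A = B := by
  rcases hA.le_iff.mp h with h1 | h1
  · exact absurd h1 hB.1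
  · exact h1.symm

/-- The key structure lemma. -/
theorem central_of_coprime (hmax : ∀ g : G, g ∉ Subgroup.center G →
      IsCoatom (Subgroup.centralizer ({g} : Set G))) [Finite G] {p : ℕ} {x y : G}
    (hx : x ∉ Subgroup.center G) {k : ℕ} (hxo : orderOf x = p ^ k)
    (hy : y ∈ Subgroup.centralizer ({x} : Set G)) (hyo : (orderOf y).Coprime p) :
    y ∈ Subgroup.centralizer (Subgroup.centralizer ({x} : Set G) : Set G) := by
  by_cases hyc : y ∈ Subgroup.center G
  · exact Subgroup.center_le_centralizer _ hyc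
  have hcomm : Commute x y := by
    rw [Subgroup.mem_centralizer_singleton_iff] at hy
    exact (show Commute y x from hy).symm
  have hcop : (orderOf y).Coprime (orderOf x) := by
    rw [hxo]; exact Nat.Coprime.pow_right _ hyo
  have hxmem : x ∈ Subgroup.zpowers (x * y) := by
    obtain ⟨m, hm⟩ := exists_pow_eq_self_of_coprime hcop
    have h1 : (x * y) ^ (orderOf y) = x ^ (orderOf y) := by
      rw [hcomm.mul_pow, pow_orderOf_eq_one, mul_one]
    have h2 : ((x * y) ^ (orderOf y)) ^ m = x := by rw [h1, hm]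
    have h3 : ((x * y) ^ (orderOf y)) ^ m ∈ Subgroup.zpowers (x * y) :=
      Subgroup.pow_mem _ (Subgroup.pow_mem _ (Subgroup.mem_zpowers (x * y)) _) _
    rwa [h2] at h3
  have hymem : y ∈ Subgroup.zpowers (x * y) := by
    obtain ⟨m, hm⟩ := exists_pow_eq_self_of_coprime hcop.symm
    have h1 : (x * y) ^ (orderOf x) = y ^ (orderOf x) := by
      rw [hcomm.mul_pow, pow_orderOf_eq_one, one_mul]
    have h2 : ((x * y) ^ (orderOf x)) ^ m = y := by rw [h1, hm]
    have h3 : ((x * y) ^ (orderOf x)) ^ m ∈ Subgroup.zpowers (x * y) :=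
      Subgroup.pow_mem _ (Subgroup.pow_mem _ (Subgroup.mem_zpowers (x * y)) _) _
    rwa [h2] at h3
  have hxy : x * y ∉ Subgroup.center G := by
    intro h
    apply hx
    obtain ⟨n, hn⟩ := Subgroup.mem_zpowers_iff.mp hxmem
    rw [← hn]
    exact Subgroup.zpow_mem _ h n
  have h1 := eq_of_coatom_le (hmax _ hxy) (hmax _ hx)
    (centralizer_singleton_le_of_mem_zpowers hxmem)
  have h2 := eq_of_coatom_le (hmax _ hxy) (hmax _ hyc)
    (centralizer_singleton_le_of_mem_zpowers hymem)
  rw [← h1, h2, Subgroup.mem_centralizer_iff]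
  intro z hz
  have := Subgroup.mem_centralizer_singleton_iff.mp hz
  exact this

/-- `C = C(x)`, `x` a noncentral element of `p`-power order: `C/Z(C)` is a `p`-group. -/
theorem isPGroup_quotient_center (hmax : ∀ g : G, g ∉ Subgroup.center G →
      IsCoatom (Subgroup.centralizer ({g} : Set G))) [Finite G] {p : ℕ} [hp : Fact p.Prime] {x : G}
    (hx : x ∉ Subgroup.center G) {k : ℕ} (hxo : orderOf x = p ^ k) :
    IsPGroup p (Subgroup.centralizer ({x} : Set G) ⧸
      Subgroup.center (Subgroup.centralizer ({x} : Set G))) := by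
  set C := Subgroup.centralizer ({x} : Set G)
  rw [isPGroup_iff_pow_pow_eq_one]
  intro c
  obtain ⟨c, rfl⟩ := QuotientGroup.mk'_surjective _ c
  obtain ⟨a, m, hm, ham⟩ := Nat.exists_eq_pow_mul_and_not_dvd (orderOf_pos c).ne' p hp.out.ne_one
  refine ⟨a, ?_⟩
  rw [← map_pow, ← MonoidHom.mem_ker, QuotientGroup.ker_mk', Subgroup.mem_center_iff]
  have h1 : orderOf (c ^ p ^ a) = m := by
    rw [orderOf_pow' c (pow_ne_zero _ hp.out.ne_zero), ham, Nat.gcd_eq_right (Dvd.intro _ rfl),
      Nat.mul_div_cancel_left _ (pow_pos hp.out.pos _)]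
  have h2 : orderOf ((c ^ p ^ a : C) : G) = m := by rw [Subgroup.orderOf_coe, h1]
  have h3 : (orderOf ((c ^ p ^ a : C) : G)).Coprime p := by
    rw [h2]
    exact ((Nat.Prime.coprime_iff_not_dvd hp.out).mpr hm).symm
  have h4 := central_of_coprime hmax hx hxo (c ^ p ^ a : C).2 h3
  intro d
  apply Subtype.ext
  have := Subgroup.mem_centralizer_iff.mp h4 d d.2
  exact this

/-- **Main theorem** -/
theorem solvable_of_centralizers_maximal [Finite G] (hmax : ∀ g : G, g ∉ Subgroup.center G →
      IsCoatom (Subgroup.centralizer ({g} : Set G))) : Group.IsSolvable G := by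
  by_contra hns
  have hZ : Subgroup.center G ≠ ⊤ := by
    intro h
    apply hns
    have hc : ∀ a b : G, a * b = b * a := fun a b =>
      (Subgroup.mem_center_iff.mp (h ▸ Subgroup.mem_top b) a)
    let _ : CommGroup G := { (inferInstance : Group G) with mul_comm := hc }
    infer_instance
  apply false_of_forall_mem_normCentre hZ
  intro g hg
  obtain ⟨x, hxg, hx, p, hp, k, hxo⟩ := exists_primePow_power_notMem (Subgroup.center G) g hg
  have : Fact p.Prime := ⟨hp⟩
  obtain ⟨C, hC⟩ : ∃ C, C = Subgroup.centralizer ({x} : Set G) := ⟨_, rfl⟩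
  have hCg : Subgroup.centralizer ({g} : Set G) = C := by
    rw [hC]
    exact eq_of_coatom_le (hmax _ hg) (hmax _ hx) (centralizer_singleton_le_of_mem_zpowers hxg)
  have hCco : IsCoatom C := hC ▸ hmax x hx
  have hpg : IsPGroup p (C ⧸ Subgroup.center C) := by
    subst hC; exact isPGroup_quotient_center hmax hx hxo
  have hnil : Group.IsNilpotent C := by
    apply Group.of_quotient_center_nilpotent
    exact hpg.isNilpotent
  have hnn : ¬ C.Normal := by
    intro h
    exact hns (solvable_of_normal_coatom C hCco inferInstance)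
  have hnab : ¬ IsMulCommutative C := by
    intro h
    exact hns (solvable_of_abelian_coatom C hCco h)
  -- index of the centre
  obtain ⟨n, hn⟩ := IsPGroup.iff_card.mp hpg
  rw [← Subgroup.index_eq_card] at hn
  have hn2 : 2 ≤ n := by
    by_contra hlt
    apply hnab
    have hn01 : n = 0 ∨ n = 1 := by omega
    have hcyc : IsCyclic (C ⧸ Subgroup.center C) := by
      rcases hn01 with h | h
      · rw [h, pow_zero, Subgroup.index_eq_card] at hn
        have : Subsingleton (C ⧸ Subgroup.center C) := (Nat.card_eq_one_iff_unique.mp hn).1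
        exact isCyclic_of_subsingleton
      · rw [h, pow_one, Subgroup.index_eq_card] at hn
        exact isCyclic_of_prime_card hn
    exact MonoidHom.isMulCommutative_of_isCyclic_of_ker_le_center
      (QuotientGroup.mk' (Subgroup.center C)) (by simp)
  -- a Sylow subgroup
  obtain ⟨P⟩ : Nonempty (Sylow p C) := inferInstance
  set P' : Subgroup G := (P : Subgroup C).map C.subtype
  have hPn : (P : Subgroup C).Normal := inferInstance
  have hP'C : P' ≤ C := Subgroup.map_subtype_le _
  have hP'p : IsPGroup p P' := P.isPGroup'.map _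
  have hCN : C ≤ Subgroup.normalizer (P' : Set G) := by
    intro c hc
    rw [Subgroup.mem_normalizer_iff]
    intro y
    constructor
    · rintro ⟨z, hz, rfl⟩
      exact ⟨⟨c, hc⟩ * z * ⟨c, hc⟩⁻¹, hPn.conj_mem z hz _, rfl⟩
    · rintro ⟨z, hz, hzy⟩
      refine ⟨⟨c, hc⟩⁻¹ * z * ⟨c, hc⟩, ?_, ?_⟩
      · have := hPn.conj_mem z hz ⟨c, hc⟩⁻¹
        rwa [inv_inv] at this
      · have h1 : (z : G) = c * y * c⁻¹ := hzy
        change c⁻¹ * (z : G) * c = y
        rw [h1]; group
  -- the centre of `C` as a subgroup of `G`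
  set ZC : Subgroup G := C ⊓ Subgroup.centralizer (C : Set G)
  have hZCmap : ZC = (Subgroup.center C).map C.subtype := by
    ext z
    constructor
    · rintro ⟨h1, h2⟩
      refine ⟨⟨z, h1⟩, ?_, rfl⟩
      rw [SetLike.mem_coe, Subgroup.mem_center_iff]
      intro y
      apply Subtype.ext
      exact Subgroup.mem_centralizer_iff.mp h2 y y.2
    · rintro ⟨z, hz, rfl⟩
      refine ⟨z.2, ?_⟩
      rw [SetLike.mem_coe, Subgroup.mem_center_iff] at hz
      change (z : G) ∈ Subgroup.centralizer (C : Set G)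
      rw [Subgroup.mem_centralizer_iff]
      intro y hy
      exact congrArg Subtype.val (hz ⟨y, hy⟩)
  have hZCle : ZC ≤ C := inf_le_left
  have hZCidx : ZC.relIndex C = p ^ n := by
    rw [hZCmap, Subgroup.relIndex, Subgroup.subgroupOf, Subgroup.comap_map_eq_self_of_injective
        C.subtype_injective, hn]
  have hP'idx : ¬ p ∣ P'.relIndex C := by
    rw [Subgroup.relIndex, Subgroup.subgroupOf, Subgroup.comap_map_eq_self_of_injective
        C.subtype_injective]
    exact P.not_dvd_index
  have hsupC : C ≤ P' ⊔ ZC := by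
    rw [← Subgroup.relIndex_eq_one]
    have h1 : (P' ⊔ ZC).relIndex C ∣ P'.relIndex C := Subgroup.relIndex_dvd_of_le_left _ le_sup_left
    have h2 : (P' ⊔ ZC).relIndex C ∣ ZC.relIndex C := Subgroup.relIndex_dvd_of_le_left _ le_sup_right
    rw [hZCidx] at h2
    obtain ⟨j, -, hj⟩ := (Nat.dvd_prime_pow hp).mp h2
    rcases Nat.eq_zero_or_pos j with h0 | h0
    · rw [hj, h0, pow_zero]
    · exfalso
      apply hP'idx
      refine dvd_trans ?_ h1
      rw [hj]
      exact dvd_pow_self p h0.ne'
  -- `x` lies in `P'` and is central there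
  have hxC : x ∈ C := by
    rw [hC, Subgroup.mem_centralizer_singleton_iff]
  have hxP' : x ∈ P' := by
    have h1 : IsPGroup p (Subgroup.zpowers (⟨x, hxC⟩ : C)) := by
      apply IsPGroup.of_card (n := k)
      rw [Nat.card_zpowers, ← hxo]
      exact (Subgroup.orderOf_coe (⟨x, hxC⟩ : C)).symm
    obtain ⟨Q, hQ⟩ := h1.exists_le_sylow
    have h2 : Q = P := by
      let _ := Sylow.unique_of_normal P hPn
      exact Subsingleton.elim _ _
    rw [h2] at hQ
    exact ⟨⟨x, hxC⟩, hQ (Subgroup.mem_zpowers _), rfl⟩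
  have hN : Subgroup.normalizer (P' : Set G) = C := by
    rcases hCco.le_iff.mp hCN with h | h
    · exfalso
      apply hnn
      have hP'n : P'.Normal := Subgroup.normalizer_eq_top_iff.mp h
      set Z' : Subgroup G := P' ⊓ Subgroup.centralizer (P' : Set G)
      have hZ'n : Z'.Normal := inferInstance
      have hW : (Subgroup.centralizer (Z' : Set G)).Normal := inferInstance
      have hxZ' : x ∈ Z' := by
        refine ⟨hxP', ?_⟩
        change x ∈ Subgroup.centralizer (P' : Set G)
        rw [Subgroup.mem_centralizer_iff]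
        intro y hy
        have := hP'C hy
        rw [hC, Subgroup.mem_centralizer_singleton_iff] at this
        exact this
      have h1 : C ≤ Subgroup.centralizer (Z' : Set G) := by
        refine hsupC.trans (sup_le ?_ ?_)
        · intro y hy
          rw [Subgroup.mem_centralizer_iff]
          intro z hz
          exact (Subgroup.mem_centralizer_iff.mp hz.2 y hy).symm
        · intro y hy
          rw [Subgroup.mem_centralizer_iff]
          intro z hz
          exact Subgroup.mem_centralizer_iff.mp hy.2 z (hP'C hz.1)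
      have h2 : Subgroup.centralizer (Z' : Set G) ≤ C := by
        intro y hy
        rw [hC, Subgroup.mem_centralizer_singleton_iff]
        exact (Subgroup.mem_centralizer_iff.mp hy x hxZ').symm
      rw [le_antisymm h1 h2]
      exact hW
    · exact h
  have hi : ¬ p ∣ P'.index := not_dvd_index_of_normalizer_le P' C hP'p hP'C hP'idx hN.le
  set S : Sylow p G := hP'p.toSylow hi
  have hS : (S : Subgroup G) = P' := IsPGroup.toSylow_coe _ _
  have hnc : normCentre S = ZC := by
    rw [normCentre, hS, hN]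
  have hcardC : Nat.card C = Nat.card ZC * p ^ n := by
    rw [← hZCidx, ← Subgroup.relIndex_bot_left ZC, ← Subgroup.relIndex_bot_left C,
      Subgroup.relIndex_mul_relIndex _ _ _ bot_le hZCle]
  refine ⟨p, ?_, hp, S, ?_, ?_⟩
  · refine dvd_trans ?_ (Subgroup.card_subgroup_dvd_card C)
    rw [hcardC]
    exact dvd_mul_of_dvd_right (dvd_pow_self p (by omega)) _
  · rw [hnc]
    refine ⟨?_, ?_⟩
    · rw [← hCg]
      change g ∈ Subgroup.centralizer ({g} : Set G)
      rw [Subgroup.mem_centralizer_singleton_iff]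
    · rw [← hCg]
      change g ∈ Subgroup.centralizer (Subgroup.centralizer ({g} : Set G) : Set G)
      rw [Subgroup.mem_centralizer_iff]
      intro y hy
      exact Subgroup.mem_centralizer_singleton_iff.mp hy
  · rw [hnc, hS, hN, hcardC, mul_comm]
    exact Nat.mul_le_mul_left _ (Nat.pow_le_pow_right hp.pos hn2)

end Cfsg.Agent.H1
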