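import Mathlib
import Cfsg.Prelude.Def_Local
import Cfsg.Agent.SigF.PC
import Cfsg.Agent.S0631

set_option autoImplicit false
set_option linter.style.haveILetI false
open Cfsg
open scoped commutatorElement

/-! `p`-constraint and characteristic `p` of normalizers and centralizers of `p`-subgroups of overgroups. -/

namespace Cfsg.Agent.H1

open FStar H36.PConstr

variable {G : Type*} [Group G] [Finite G] {p : ℕ} [hp : Fact p.Prime]

theorem isPConstrained_of_equiv {A B : Type*} [Group A] [Finite A] [Group B] (e : A ≃* B) (h : IsPConstrained p A) :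
    IsPConstrained p B := by
  refine (isPConstrained_iff_of_coprime_ker e.toMonoidHom e.surjective ?_).1 h
  have : e.toMonoidHom.ker = ⊥ := (MonoidHom.ker_eq_bot_iff _).2 e.injective
  rw [this, Subgroup.card_bot]
  exact Nat.coprime_one_left p

theorem isPConstrained_iff_layerPre {X : Type*} [Group X] [Finite X] :
    IsPConstrained p X ↔ layerPre p X = pPrimeCore p X := by
  rw [SigF.PC.isPConstrained_iff_pLayer, SigF.PC.pLayer_eq_bot_iff, layerPre]
  constructor
  · intro h
    rw [h, MonoidHom.comap_bot, QuotientGroup.ker_mk']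
  · intro h
    have h1 := congrArg (Subgroup.map (QuotientGroup.mk' (pPrimeCore p X))) h
    rw [Subgroup.map_comap_eq_self_of_surjective (QuotientGroup.mk'_surjective _)] at h1
    rw [h1]
    exact (Subgroup.map_eq_bot_iff _).2 (by rw [QuotientGroup.ker_mk'])

theorem isPConstrained_iff_layerPreOf {H : Subgroup G} :
    IsPConstrained p H ↔ layerPreOf p H = pPrimeCoreOf p H := by
  rw [isPConstrained_iff_layerPre, layerPreOf, pPrimeCoreOf]
  exact ⟨fun h => by rw [h], fun h => Subgroup.map_injective H.subtype_injective h⟩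

theorem le_normalizer_centralizer {G : Type*} [Group G] {T X : Subgroup G} (hXN : X ≤ Subgroup.normalizer (T : Set G)) :
    X ≤ Subgroup.normalizer ((Subgroup.centralizer (T : Set G) : Subgroup G) : Set G) := by
  intro x hx
  have hxT := hXN hx
  rw [Subgroup.mem_normalizer_iff]
  have key : ∀ x ∈ Subgroup.normalizer (T : Set G), ∀ c ∈ Subgroup.centralizer (T : Set G),
      x * c * x⁻¹ ∈ Subgroup.centralizer (T : Set G) := by
    intro x hx c hc
    rw [Subgroup.mem_centralizer_iff] at hc ⊢
    intro t ht
    have h3 : x⁻¹ * t * x ∈ T := by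
      have := (Subgroup.mem_normalizer_iff.1 (inv_mem hx) t).1 ht
      rwa [inv_inv] at this
    have h4 := hc _ h3
    calc t * (x * c * x⁻¹) = x * ((x⁻¹ * t * x) * c) * x⁻¹ := by group
      _ = x * (c * (x⁻¹ * t * x)) * x⁻¹ := by rw [h4]
      _ = x * c * x⁻¹ * t := by group
  intro c
  refine ⟨key x hxT c, fun h => ?_⟩
  have h3 := key x⁻¹ (inv_mem hxT) _ h
  have h4 : x⁻¹ * (x * c * x⁻¹) * x⁻¹⁻¹ = c := by group
  rwa [h4] at h3

/-- `X` between `C_G(T)` and `N_G(T)`: `p`-constraint of `X` and of `C_G(T)` are equivalent. -/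
theorem isPConstrained_iff_centralizer {T X : Subgroup G} (hT : IsPGroup p T) (hTX : T ≤ X)
    (hXN : X ≤ Subgroup.normalizer (T : Set G)) (hCX : Subgroup.centralizer (T : Set G) ≤ X) :
    IsPConstrained p X ↔ IsPConstrained p (Subgroup.centralizer (T : Set G)) := by
  have h1 := layerPreOf_le_centralizer (p := p) hT hTX hXN
  have h2 := pPrimeCoreOf_le_centralizer (p := p) hT hTX hXN
  have hn := le_normalizer_centralizer hXN
  rw [isPConstrained_iff_layerPreOf, isPConstrained_iff_layerPreOf,
    layerPreOf_eq_of_normal hCX hn h1, pPrimeCoreOf_eq_of_normal hCX hn h2]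

theorem isPConstrained_normalizer_iff {T : Subgroup G} (hT : IsPGroup p T) :
    IsPConstrained p (Subgroup.normalizer (T : Set G)) ↔ IsPConstrained p (Subgroup.centralizer (T : Set G)) :=
  isPConstrained_iff_centralizer hT Subgroup.le_normalizer le_rfl (Subgroup.centralizer_le_normalizer _)

theorem centralizer_subgroupOf {G : Type*} [Group G] {T H : Subgroup G} (hTH : T ≤ H) :
    Subgroup.centralizer ((T.subgroupOf H : Subgroup H) : Set H) = (Subgroup.centralizer (T : Set G)).subgroupOf H := by
  ext x
  rw [Subgroup.mem_centralizer_iff, Subgroup.mem_subgroupOf, Subgroup.mem_centralizer_iff]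
  constructor
  · intro h t ht
    exact congrArg Subtype.val (h ⟨t, hTH ht⟩ (Subgroup.mem_subgroupOf.2 ht))
  · intro h t ht
    exact Subtype.ext (h t (Subgroup.mem_subgroupOf.1 ht))

/-- `C_G(T)` is `p`-constrained if it lies in a `p`-constrained subgroup `H ≥ T`. -/
theorem isPConstrained_centralizer_of_le {T H : Subgroup G} (hT : IsPGroup p T) (hTH : T ≤ H) (hH : IsPConstrained p H)
    (hC : Subgroup.centralizer (T : Set G) ≤ H) : IsPConstrained p (Subgroup.centralizer (T : Set G)) := by
  have h1 := (S0631.result hH (T.subgroupOf H) (hT.comap_subtype)).2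
  rw [centralizer_subgroupOf hTH] at h1
  exact isPConstrained_of_equiv (Subgroup.subgroupOfEquivOfLe hC) h1

theorem charP_centralizer_of_le {T H : Subgroup G} (hT : IsPGroup p T) (hTH : T ≤ H) (hH : CharP p H)
    (hC : Subgroup.centralizer (T : Set G) ≤ H) : CharP p (Subgroup.centralizer (T : Set G)) := by
  have h1 := charP_centralizer hH (P := T.subgroupOf H) (hT.comap_subtype)
  rw [centralizer_subgroupOf hTH] at h1
  exact (charP_equiv (Subgroup.subgroupOfEquivOfLe hC)).1 h1

theorem isPConstrained_normalizer_of_le {T H : Subgroup G} (hT : IsPGroup p T) (hTH : T ≤ H) (hH : IsPConstrained p H)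
    (hC : Subgroup.centralizer (T : Set G) ≤ H) : IsPConstrained p (Subgroup.normalizer (T : Set G)) :=
  (isPConstrained_normalizer_iff hT).2 (isPConstrained_centralizer_of_le hT hTH hH hC)

/-- characteristic `p`: `C_G(T)` versus `N_G(T)`. -/
theorem charP_of_centralizer {T X : Subgroup G} (hT : IsPGroup p T) (hTX : T ≤ X)
    (hXN : X ≤ Subgroup.normalizer (T : Set G)) (hCX : Subgroup.centralizer (T : Set G) ≤ X)
    (h : CharP p (Subgroup.centralizer (T : Set G))) : CharP p X := by
  have h0 := pPrimeCore_eq_bot_of_charP h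
  have h1 := isPConstrained_of_charP h
  rw [← isPConstrained_iff_centralizer hT hTX hXN hCX] at h1
  rw [← isPConstrained_iff_of_core_eq_bot] 
  · exact h1
  · have h2 := pPrimeCoreOf_le_centralizer (p := p) hT hTX hXN
    have h3 : pPrimeCoreOf p X = pPrimeCoreOf p (Subgroup.centralizer (T : Set G)) := by
      exact (pPrimeCoreOf_eq_of_normal hCX (le_normalizer_centralizer hXN) h2).symm
    rw [pPrimeCoreOf, pPrimeCoreOf, h0, Subgroup.map_bot] at h3
    exact (Subgroup.map_eq_bot_iff_of_injective _ X.subtype_injective).1 h3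

/-- `C_G(T)` of characteristic `p` implies `C_G(U)` of characteristic `p` for every `p`-subgroup `U ≥ T`. -/
theorem charP_centralizer_mono {U : Subgroup G} (hU : IsPGroup p U) : ∀ (n : ℕ) (T : Subgroup G), Nat.card U - Nat.card T ≤ n →
    T ≤ U → CharP p (Subgroup.centralizer (T : Set G)) → CharP p (Subgroup.centralizer (U : Set G)) := by
  intro n
  induction n with
  | zero =>
    intro T hn hTU h
    have h1 : Nat.card U ≤ Nat.card T := by omega
    rwa [← Subgroup.eq_of_le_of_card_ge hTU h1]
  | succ n ih =>
    intro T hn hTU h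
    by_cases hne : T = U
    · rwa [← hne]
    have hlt : T < U := lt_of_le_of_ne hTU hne
    have hT : IsPGroup p T := hU.to_le hTU
    haveI := hU.isNilpotent
    -- `T₂ = N_U(T) > T`
    have hT2 : T < U ⊓ Subgroup.normalizer (T : Set G) := by
      have h1 : T.subgroupOf U < Subgroup.normalizer ((T.subgroupOf U : Subgroup U) : Set U) :=
        (Group.normalizerCondition_of_isNilpotent (G := U)) _ (lt_top_iff_ne_top.2 fun h => hlt.not_ge (Subgroup.subgroupOf_eq_top.1 h))
      refine lt_of_le_of_ne (le_inf hTU Subgroup.le_normalizer) ?_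
      intro he
      apply h1.not_ge
      intro x hx
      rw [Subgroup.mem_subgroupOf, he]
      refine ⟨x.2, ?_⟩
      change (x : G) ∈ Subgroup.normalizer (T : Set G)
      rw [Subgroup.mem_normalizer_iff]
      intro y
      by_cases hyU : y ∈ U
      · have h2 := Subgroup.mem_normalizer_iff.1 hx ⟨y, hyU⟩
        rw [Subgroup.mem_subgroupOf, Subgroup.mem_subgroupOf] at h2
        exact h2
      · refine iff_of_false (fun h' => hyU (hTU h')) (fun h' => hyU ?_)
        have h3 := U.mul_mem (U.mul_mem (U.inv_mem x.2) (hTU h')) x.2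
        have e : (x : G)⁻¹ * ((x : G) * y * (x : G)⁻¹) * x = y := by group
        rwa [e] at h3
    have h3 : CharP p (Subgroup.normalizer (T : Set G)) :=
      charP_of_centralizer hT Subgroup.le_normalizer le_rfl (Subgroup.centralizer_le_normalizer _) h
    have h4 := charP_centralizer_of_le (hU.to_le inf_le_left) inf_le_right h3
      ((Subgroup.centralizer_le (SetLike.coe_subset_coe.2 hT2.le)).trans (Subgroup.centralizer_le_normalizer _))
    refine ih _ ?_ inf_le_left h4
    have h5 : Nat.card T < Nat.card ↥(U ⊓ Subgroup.normalizer (T : Set G)) := Set.Finite.card_lt_card (Set.toFinite _) hT2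
    have h6 : Nat.card ↥(U ⊓ Subgroup.normalizer (T : Set G)) ≤ Nat.card U :=
      Nat.le_of_dvd Nat.card_pos (Subgroup.card_dvd_of_le inf_le_left)
    omega

end Cfsg.Agent.H1
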