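import Mathlib

/-!
# Self-centralizing elements of order 4: combinatorics of the principal 2-block
-/

set_option autoImplicit false

namespace Cfsg.Agent.H1.SF

open Finset

/-- The five characters of the principal block. -/
structure Five {ι : Type*} (B : Finset ι) (a c : ι → ℤ) (i0 i1 i2 i3 i4 : ι) : Prop where
  m1 : i1 ∈ B
  m2 : i2 ∈ B
  m3 : i3 ∈ B
  m4 : i4 ∈ B
  n01 : i0 ≠ i1
  n02 : i0 ≠ i2
  n03 : i0 ≠ i3
  n04 : i0 ≠ i4
  n12 : i1 ≠ i2
  n13 : i1 ≠ i3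
  n14 : i1 ≠ i4
  n23 : i2 ≠ i3
  n24 : i2 ≠ i4
  n34 : i3 ≠ i4
  a1 : a i1 ^ 2 = 1
  a2 : a i2 ^ 2 = 1
  a3 : a i3 ^ 2 = 1
  c1 : c i1 = a i1
  c2 : c i2 = - a i2
  c3 : c i3 = - a i3
  a4 : a i4 ^ 2 = 4
  c4 : c i4 = 0
  rest : ∀ i ∈ B, i ≠ i0 → i ≠ i1 → i ≠ i2 → i ≠ i3 → i ≠ i4 → a i = 0 ∧ c i = 0

theorem eq_or_of_sq {x : ℤ} (h : x ^ 2 = 1) : x = 1 ∨ x = -1 := by
  rcases mul_eq_zero.1 (show (x - 1) * (x + 1) = 0 by linear_combination h) with h1 | h1
  · left; linarith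
  · right; linarith

theorem sq_one_of_le {x : ℤ} (h0 : x ≠ 0) (h : x ^ 2 ≤ 3) : x ^ 2 = 1 := by
  have h1 : -1 ≤ x := by nlinarith
  have h2 : x ≤ 1 := by nlinarith
  interval_cases x <;> simp_all

theorem sq_one_of_odd {x : ℤ} (h0 : ¬ (2 : ℤ) ∣ x) (h : x ^ 2 ≤ 8) : x ^ 2 = 1 := by
  have h1 : -2 ≤ x := by nlinarith
  have h2 : x ≤ 2 := by nlinarith
  interval_cases x <;> simp_all

theorem exists_five {ι : Type*} [DecidableEq ι] (B : Finset ι) (a c : ι → ℤ) (i0 : ι)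
    (h0 : i0 ∈ B) (ha0 : a i0 = 1) (hc0 : c i0 = 1)
    (haa : ∑ i ∈ B, a i ^ 2 = 8) (hcc : ∑ i ∈ B, c i ^ 2 = 4) (hac : ∑ i ∈ B, a i * c i = 0)
    (hpar : ∀ i ∈ B, (2 : ℤ) ∣ a i - c i) :
    ∃ i1 i2 i3 i4, Five B a c i0 i1 i2 i3 i4 := by
  classical
  set T := B.filter (fun i => c i ≠ 0) with hT
  have hTB : T ⊆ B := Finset.filter_subset _ _
  have h0T : i0 ∈ T := Finset.mem_filter.2 ⟨h0, by rw [hc0]; norm_num⟩
  have hccT : ∑ i ∈ T, c i ^ 2 = 4 := by
    rw [← hcc]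
    apply Finset.sum_subset hTB
    intro i hi hiT
    have : c i = 0 := by
      by_contra h
      exact hiT (Finset.mem_filter.2 ⟨hi, h⟩)
    rw [this]; norm_num
  have hc1 : ∀ i ∈ T, c i ^ 2 = 1 := by
    intro i hi
    have hne : c i ≠ 0 := (Finset.mem_filter.1 hi).2
    by_cases hi0 : i = i0
    · rw [hi0, hc0]; norm_num
    apply sq_one_of_le hne
    have h1 : c i0 ^ 2 + ∑ j ∈ T.erase i0, c j ^ 2 = 4 := by
      rw [Finset.add_sum_erase T (fun j => c j ^ 2) h0T, hccT]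
    have h2 : c i ^ 2 ≤ ∑ j ∈ T.erase i0, c j ^ 2 :=
      Finset.single_le_sum (f := fun j => c j ^ 2) (fun j _ => sq_nonneg _)
        (Finset.mem_erase.2 ⟨hi0, hi⟩)
    rw [hc0] at h1
    linarith
  have hcard : T.card = 4 := by
    have h1 : ∑ i ∈ T, c i ^ 2 = ∑ i ∈ T, 1 := Finset.sum_congr rfl hc1
    rw [hccT, Finset.sum_const, nsmul_eq_mul, mul_one] at h1
    exact_mod_cast h1.symm
  have ha1 : ∀ i ∈ T, a i ^ 2 = 1 := by
    intro i hi
    apply sq_one_of_odd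
    · intro h2
      have h3 := hpar i (hTB hi)
      have h4 : (2 : ℤ) ∣ c i := by
        have := dvd_sub h2 h3
        rwa [sub_sub_cancel] at this
      obtain ⟨k, hk⟩ := h4
      have h5 := hc1 i hi
      rw [hk] at h5
      have : (4 : ℤ) ∣ 1 := ⟨k ^ 2, by rw [← h5]; ring⟩
      norm_num at this
    · rw [← haa]
      exact Finset.single_le_sum (f := fun j => a j ^ 2) (fun j _ => sq_nonneg _) (hTB hi)
  have haT : ∑ i ∈ T, a i ^ 2 = 4 := by
    rw [Finset.sum_congr rfl ha1, Finset.sum_const, hcard]; norm_num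
  have haN : ∑ i ∈ B \ T, a i ^ 2 = 4 := by
    have := Finset.sum_sdiff (f := fun i => a i ^ 2) hTB
    rw [haT, haa] at this
    linarith
  have hcN : ∀ i ∈ B \ T, c i = 0 := by
    intro i hi
    obtain ⟨hi1, hi2⟩ := Finset.mem_sdiff.1 hi
    by_contra h
    exact hi2 (Finset.mem_filter.2 ⟨hi1, h⟩)
  have haev : ∀ i ∈ B \ T, a i ≠ 0 → a i ^ 2 = 4 := by
    intro i hi hne
    have h2 : (2 : ℤ) ∣ a i := by
      have := hpar i (Finset.mem_sdiff.1 hi).1
      rwa [hcN i hi, sub_zero] at this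
    have h3 : a i ^ 2 ≤ 4 := by
      rw [← haN]
      exact Finset.single_le_sum (f := fun j => a j ^ 2) (fun j _ => sq_nonneg _) hi
    obtain ⟨k, hk⟩ := h2
    have hk0 : k ≠ 0 := by rintro rfl; apply hne; rw [hk]; norm_num
    have h4 : k ^ 2 = 1 := by
      apply sq_one_of_le hk0
      rw [hk] at h3
      nlinarith
    rw [hk]
    linear_combination 4 * h4
  obtain ⟨i4, hi4, hai4⟩ : ∃ i ∈ B \ T, a i ≠ 0 := by
    by_contra hcon
    push Not at hcon
    rw [Finset.sum_eq_zero (fun i hi => by rw [hcon i hi]; norm_num)] at haN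
    norm_num at haN
  have h44 := haev i4 hi4 hai4
  have hother : ∀ i ∈ B \ T, i ≠ i4 → a i = 0 := by
    intro i hi hne
    by_contra hcon
    have h5 := haev i hi hcon
    have h6 : a i4 ^ 2 + ∑ j ∈ (B \ T).erase i4, a j ^ 2 = 4 := by
      rw [Finset.add_sum_erase (B \ T) (fun j => a j ^ 2) hi4, haN]
    have h7 : a i ^ 2 ≤ ∑ j ∈ (B \ T).erase i4, a j ^ 2 :=
      Finset.single_le_sum (f := fun j => a j ^ 2) (fun j _ => sq_nonneg _)
        (Finset.mem_erase.2 ⟨hne, hi⟩)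
    rw [h44] at h6
    linarith
  have hcard3 : (T.erase i0).card = 3 := by
    rw [Finset.card_erase_of_mem h0T, hcard]
  obtain ⟨x, y, u, hxy, hxu, hyu, hTe⟩ := Finset.card_eq_three.1 hcard3
  have hacT : ∑ i ∈ T, a i * c i = 0 := by
    rw [← hac]
    apply Finset.sum_subset hTB
    intro i hi hiT
    rw [hcN i (Finset.mem_sdiff.2 ⟨hi, hiT⟩), mul_zero]
  have hsum : a x * c x + a y * c y + a u * c u = -1 := by
    have h1 := Finset.add_sum_erase T (fun j => a j * c j) h0T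
    rw [hacT, hTe, Finset.sum_insert (by simp [hxy, hxu]), Finset.sum_insert (by simp [hyu]),
      Finset.sum_singleton, ha0, hc0] at h1
    linarith
  have hmem : ∀ i, i ∈ T.erase i0 ↔ i = x ∨ i = y ∨ i = u := by
    intro i; rw [hTe]; simp
  have hxT := (hmem x).2 (Or.inl rfl)
  have hyT := (hmem y).2 (Or.inr (Or.inl rfl))
  have huT := (hmem u).2 (Or.inr (Or.inr rfl))
  have hi4T : i4 ∉ T := (Finset.mem_sdiff.1 hi4).2
  have prod : ∀ i ∈ T, a i * c i = 1 ∧ c i = a i ∨ a i * c i = -1 ∧ c i = - a i := by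
    intro i hi
    have h1 := hc1 i hi
    have h2 := ha1 i hi
    rcases eq_or_of_sq h1 with h3 | h3 <;>
      rcases eq_or_of_sq h2 with h4 | h4 <;> rw [h3, h4] <;> norm_num
  have mk : ∀ p q r : ι, (p ∈ T.erase i0) → (q ∈ T.erase i0) → (r ∈ T.erase i0) → p ≠ q → p ≠ r →
      q ≠ r → (∀ i, i ∈ T.erase i0 → i = p ∨ i = q ∨ i = r) → c p = a p → c q = - a q →
      c r = - a r → Five B a c i0 p q r i4 := by
    intro p q r hp hq hr hpq hpr hqr hall h1 h2 h3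
    have tp := Finset.mem_erase.1 hp
    have tq := Finset.mem_erase.1 hq
    have tr := Finset.mem_erase.1 hr
    refine ⟨hTB tp.2, hTB tq.2, hTB tr.2, (Finset.mem_sdiff.1 hi4).1, tp.1.symm, tq.1.symm,
      tr.1.symm, ?_, hpq, hpr, ?_, hqr, ?_, ?_, ha1 p tp.2, ha1 q tq.2, ha1 r tr.2, h1, h2, h3,
      h44, hcN i4 hi4, ?_⟩
    · rintro rfl; exact hi4T h0T
    · rintro rfl; exact hi4T tp.2
    · rintro rfl; exact hi4T tq.2
    · rintro rfl; exact hi4T tr.2
    · intro i hi e0 e1 e2 e3 e4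
      by_cases hiT : i ∈ T
      · rcases hall i (Finset.mem_erase.2 ⟨e0, hiT⟩) with h | h | h
        · exact absurd h e1
        · exact absurd h e2
        · exact absurd h e3
      · have := Finset.mem_sdiff.2 ⟨hi, hiT⟩
        exact ⟨hother i this e4, hcN i this⟩
  have tx := (Finset.mem_erase.1 hxT).2
  have ty := (Finset.mem_erase.1 hyT).2
  have tu := (Finset.mem_erase.1 huT).2
  rcases prod x tx with ⟨px, cx⟩ | ⟨px, cx⟩ <;> rcases prod y ty with ⟨py, cy⟩ | ⟨py, cy⟩ <;>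
    rcases prod u tu with ⟨pu, cu⟩ | ⟨pu, cu⟩ <;> rw [px, py, pu] at hsum <;> norm_num at hsum
  · exact ⟨x, y, u, i4, mk x y u hxT hyT huT hxy hxu hyu (fun i hi => (hmem i).1 hi) cx cy cu⟩
  · refine ⟨y, x, u, i4, mk y x u hyT hxT huT hxy.symm hyu hxu (fun i hi => ?_) cy cx cu⟩
    rcases (hmem i).1 hi with h | h | h
    · exact Or.inr (Or.inl h)
    · exact Or.inl h
    · exact Or.inr (Or.inr h)
  · refine ⟨u, x, y, i4, mk u x y huT hxT hyT hxu.symm hyu.symm hxy (fun i hi => ?_) cu cx cy⟩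
    rcases (hmem i).1 hi with h | h | h
    · exact Or.inr (Or.inl h)
    · exact Or.inr (Or.inr h)
    · exact Or.inl h

/-- Sums over the block. -/
theorem Five.sum {ι : Type*} [DecidableEq ι] {B : Finset ι} {a c : ι → ℤ} {i0 i1 i2 i3 i4 : ι}
    (h : Five B a c i0 i1 i2 i3 i4) (h0 : i0 ∈ B) {R : Type*} [AddCommMonoid R] (F : ι → R)
    (hF : ∀ i ∈ B, a i = 0 → c i = 0 → F i = 0) :
    ∑ i ∈ B, F i = F i0 + (F i1 + (F i2 + (F i3 + F i4))) := by
  have hsub : ({i0, i1, i2, i3, i4} : Finset ι) ⊆ B := by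
    intro i hi
    simp only [Finset.mem_insert, Finset.mem_singleton] at hi
    rcases hi with rfl | rfl | rfl | rfl | rfl
    · exact h0
    · exact h.m1
    · exact h.m2
    · exact h.m3
    · exact h.m4
  rw [← Finset.sum_subset hsub, Finset.sum_insert, Finset.sum_insert, Finset.sum_insert,
    Finset.sum_insert, Finset.sum_singleton]
  · simp [h.n34]
  · simp [h.n23, h.n24]
  · simp [h.n12, h.n13, h.n14]
  · simp [h.n01, h.n02, h.n03, h.n04]
  · intro i hi hn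
    simp only [Finset.mem_insert, Finset.mem_singleton, not_or] at hn
    obtain ⟨h1, h2⟩ := h.rest i hi hn.1 hn.2.1 hn.2.2.1 hn.2.2.2.1 hn.2.2.2.2
    exact hF i hi h1 h2

end Cfsg.Agent.H1.SF
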