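import Mathlib
import Cfsg.Agent.H1.SFComb
import Cfsg.Agent.H4.KleinBlock
import Cfsg.Agent.H4.SecThird
import Cfsg.Agent.H4.BlkQuot
import Cfsg.Agent.H79.Count
import Cfsg.Agent.Blk.Orth
import Cfsg.Agent.H76.Congr
import Cfsg.Agent.S0942
import Cfsg.Agent.S0947
import Cfsg.Agent.S0907

/-!
# Self-centralizing elements of order 4: the principal 2-block
-/

set_option autoImplicit false
set_option linter.unusedSectionVars false
set_option linter.unusedVariables false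
set_option linter.style.haveILetI false

namespace Cfsg.Agent.H1.SF

open scoped ComplexConjugate
open Cfsg Cfsg.Agent.CharBase Cfsg.Agent.Blk

universe u

variable {G : Type u} [Group G] [Finite G]

theorem exists_int_value4 {χ : G → ℂ} (hχ : IsCharacter G χ) {w : G} (h4 : orderOf w = 4)
    (hr : conj (χ w) = χ w) : ∃ c : ℤ, χ w = c := by
  obtain ⟨n, ρ, rfl⟩ := hχ
  obtain ⟨s, -, hs, hsum⟩ := exists_roots_of_isCharacter ρ w
  rw [h4] at hs
  have key : ∀ s : Multiset ℂ, (∀ x ∈ s, x ^ 4 = 1) →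
      ∃ m k : ℤ, s.sum = m + k * Complex.I := by
    intro s
    induction s using Multiset.induction_on with
    | empty => intro _; exact ⟨0, 0, by simp⟩
    | cons a s ih =>
      intro h
      obtain ⟨m, k, hmk⟩ := ih (fun x hx => h x (Multiset.mem_cons_of_mem hx))
      rw [Multiset.sum_cons, hmk]
      have ha := h a (Multiset.mem_cons_self a s)
      have h1 : (a - 1) * (a + 1) * ((a - Complex.I) * (a + Complex.I)) = 0 := by
        have := Complex.I_sq
        linear_combination ha - (a ^ 2 - 1) * this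
      rcases mul_eq_zero.1 h1 with h2 | h2 <;> rcases mul_eq_zero.1 h2 with h3 | h3
      · exact ⟨1 + m, k, by push_cast; linear_combination h3⟩
      · exact ⟨-1 + m, k, by push_cast; linear_combination h3⟩
      · exact ⟨m, 1 + k, by push_cast; linear_combination h3⟩
      · exact ⟨m, -1 + k, by push_cast; linear_combination h3⟩
  obtain ⟨m, k, hmk⟩ := key s hs
  rw [hsum, hmk] at hr ⊢
  refine ⟨m, ?_⟩
  have h1 := congrArg Complex.im hr
  simp at h1
  have h2 : (k : ℝ) = 0 := by linarith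
  have h3 : k = 0 := by exact_mod_cast h2
  rw [h3]; simp

variable {M : Ideal AlgInt}

theorem two_dvd_of_mli (hM : IsPModular 2 M) {n : ℤ} (h : MemLocalIdeal M (n : ℂ)) : (2 : ℤ) ∣ n := by
  haveI := isPrime_of_isPModular hM
  exact_mod_cast (mli_intCast_iff hM n).1 h

theorem natCard_pairs [Fintype (IrrCharacter G)] (x y u : G) :
    (Nat.card {q : G × G // q.1 * x * q.1⁻¹ * (q.2 * y * q.2⁻¹) = u} : ℂ) =
    (Nat.card G : ℂ) * ∑ χ : IrrCharacter G,
      (χ : G → ℂ) x * (χ : G → ℂ) y * (χ : G → ℂ) u⁻¹ / (χ : G → ℂ) 1 := by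
  classical
  haveI := Fintype.ofFinite G
  rw [← H79.card_pairs x y u, Nat.card_eq_fintype_card, Fintype.card_subtype]

theorem natCard_pairs_coset [Fintype (IrrCharacter G)] (x y z : G) (K : Subgroup G) [Fintype K] :
    (Nat.card {q : G × G // z⁻¹ * (q.1 * x * q.1⁻¹ * (q.2 * y * q.2⁻¹)) ∈ K} : ℂ) =
    (Nat.card G : ℂ) * ∑ χ : IrrCharacter G,
      (χ : G → ℂ) x * (χ : G → ℂ) y * (∑ u : K, (χ : G → ℂ) (z * u)⁻¹) / (χ : G → ℂ) 1 := by
  classical
  let e : {q : G × G // z⁻¹ * (q.1 * x * q.1⁻¹ * (q.2 * y * q.2⁻¹)) ∈ K} ≃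
      Σ u : K, {q : G × G // q.1 * x * q.1⁻¹ * (q.2 * y * q.2⁻¹) = z * u} :=
    { toFun := fun q => ⟨⟨_, q.2⟩, q.1, by simp⟩
      invFun := fun p => ⟨p.2.1, by rw [p.2.2]; simp⟩
      left_inv := fun q => rfl
      right_inv := by
        rintro ⟨⟨u, hu⟩, ⟨q, hq⟩⟩
        have h1 : z⁻¹ * (q.1 * x * q.1⁻¹ * (q.2 * y * q.2⁻¹)) = u := by rw [hq]; simp
        subst h1
        rfl }
  rw [Nat.card_congr e, Nat.card_sigma]
  push_cast
  simp_rw [natCard_pairs]
  rw [← Finset.mul_sum, Finset.sum_comm]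
  congr 1
  refine Finset.sum_congr rfl fun χ _ => ?_
  rw [Finset.mul_sum, Finset.sum_div]

/-- The hypotheses on `z`, `w`. -/
structure Hyp (z w : G) : Prop where
  hz : orderOf z = 2
  hw : orderOf w = 4
  hwz : w * w = z
  hreal : IsConj w w⁻¹
  npc : ∃ k : ℕ, (pPrimeCore 2 (Subgroup.centralizer ({z} : Set G))).index = 2 ^ k
  fac : (Nat.card (Subgroup.centralizer ({z} : Set G))).factorization 2 = 3
  cw : Nat.card (Subgroup.centralizer ({w} : Set G)) = 4

theorem sum_core_eq_zero (hM : IsPModular 2 M) {z : G} (hz : orderOf z = 2)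
    (npc : ∃ k : ℕ, (pPrimeCore 2 (Subgroup.centralizer ({z} : Set G))).index = 2 ^ k)
    {χ : IrrCharacter G} (hχ : χ ∉ principalBlock M G)
    [Fintype (centralizerPPrimeCore 2 z)] :
    ∑ u : centralizerPPrimeCore 2 z, (χ : G → ℂ) (z * u) = 0 := by
  classical
  haveI : Fact (Nat.Prime 2) := ⟨Nat.prime_two⟩
  haveI := isPrime_of_isPModular hM
  haveI := Fintype.ofFinite G
  haveI := Fintype.ofFinite (Subgroup.centralizer ({z} : Set G))
  haveI := Fintype.ofFinite (IrrCharacter (Subgroup.centralizer ({z} : Set G)))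
  haveI := Fintype.ofFinite (pPrimeCore 2 (Subgroup.centralizer ({z} : Set G)))
  have hz2 : ∃ k : ℕ, orderOf z = 2 ^ k := ⟨1, by rw [hz, pow_one]⟩
  have h3 : H4.ThirdAt M z :=
    H4.thirdAt_of_forall hM hz2 fun b hb => Cfsg.Agent.S0936.result 2 M hM _ b hb
  let e : pPrimeCore 2 (Subgroup.centralizer ({z} : Set G)) ≃ centralizerPPrimeCore 2 z :=
    ((pPrimeCore 2 (Subgroup.centralizer ({z} : Set G))).equivMapOfInjective
      (Subgroup.centralizer ({z} : Set G)).subtype Subtype.val_injective).toEquiv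
  rw [← Equiv.sum_comp e]
  have h1 : ∀ y : pPrimeCore 2 (Subgroup.centralizer ({z} : Set G)),
      (χ : G → ℂ) (z * ((e y : centralizerPPrimeCore 2 z) : G)) =
      ∑ ψ : IrrCharacter (Subgroup.centralizer ({z} : Set G)),
      if ψ ∈ principalBlock M (Subgroup.centralizer ({z} : Set G)) then 0 else
      classInner (fun c : Subgroup.centralizer ({z} : Set G) => (χ : G → ℂ) (z * (c : G)))
        (ψ : Subgroup.centralizer ({z} : Set G) → ℂ) *
          (ψ : Subgroup.centralizer ({z} : Set G) → ℂ) y := by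
    intro y
    have hy : ¬ 2 ∣ orderOf (y : Subgroup.centralizer ({z} : Set G)) := by
      have hcard : ¬ 2 ∣ Nat.card (pPrimeCore 2 (Subgroup.centralizer ({z} : Set G))) :=
        (Nat.Prime.coprime_iff_not_dvd Nat.prime_two).mp
          (Cfsg.Agent.Solv.pPrimeCore_card_coprime 2).symm
      intro h
      apply hcard
      rw [Subgroup.orderOf_coe] at h
      exact h.trans (orderOf_dvd_natCard y)
    exact H4.not_principal_translate_eq hM hz2 h3 hχ (y : Subgroup.centralizer ({z} : Set G)) hy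
  rw [Finset.sum_congr rfl fun y _ => h1 y, Finset.sum_comm]
  apply Finset.sum_eq_zero
  intro ψ _
  split_ifs with hψ
  · simp
  · rw [← Finset.mul_sum]
    rw [H4.principalBlock_eq_of_npc M hM npc] at hψ
    haveI hn : (pPrimeCore 2 (Subgroup.centralizer ({z} : Set G))).Normal := inferInstance
    have h4 := H4.sum_coset_eq_zero (pPrimeCore 2 (Subgroup.centralizer ({z} : Set G))) ψ hψ 1
    simp only [one_mul] at h4
    rw [h4, mul_zero]

open Classical in
/-- The principal block as a finset. -/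
noncomputable def pb (M : Ideal AlgInt) (G : Type u) [Group G] [Finite G]
    [Fintype (IrrCharacter G)] : Finset (IrrCharacter G) :=
  Finset.univ.filter (fun χ => χ ∈ principalBlock M G)

theorem mem_pb [Fintype (IrrCharacter G)] {χ : IrrCharacter G} :
    χ ∈ pb M G ↔ χ ∈ principalBlock M G := by
  classical
  unfold pb
  simp

theorem sq_sum (hM : IsPModular 2 M) [Fintype (IrrCharacter G)] {x : G}
    (hx : ∃ k : ℕ, orderOf x = 2 ^ k) (hx1 : x ≠ 1)
    (npc : ∃ k : ℕ, (pPrimeCore 2 (Subgroup.centralizer ({x} : Set G))).index = 2 ^ k) {n : ℕ}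
    (fac : (Nat.card (Subgroup.centralizer ({x} : Set G))).factorization 2 = n)
    (a : IrrCharacter G → ℤ) (ha : ∀ χ : IrrCharacter G, (χ : G → ℂ) x = a χ) :
    ∑ χ ∈ pb M G, a χ ^ 2 = 2 ^ n := by
  classical
  haveI : Fact (Nat.Prime 2) := ⟨Nat.prime_two⟩
  have h1 := (Cfsg.Agent.S0947.result 2 M hM x hx hx1 1 (by rw [orderOf_one]; omega)).2 npc
  rw [fac, H4.finsum_mem_real_eq_sum_ite] at h1
  simp only [Subgroup.coe_one, mul_one, ha] at h1
  unfold pb
  rw [Finset.sum_filter]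
  have h2 : ∀ χ : IrrCharacter G, (if χ ∈ principalBlock M G then ‖((a χ : ℤ) : ℂ)‖ ^ 2 else 0) =
      (((if χ ∈ principalBlock M G then (a χ) ^ 2 else 0 : ℤ)) : ℝ) := by
    intro χ
    split_ifs
    · rw [Complex.norm_intCast]
      push_cast
      rw [sq_abs]
    · simp
  simp_rw [h2] at h1
  have h3 : ((∑ χ : IrrCharacter G, if χ ∈ principalBlock M G then (a χ) ^ 2 else 0 : ℤ) : ℝ) =
      ((2 ^ n : ℤ) : ℝ) := by
    push_cast
    push_cast at h1
    rw [h1]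
  exact_mod_cast h3

theorem cross_sum (hM : IsPModular 2 M) [Fintype (IrrCharacter G)] {x y : G}
    (hx : ∃ k : ℕ, orderOf x = 2 ^ k) (hy : ∃ k : ℕ, orderOf y = 2 ^ k) (hxy : ¬ IsConj x y)
    (a b : IrrCharacter G → ℤ) (ha : ∀ χ : IrrCharacter G, (χ : G → ℂ) x = a χ)
    (hb : ∀ χ : IrrCharacter G, (χ : G → ℂ) y = b χ) :
    ∑ χ ∈ pb M G, a χ * b χ = 0 := by
  classical
  haveI := isPrime_of_isPModular hM
  haveI := Fintype.ofFinite G
  have h1 := Blk.block_orthogonality hM (B := principalBlock M G) isPBlock_principalBlock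
    (g := x) (h := y) (x := x) (y := y)
    ⟨1, mul_one x, Commute.one_right x, hx, by rw [orderOf_one]; norm_num⟩
    ⟨1, mul_one y, Commute.one_right y, hy, by rw [orderOf_one]; norm_num⟩ hxy
  rw [finsum_mem_eq_sum_ite] at h1
  unfold pb
  rw [Finset.sum_filter]
  have h2 : ∀ χ : IrrCharacter G, (if χ ∈ principalBlock M G then
      (χ : G → ℂ) x * conj ((χ : G → ℂ) y) else 0) =
      ((if χ ∈ principalBlock M G then a χ * b χ else 0 : ℤ) : ℂ) := by
    intro χ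
    split_ifs
    · rw [ha, hb]; simp
    · simp
  simp_rw [h2] at h1
  exact_mod_cast h1

theorem sum_zero_of_not_mem [Fintype (IrrCharacter G)] {x : G}
    (a : IrrCharacter G → ℤ) (ha : ∀ χ : IrrCharacter G, (χ : G → ℂ) x = a χ)
    (hsum : ∑ χ ∈ pb M G, a χ ^ 2 = Nat.card (Subgroup.centralizer ({x} : Set G)))
    {χ : IrrCharacter G} (hχ : χ ∉ pb M G) : a χ = 0 := by
  classical
  have h1 := column_orthogonality_of_isConj (IsConj.refl x)
  have h2 : ∀ χ : IrrCharacter G, (χ : G → ℂ) x * conj ((χ : G → ℂ) x) = ((a χ ^ 2 : ℤ) : ℂ) := by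
    intro χ
    rw [ha]; push_cast; simp [sq]
  simp_rw [h2] at h1
  have h3 : ∑ χ : IrrCharacter G, a χ ^ 2 = Nat.card (Subgroup.centralizer ({x} : Set G)) := by
    exact_mod_cast h1
  have h4 := Finset.sum_sdiff (f := fun χ => a χ ^ 2) (Finset.subset_univ (pb M G))
  rw [h3, hsum] at h4
  have h5 : ∑ χ ∈ Finset.univ \ pb M G, a χ ^ 2 = 0 := by linarith
  have h6 := (Finset.sum_eq_zero_iff_of_nonneg (fun χ _ => sq_nonneg (a χ))).1 h5 χ
    (Finset.mem_sdiff.2 ⟨Finset.mem_univ _, hχ⟩)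
  exact pow_eq_zero_iff (two_ne_zero) |>.1 h6

theorem npc_of_card_four {w : G} (cw : Nat.card (Subgroup.centralizer ({w} : Set G)) = 4) :
    ∃ k : ℕ, (pPrimeCore 2 (Subgroup.centralizer ({w} : Set G))).index = 2 ^ k := by
  have h1 := (pPrimeCore 2 (Subgroup.centralizer ({w} : Set G))).index_dvd_card
  rw [cw, show 4 = 2 ^ 2 by norm_num, Nat.dvd_prime_pow Nat.prime_two] at h1
  obtain ⟨k, -, hk⟩ := h1
  exact ⟨k, hk⟩

/-- The values of the characters at `z`, `w` and the relations between them. -/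
structure Vals (M : Ideal AlgInt) [Fintype (IrrCharacter G)] (z w : G)
    (a c : IrrCharacter G → ℤ) : Prop where
  za : ∀ χ : IrrCharacter G, (χ : G → ℂ) z = a χ
  wc : ∀ χ : IrrCharacter G, (χ : G → ℂ) w = c χ
  pac : ∀ χ : IrrCharacter G, (2 : ℤ) ∣ a χ - c χ
  pdc : ∀ χ : IrrCharacter G, (2 : ℤ) ∣ (H75.deg χ : ℤ) - c χ
  saa : ∑ χ ∈ pb M G, a χ ^ 2 = 8
  scc : ∑ χ ∈ pb M G, c χ ^ 2 = 4
  sac : ∑ χ ∈ pb M G, a χ * c χ = 0
  sad : ∑ χ ∈ pb M G, a χ * (H75.deg χ : ℤ) = 0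
  scd : ∑ χ ∈ pb M G, c χ * (H75.deg χ : ℤ) = 0
  out : ∀ χ : IrrCharacter G, χ ∉ pb M G → c χ = 0
  one_mem : oneIrr G ∈ pb M G
  a_one : a (oneIrr G) = 1
  c_one : c (oneIrr G) = 1

theorem Hyp.exists_vals {z w : G} (h : Hyp z w) (hM : IsPModular 2 M)
    [Fintype (IrrCharacter G)] : ∃ a c : IrrCharacter G → ℤ, Vals M z w a c := by
  classical
  haveI := isPrime_of_isPModular hM
  haveI := Fintype.ofFinite G
  have hzz : z * z = 1 := by rw [← pow_two, ← h.hz, pow_orderOf_eq_one]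
  have hzk : ∃ k : ℕ, orderOf z = 2 ^ k := ⟨1, by rw [h.hz, pow_one]⟩
  have hwk : ∃ k : ℕ, orderOf w = 2 ^ k := ⟨2, by rw [h.hw]; norm_num⟩
  have h1k : ∃ k : ℕ, orderOf (1 : G) = 2 ^ k := ⟨0, by simp⟩
  have hw1 : w ≠ 1 := by
    rintro rfl
    have := h.hw
    rw [orderOf_one] at this
    omega
  have hz1 : z ≠ 1 := by
    rintro rfl
    have := h.hz
    rw [orderOf_one] at this
    omega
  choose a ha using fun χ : IrrCharacter G => H4.exists_int_value (irr_isCharacter χ) hzz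
  have hreal : ∀ χ : IrrCharacter G, conj ((χ : G → ℂ) w) = (χ : G → ℂ) w := by
    intro χ
    rw [← irr_inv]
    exact (classFun_eq_of_isConj (irr_isClassFunction χ) h.hreal).symm
  choose c hc using fun χ : IrrCharacter G =>
    exists_int_value4 (irr_isCharacter χ) h.hw (hreal χ)
  have hd : ∀ χ : IrrCharacter G, (χ : G → ℂ) 1 = ((H75.deg χ : ℤ) : ℂ) := by
    intro χ; rw [H75.deg_spec]; simp
  have pda : ∀ χ : IrrCharacter G, (2 : ℤ) ∣ a χ - H75.deg χ := by
    intro χ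
    apply two_dvd_of_mli hM
    have := H76.mli_char_sub_one hM (irr_isCharacter χ) hzk
    rw [ha, hd] at this
    push_cast at this ⊢
    exact this
  have pdc' : ∀ χ : IrrCharacter G, (2 : ℤ) ∣ c χ - H75.deg χ := by
    intro χ
    apply two_dvd_of_mli hM
    have := H76.mli_char_sub_one hM (irr_isCharacter χ) hwk
    rw [hc, hd] at this
    push_cast at this ⊢
    exact this
  have hnzw : ¬ IsConj z w := by
    intro hcon
    obtain ⟨g, hg⟩ := isConj_iff.1 hcon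
    have h2 := h.hw
    rw [← hg] at h2
    have h3 : orderOf (g * z * g⁻¹) = orderOf z := by
      rw [← MulAut.conj_apply]
      exact (MulAut.conj g).orderOf_eq z
    rw [h3, h.hz] at h2
    omega
  have hz1' : ¬ IsConj z 1 := fun hcon => hz1 (isConj_one_right.1 hcon.symm)
  have hw1' : ¬ IsConj w 1 := fun hcon => hw1 (isConj_one_right.1 hcon.symm)
  have scc : ∑ χ ∈ pb M G, c χ ^ 2 = 4 := by
    have := sq_sum hM hwk hw1 (npc_of_card_four h.cw) (n := 2) (by
      rw [h.cw, show 4 = 2 ^ 2 by norm_num, Nat.Prime.factorization_pow Nat.prime_two]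
      simp) c hc
    rw [this]; norm_num
  refine ⟨a, c, ha, hc, ?_, ?_, ?_, scc, cross_sum hM hzk hwk hnzw a c ha hc,
    cross_sum hM hzk h1k hz1' a _ ha hd, cross_sum hM hwk h1k hw1' c _ hc hd, ?_, ?_, ?_, ?_⟩
  · intro χ
    have := dvd_sub (pda χ) (pdc' χ)
    rwa [sub_sub_sub_cancel_right] at this
  · intro χ
    have := (pdc' χ).neg_right
    rwa [neg_sub] at this
  · have := sq_sum hM hzk hz1 h.npc h.fac a ha
    rw [this]; norm_num
  · intro χ hχ
    exact sum_zero_of_not_mem c hc (by rw [scc, h.cw]; norm_num) hχ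
  · exact mem_pb.2 oneIrr_mem_principalBlock
  · have := ha (oneIrr G)
    rw [oneIrr_apply] at this
    exact_mod_cast this.symm
  · have := hc (oneIrr G)
    rw [oneIrr_apply] at this
    exact_mod_cast this.symm

theorem sum_pairs_eq [Fintype (IrrCharacter G)] {z w v : G} {a b c : IrrCharacter G → ℤ}
    (V : Vals M z w a c) (vb : ∀ χ : IrrCharacter G, (χ : G → ℂ) v = b χ) :
    ∑ χ : IrrCharacter G, (χ : G → ℂ) z * (χ : G → ℂ) v * (χ : G → ℂ) w⁻¹ / (χ : G → ℂ) 1 =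
    ∑ χ ∈ pb M G, ((a χ : ℂ) * b χ * c χ / H75.deg χ) := by
  classical
  have h1 : ∀ χ : IrrCharacter G,
      (χ : G → ℂ) z * (χ : G → ℂ) v * (χ : G → ℂ) w⁻¹ / (χ : G → ℂ) 1 =
      ((a χ : ℂ) * b χ * c χ / H75.deg χ) := by
    intro χ
    rw [irr_inv, V.za, vb, V.wc, H75.deg_spec]
    simp
  simp_rw [h1]
  symm
  apply Finset.sum_subset (Finset.subset_univ _)
  intro χ _ hχ
  rw [V.out χ hχ]
  simp

theorem core_commute {z x : G} (hx : x ∈ centralizerPPrimeCore 2 z) : Commute z x := by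
  obtain ⟨y, -, rfl⟩ := hx
  exact (Subgroup.mem_centralizer_singleton_iff.1 y.2).symm

theorem sum_core_eq (hM : IsPModular 2 M) [Fintype (IrrCharacter G)] {z w : G}
    {a c : IrrCharacter G → ℤ} (h : Hyp z w)
    (V : Vals M z w a c) [Fintype (centralizerPPrimeCore 2 z)] :
    ∑ χ : IrrCharacter G, (χ : G → ℂ) z * (χ : G → ℂ) z *
      (∑ u : centralizerPPrimeCore 2 z, (χ : G → ℂ) (z * u)⁻¹) / (χ : G → ℂ) 1 =
    (Nat.card (centralizerPPrimeCore 2 z) : ℂ) *
      ∑ χ ∈ pb M G, ((a χ : ℂ) ^ 3 / H75.deg χ) := by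
  classical
  haveI : Fact (Nat.Prime 2) := ⟨Nat.prime_two⟩
  have hzk : ∃ k : ℕ, orderOf z = 2 ^ k := ⟨1, by rw [h.hz, pow_one]⟩
  have h1 : ∀ χ : IrrCharacter G,
      ∑ u : centralizerPPrimeCore 2 z, (χ : G → ℂ) (z * u)⁻¹ =
      if χ ∈ pb M G then (Nat.card (centralizerPPrimeCore 2 z) : ℂ) * a χ else 0 := by
    intro χ
    have h2 : ∀ u : centralizerPPrimeCore 2 z, (χ : G → ℂ) (z * u)⁻¹ =
        conj ((χ : G → ℂ) (z * u)) := fun u => irr_inv χ _
    simp_rw [h2]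
    rw [← map_sum]
    split_ifs with hχ
    · have h3 : ∀ u : centralizerPPrimeCore 2 z, (χ : G → ℂ) (z * u) = a χ := by
        intro u
        rw [Cfsg.Agent.S0942.result 2 M hM z hzk u u.2 χ (mem_pb.1 hχ), V.za]
      rw [Finset.sum_congr rfl fun u _ => h3 u, Finset.sum_const, Finset.card_univ,
        nsmul_eq_mul, Nat.card_eq_fintype_card]
      simp
    · rw [sum_core_eq_zero hM h.hz h.npc (fun hh => hχ (mem_pb.2 hh))]
      simp
  simp_rw [h1]
  rw [Finset.mul_sum]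
  have h2 : ∀ χ : IrrCharacter G, (χ : G → ℂ) z * (χ : G → ℂ) z *
      (if χ ∈ pb M G then (Nat.card (centralizerPPrimeCore 2 z) : ℂ) * a χ else 0) /
        (χ : G → ℂ) 1 = if χ ∈ pb M G then
      (Nat.card (centralizerPPrimeCore 2 z) : ℂ) * ((a χ : ℂ) ^ 3 / H75.deg χ) else 0 := by
    intro χ
    rw [V.za, H75.deg_spec]
    split_ifs
    · ring
    · ring
  simp_rw [h2]
  rw [Finset.sum_ite_mem, Finset.univ_inter]

/-- The five characters and the degree relations. -/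
theorem exists_degrees (hM : IsPModular 2 M) [Fintype (IrrCharacter G)] {z w : G}
    {a c : IrrCharacter G → ℤ} (V : Vals M z w a c) :
    ∃ i1 i2 i3 i4, Five (pb M G) a c (oneIrr G) i1 i2 i3 i4 ∧
      Odd (a i1 * H75.deg i1) ∧ a i1 * H75.deg i1 + 1 ≠ 0 ∧
      a i2 * H75.deg i2 + a i3 * H75.deg i3 = a i1 * H75.deg i1 + 1 ∧
      a i4 * H75.deg i4 = - 2 * (a i1 * H75.deg i1 + 1) := by
  classical
  obtain ⟨i1, i2, i3, i4, F⟩ := exists_five (pb M G) a c (oneIrr G) V.one_mem V.a_one V.c_one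
    V.saa V.scc V.sac (fun i _ => V.pac i)
  have hd1 : (H75.deg (oneIrr G) : ℤ) = 1 := by
    have := H75.deg_spec (oneIrr G)
    rw [oneIrr_apply] at this
    exact_mod_cast this.symm
  have h1 := V.sad
  have h2 := V.scd
  rw [F.sum V.one_mem (fun χ => a χ * (H75.deg χ : ℤ)) (fun i _ ha _ => by simp only [ha]; ring),
    V.a_one, hd1] at h1
  rw [F.sum V.one_mem (fun χ => c χ * (H75.deg χ : ℤ)) (fun i _ _ hc => by simp only [hc]; ring),
    V.c_one, hd1, F.c1, F.c2, F.c3, F.c4] at h2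
  have e1 : a i2 * H75.deg i2 + a i3 * H75.deg i3 = a i1 * H75.deg i1 + 1 := by
    linear_combination -h2
  have e2 : a i4 * H75.deg i4 = - 2 * (a i1 * H75.deg i1 + 1) := by
    linear_combination h1 - e1
  refine ⟨i1, i2, i3, i4, F, ?_, ?_, e1, e2⟩
  · have hc1 : c i1 = 1 ∨ c i1 = -1 := by
      rw [F.c1]; exact eq_or_of_sq F.a1
    have hodd : Odd (H75.deg i1 : ℤ) := by
      obtain ⟨k, hk⟩ := V.pdc i1
      rcases hc1 with h | h
      · exact ⟨k, by rw [h] at hk; linarith⟩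
      · exact ⟨k - 1, by rw [h] at hk; linarith⟩
    rcases eq_or_of_sq F.a1 with h | h
    · rw [h, one_mul]; exact hodd
    · rw [h, neg_one_mul]; exact hodd.neg
  · intro h0
    rw [h0, mul_zero] at e2
    have h3 := H75.deg_pos i4
    have h4 : (H75.deg i4 : ℤ) ≠ 0 := by exact_mod_cast h3.ne'
    have h5 : a i4 = 0 := by
      rcases mul_eq_zero.1 e2 with h | h
      · exact h
      · exact absurd h h4
    have h6 := F.a4
    rw [h5] at h6
    norm_num at h6

theorem div_of_sq {x d : ℂ} (hx : x ^ 2 = 1) : x / d = 1 / (x * d) := by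
  have hx0 : x ≠ 0 := by
    rintro rfl
    norm_num at hx
  by_cases hd : d = 0
  · rw [hd]; simp
  field_simp
  exact hx

theorem ne_zero_of_sq {x : ℤ} {n : ℤ} (hn : n ≠ 0) (h : x ^ 2 = n) : x ≠ 0 := by
  rintro rfl
  apply hn
  rw [← h]; ring

theorem deg_oneIrr : (H75.deg (oneIrr G) : ℂ) = 1 := by
  have := H75.deg_spec (oneIrr G)
  rw [oneIrr_apply] at this
  exact this.symm

theorem count_core (hM : IsPModular 2 M) [Fintype (IrrCharacter G)] {z w : G}
    {a c : IrrCharacter G → ℤ} (h : Hyp z w) (V : Vals M z w a c) {i1 i2 i3 i4 : IrrCharacter G}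
    (F : Five (pb M G) a c (oneIrr G) i1 i2 i3 i4) (hne : a i1 * H75.deg i1 + 1 ≠ 0)
    (e2 : a i4 * H75.deg i4 = - 2 * (a i1 * H75.deg i1 + 1)) :
    (Nat.card {q : G × G // z⁻¹ * (q.1 * z * q.1⁻¹ * (q.2 * z * q.2⁻¹)) ∈
        centralizerPPrimeCore 2 z} : ℚ) =
      Nat.card G * (Nat.card (centralizerPPrimeCore 2 z) *
          (1 + 1 / (a i1 * H75.deg i1 : ℤ) + 1 / (a i2 * H75.deg i2 : ℤ)
          + 1 / (a i3 * H75.deg i3 : ℤ) - 8 / ((a i1 * H75.deg i1 : ℤ) + 1))) := by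
  classical
  haveI := Fintype.ofFinite (centralizerPPrimeCore 2 z)
  have sq1 : ((a i1 : ℤ) : ℂ) ^ 2 = 1 := by exact_mod_cast F.a1
  have sq2 : ((a i2 : ℤ) : ℂ) ^ 2 = 1 := by exact_mod_cast F.a2
  have sq3 : ((a i3 : ℤ) : ℂ) ^ 2 = 1 := by exact_mod_cast F.a3
  have sq4 : ((a i4 : ℤ) : ℂ) ^ 2 = 4 := by exact_mod_cast F.a4
  have k1 := natCard_pairs_coset (G := G) z z z (centralizerPPrimeCore 2 z)
  rw [sum_core_eq hM h V, F.sum V.one_mem
    (fun χ => ((a χ : ℂ) ^ 3 / H75.deg χ)) (fun i _ ha _ => by simp only [ha]; simp),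
    V.a_one, deg_oneIrr] at k1
  have e2' : ((a i4 : ℤ) : ℂ) * H75.deg i4 = - 2 * (a i1 * H75.deg i1 + 1) := by
    exact_mod_cast e2
  have hne' : ((a i1 : ℤ) : ℂ) * H75.deg i1 + 1 ≠ 0 := by exact_mod_cast hne
  have k3 : ((a i4 : ℤ) : ℂ) ^ 3 / H75.deg i4 = - (8 / (a i1 * H75.deg i1 + 1)) := by
    have hd4 : (H75.deg i4 : ℂ) ≠ 0 := by exact_mod_cast (H75.deg_pos i4).ne'
    rw [div_eq_iff hd4, neg_mul, div_mul_eq_mul_div, eq_comm, ← neg_div, div_eq_iff hne']
    have k4 : ((a i4 : ℤ) : ℂ) * (a i1 * H75.deg i1 + 1) * (-2) =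
        4 * H75.deg i4 := by
      linear_combination -(a i4 : ℂ) * e2' + (H75.deg i4 : ℂ) * sq4
    linear_combination 2 * k4 - ((a i4 : ℤ) : ℂ) * (a i1 * H75.deg i1 + 1) * sq4
  have k2 : ((Nat.card {q : G × G // z⁻¹ * (q.1 * z * q.1⁻¹ * (q.2 * z * q.2⁻¹)) ∈
      centralizerPPrimeCore 2 z} : ℚ) : ℂ) =
      ((Nat.card G * (Nat.card (centralizerPPrimeCore 2 z) *
        (1 + 1 / (a i1 * H75.deg i1 : ℤ) + 1 / (a i2 * H75.deg i2 : ℤ)
        + 1 / (a i3 * H75.deg i3 : ℤ) - 8 / ((a i1 * H75.deg i1 : ℤ) + 1))) : ℚ) : ℂ) := by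
    push_cast
    rw [k1, k3, ← div_of_sq sq1, ← div_of_sq sq2, ← div_of_sq sq3]
    push_cast
    congr 2
    linear_combination (a i1 : ℂ) / (H75.deg i1 : ℂ) * sq1 + (a i2 : ℂ) / (H75.deg i2 : ℂ) * sq2
      + (a i3 : ℂ) / (H75.deg i3 : ℂ) * sq3
  exact_mod_cast k2

theorem count_w [Fintype (IrrCharacter G)] {z w : G}
    {a c : IrrCharacter G → ℤ} (V : Vals M z w a c) {i1 i2 i3 i4 : IrrCharacter G}
    (F : Five (pb M G) a c (oneIrr G) i1 i2 i3 i4) {v : G} {b : IrrCharacter G → ℤ}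
    (vb : ∀ χ : IrrCharacter G, (χ : G → ℂ) v = b χ) :
    (Nat.card {q : G × G // q.1 * z * q.1⁻¹ * (q.2 * v * q.2⁻¹) = w} : ℚ) =
      Nat.card G * (1 + (b i1 : ℤ) / (H75.deg i1 : ℤ) - (b i2 : ℤ) / (H75.deg i2 : ℤ)
        - (b i3 : ℤ) / (H75.deg i3 : ℤ)) := by
  classical
  have sq1 : ((a i1 : ℤ) : ℂ) ^ 2 = 1 := by exact_mod_cast F.a1
  have sq2 : ((a i2 : ℤ) : ℂ) ^ 2 = 1 := by exact_mod_cast F.a2
  have sq3 : ((a i3 : ℤ) : ℂ) ^ 2 = 1 := by exact_mod_cast F.a3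
  have hb1 : b (oneIrr G) = 1 := by
    have := vb (oneIrr G)
    rw [oneIrr_apply] at this
    exact_mod_cast this.symm
  have k1 := natCard_pairs (G := G) z v w
  rw [sum_pairs_eq V vb, F.sum V.one_mem
    (fun χ => ((a χ : ℂ) * b χ * c χ / H75.deg χ)) (fun i _ ha _ => by simp only [ha]; simp),
    V.a_one, V.c_one, hb1, deg_oneIrr, F.c1, F.c2, F.c3, F.c4] at k1
  have k2 : ((Nat.card {q : G × G // q.1 * z * q.1⁻¹ * (q.2 * v * q.2⁻¹) = w} : ℚ) : ℂ) =
      ((Nat.card G * (1 + (b i1 : ℤ) / (H75.deg i1 : ℤ) - (b i2 : ℤ) / (H75.deg i2 : ℤ)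
        - (b i3 : ℤ) / (H75.deg i3 : ℤ)) : ℚ) : ℂ) := by
    push_cast
    rw [k1]
    push_cast
    congr 1
    linear_combination (b i1 : ℂ) / (H75.deg i1 : ℂ) * sq1 - (b i2 : ℂ) / (H75.deg i2 : ℂ) * sq2
      - (b i3 : ℂ) / (H75.deg i3 : ℂ) * sq3
  exact_mod_cast k2

theorem div_of_sq' {x : ℤ} {d : ℕ} (hx : x ^ 2 = 1) :
    ((x : ℤ) : ℚ) / (d : ℤ) = 1 / ((x * d : ℤ) : ℚ) := by
  have hx' : ((x : ℤ) : ℚ) ^ 2 = 1 := by exact_mod_cast hx
  have hx0 : (x : ℚ) ≠ 0 := by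
    intro h0
    rw [h0] at hx'
    norm_num at hx'
  by_cases hd : d = 0
  · rw [hd]; simp
  have hd' : (d : ℚ) ≠ 0 := by exact_mod_cast hd
  push_cast
  field_simp
  exact hx'

/-- **The counts**, general form. -/
theorem Hyp.counts {z w : G} (h : Hyp z w) :
    ∃ f f2 f3 : ℤ, Odd f ∧ f + 1 ≠ 0 ∧ f2 ≠ 0 ∧ f3 ≠ 0 ∧ f2 + f3 = f + 1 ∧
      (Nat.card {q : G × G // q.1 * z * q.1⁻¹ * (q.2 * z * q.2⁻¹) = w} : ℚ) =
        Nat.card G * (1 + 1 / f - 1 / f2 - 1 / f3) ∧
      (Nat.card {q : G × G // z⁻¹ * (q.1 * z * q.1⁻¹ * (q.2 * z * q.2⁻¹)) ∈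
        centralizerPPrimeCore 2 z} : ℚ) =
        Nat.card G * (Nat.card (centralizerPPrimeCore 2 z) *
          (1 + 1 / f + 1 / f2 + 1 / f3 - 8 / (f + 1))) := by
  classical
  obtain ⟨M, hM⟩ := H76.exists_isPModular Nat.prime_two
  haveI := Fintype.ofFinite (IrrCharacter G)
  obtain ⟨a, c, V⟩ := h.exists_vals hM
  obtain ⟨i1, i2, i3, i4, F, hodd, hne, e1, e2⟩ := exists_degrees hM V
  have hd0 : ∀ χ : IrrCharacter G, (H75.deg χ : ℤ) ≠ 0 := fun χ => by
    exact_mod_cast (H75.deg_pos χ).ne'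
  have n2 := ne_zero_of_sq one_ne_zero F.a2
  have n3 := ne_zero_of_sq one_ne_zero F.a3
  refine ⟨a i1 * H75.deg i1, a i2 * H75.deg i2, a i3 * H75.deg i3, hodd, hne,
    mul_ne_zero n2 (hd0 i2), mul_ne_zero n3 (hd0 i3), e1, ?_, count_core hM h V F hne e2⟩
  rw [count_w V F V.za, div_of_sq' F.a1, div_of_sq' F.a2, div_of_sq' F.a3]

/-- **The counts** with a second class of involutions. -/
theorem Hyp.counts2 {z w v : G} (h : Hyp z w) (hv : orderOf v = 2) (hzv : ¬ IsConj z v)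
    (npcv : ∃ k : ℕ, (pPrimeCore 2 (Subgroup.centralizer ({v} : Set G))).index = 2 ^ k)
    (facv : (Nat.card (Subgroup.centralizer ({v} : Set G))).factorization 2 = 2) :
    ∃ f : ℤ, Odd f ∧ f + 1 ≠ 0 ∧
      (Nat.card {q : G × G // q.1 * z * q.1⁻¹ * (q.2 * v * q.2⁻¹) = w} : ℚ) =
        Nat.card G * (2 - 2 / f) ∧
      (Nat.card {q : G × G // z⁻¹ * (q.1 * z * q.1⁻¹ * (q.2 * z * q.2⁻¹)) ∈
        centralizerPPrimeCore 2 z} : ℚ) =
        Nat.card G * (Nat.card (centralizerPPrimeCore 2 z) *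
          (2 + 2 / f - 8 / (f + 1))) := by
  classical
  obtain ⟨M, hM⟩ := H76.exists_isPModular Nat.prime_two
  haveI := Fintype.ofFinite (IrrCharacter G)
  obtain ⟨a, c, V⟩ := h.exists_vals hM
  obtain ⟨i1, i2, i3, i4, F, hodd, hne, e1, e2⟩ := exists_degrees hM V
  have hd0 : ∀ χ : IrrCharacter G, (H75.deg χ : ℤ) ≠ 0 := fun χ => by
    exact_mod_cast (H75.deg_pos χ).ne'
  have hvv : v * v = 1 := by rw [← pow_two, ← hv, pow_orderOf_eq_one]
  have hvk : ∃ k : ℕ, orderOf v = 2 ^ k := ⟨1, by rw [hv, pow_one]⟩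
  have hzk : ∃ k : ℕ, orderOf z = 2 ^ k := ⟨1, by rw [h.hz, pow_one]⟩
  have hwk : ∃ k : ℕ, orderOf w = 2 ^ k := ⟨2, by rw [h.hw]; norm_num⟩
  have h1k : ∃ k : ℕ, orderOf (1 : G) = 2 ^ k := ⟨0, by simp⟩
  have hv1 : v ≠ 1 := by
    rintro rfl
    rw [orderOf_one] at hv
    omega
  have hvw : ¬ IsConj v w := by
    intro hcon
    obtain ⟨g, hg⟩ := isConj_iff.1 hcon
    have h2 := h.hw
    rw [← hg] at h2
    have h3 : orderOf (g * v * g⁻¹) = orderOf v := by
      rw [← MulAut.conj_apply]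
      exact (MulAut.conj g).orderOf_eq v
    rw [h3, hv] at h2
    omega
  have hv1' : ¬ IsConj v 1 := fun hcon => hv1 (isConj_one_right.1 hcon.symm)
  choose b hb using fun χ : IrrCharacter G => H4.exists_int_value (irr_isCharacter χ) hvv
  have hd : ∀ χ : IrrCharacter G, (χ : G → ℂ) 1 = ((H75.deg χ : ℤ) : ℂ) := by
    intro χ; rw [H75.deg_spec]; simp
  have pdb : ∀ χ : IrrCharacter G, (2 : ℤ) ∣ b χ - H75.deg χ := by
    intro χ
    haveI := isPrime_of_isPModular hM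
    haveI := Fintype.ofFinite G
    apply two_dvd_of_mli hM
    have := H76.mli_char_sub_one hM (irr_isCharacter χ) hvk
    rw [hb, hd] at this
    push_cast at this ⊢
    exact this
  have pbc : ∀ χ : IrrCharacter G, (2 : ℤ) ∣ b χ - c χ := by
    intro χ
    have := dvd_add (pdb χ) (V.pdc χ)
    rwa [sub_add_sub_cancel] at this
  have sbb : ∑ χ ∈ pb M G, b χ ^ 2 = 4 := by
    rw [sq_sum hM hvk hv1 npcv facv b hb]; norm_num
  have sba : ∑ χ ∈ pb M G, b χ * a χ = 0 :=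
    cross_sum hM hvk hzk (fun hh => hzv hh.symm) b a hb V.za
  have sbc : ∑ χ ∈ pb M G, b χ * c χ = 0 := cross_sum hM hvk hwk hvw b c hb V.wc
  have sbd : ∑ χ ∈ pb M G, b χ * (H75.deg χ : ℤ) = 0 := cross_sum hM hvk h1k hv1' b _ hb hd
  have hb1 : b (oneIrr G) = 1 := by
    have := hb (oneIrr G)
    rw [oneIrr_apply] at this
    exact_mod_cast this.symm
  have odd_sq : ∀ χ : IrrCharacter G, (c χ = 1 ∨ c χ = -1) → 1 ≤ b χ ^ 2 := by
    intro χ hc
    have hne0 : b χ ≠ 0 := by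
      intro h0
      have := pbc χ
      rw [h0] at this
      rcases hc with hc | hc <;> rw [hc] at this <;> norm_num at this
    have : 0 < b χ ^ 2 := by positivity
    linarith
  have c1 : c i1 = 1 ∨ c i1 = -1 := by rw [F.c1]; exact eq_or_of_sq F.a1
  have c2 : c i2 = 1 ∨ c i2 = -1 := by
    rw [F.c2]
    rcases eq_or_of_sq F.a2 with h | h <;> rw [h] <;> norm_num
  have c3 : c i3 = 1 ∨ c i3 = -1 := by
    rw [F.c3]
    rcases eq_or_of_sq F.a3 with h | h <;> rw [h] <;> norm_num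
  have b1 := odd_sq i1 c1
  have b2 := odd_sq i2 c2
  have b3 := odd_sq i3 c3
  -- the sum over five of them
  have bsum : ∀ j ∈ pb M G, j ≠ oneIrr G → j ≠ i1 → j ≠ i2 → j ≠ i3 →
      1 + (b i1 ^ 2 + (b i2 ^ 2 + (b i3 ^ 2 + b j ^ 2))) ≤ 4 := by
    intro j hj j0 j1 j2 j3
    have hsub : ({oneIrr G, i1, i2, i3, j} : Finset (IrrCharacter G)) ⊆ pb M G := by
      intro i hi
      simp only [Finset.mem_insert, Finset.mem_singleton] at hi
      rcases hi with rfl | rfl | rfl | rfl | rfl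
      · exact V.one_mem
      · exact F.m1
      · exact F.m2
      · exact F.m3
      · exact hj
    have := Finset.sum_le_sum_of_subset_of_nonneg (f := fun χ => b χ ^ 2) hsub
      (fun i _ _ => sq_nonneg _)
    rw [sbb, Finset.sum_insert, Finset.sum_insert, Finset.sum_insert,
      Finset.sum_insert, Finset.sum_singleton, hb1, one_pow] at this
    · exact this
    · simp [j3.symm]
    · simp [F.n23, j2.symm]
    · simp [F.n12, F.n13, j1.symm]
    · simp [F.n01, F.n02, F.n03, j0.symm]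
  have hb4 := bsum i4 F.m4 F.n04.symm F.n14.symm F.n24.symm F.n34.symm
  have s4 : b i4 = 0 := by
    have : b i4 ^ 2 ≤ 0 := by linarith
    exact pow_eq_zero_iff two_ne_zero |>.1 (le_antisymm this (sq_nonneg _))
  have q1 : b i1 ^ 2 = 1 := by nlinarith [sq_nonneg (b i4)]
  have q2 : b i2 ^ 2 = 1 := by nlinarith [sq_nonneg (b i4)]
  have q3 : b i3 ^ 2 = 1 := by nlinarith [sq_nonneg (b i4)]
  have hvan : ∀ i ∈ pb M G, a i = 0 → c i = 0 → b i = 0 := by
    intro i hi ha _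
    have n0 : i ≠ oneIrr G := by rintro rfl; rw [V.a_one] at ha; exact one_ne_zero ha
    have n1 : i ≠ i1 := by rintro rfl; exact ne_zero_of_sq one_ne_zero F.a1 ha
    have n2 : i ≠ i2 := by rintro rfl; exact ne_zero_of_sq one_ne_zero F.a2 ha
    have n3 : i ≠ i3 := by rintro rfl; exact ne_zero_of_sq one_ne_zero F.a3 ha
    have := bsum i hi n0 n1 n2 n3
    have : b i ^ 2 ≤ 0 := by linarith
    exact pow_eq_zero_iff two_ne_zero |>.1 (le_antisymm this (sq_nonneg _))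
  have hd1 : (H75.deg (oneIrr G) : ℤ) = 1 := by exact_mod_cast (deg_oneIrr (G := G))
  rw [F.sum V.one_mem (fun χ => b χ * a χ) (fun i hi ha hc => by simp only [ha]; ring),
    V.a_one, hb1, s4] at sba
  rw [F.sum V.one_mem (fun χ => b χ * c χ) (fun i hi ha hc => by simp only [hc]; ring),
    V.c_one, hb1, s4, F.c1, F.c2, F.c3] at sbc
  rw [F.sum V.one_mem (fun χ => b χ * (H75.deg χ : ℤ))
    (fun i hi ha hc => by simp only [hvan i hi ha hc]; ring), hd1, hb1, s4] at sbd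
  set f1 := a i1 * (H75.deg i1 : ℤ) with hf1
  set f2 := a i2 * (H75.deg i2 : ℤ) with hf2
  set f3 := a i3 * (H75.deg i3 : ℤ) with hf3
  have r1 : b i1 * a i1 = -1 := by linarith
  have r23 : b i2 * a i2 + b i3 * a i3 = 0 := by linarith
  have e1' : b i1 = - a i1 := by
    linear_combination a i1 * r1 - b i1 * F.a1
  have hbd1 : b i1 * (H75.deg i1 : ℤ) = - f1 := by rw [e1', hf1]; ring
  have hfac := count_core hM h V F hne e2
  have hcw := count_w V F hb
  rw [← hf1, ← hf2, ← hf3] at hfac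
  have hfn : ∀ i : IrrCharacter G, a i ^ 2 = 1 → (a i * (H75.deg i : ℤ)) ≠ 0 := fun i hi =>
    mul_ne_zero (ne_zero_of_sq one_ne_zero hi) (hd0 i)
  have f1n : (f1 : ℚ) ≠ 0 := by exact_mod_cast hfn i1 F.a1
  have hneQ : (f1 : ℚ) + 1 ≠ 0 := by exact_mod_cast hne
  have dq1 : ((b i1 : ℤ) : ℚ) / ((H75.deg i1 : ℤ) : ℚ) = - (1 / (f1 : ℚ)) := by
    rw [e1', hf1, ← div_of_sq' F.a1]; push_cast; ring
  have key : (b i2 = a i2 ∧ b i3 = - a i3) ∨ (b i2 = - a i2 ∧ b i3 = a i3) := by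
    rcases eq_or_of_sq q2 with hb2 | hb2 <;> rcases eq_or_of_sq F.a2 with ha2 | ha2 <;>
      rcases eq_or_of_sq q3 with hb3 | hb3 <;> rcases eq_or_of_sq F.a3 with ha3 | ha3 <;>
      rw [hb2, ha2, hb3, ha3] at r23 ⊢ <;>
      first | (exfalso; revert r23; norm_num; done) | norm_num
  have dq : ∀ i : IrrCharacter G, a i ^ 2 = 1 → ((a i : ℤ) : ℚ) / ((H75.deg i : ℤ) : ℚ) =
      1 / ((a i * (H75.deg i : ℤ) : ℤ) : ℚ) := fun i hi => div_of_sq' hi
  refine ⟨f1, hodd, hne, ?_⟩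
  rcases key with ⟨k2, k3⟩ | ⟨k2, k3⟩
  · have g3 : f3 = 1 := by
      rw [k2, k3] at sbd
      have : 1 + (-f1 + (f2 - f3)) = 0 := by
        rw [hf1, hf2, hf3]
        linear_combination sbd + (-(H75.deg i1 : ℤ)) * e1'
      linarith
    have g2 : f2 = f1 := by linarith
    constructor
    · rw [hcw, dq1, k2, k3]
      push_cast
      have t2 := dq i2 F.a2
      have t3 := dq i3 F.a3
      rw [← hf2, g2] at t2
      rw [← hf3, g3] at t3
      push_cast at t2 t3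
      congr 1
      linear_combination - t2 + t3
    · rw [hfac, g2, g3]
      push_cast
      congr 2
      ring
  · have g2 : f2 = 1 := by
      rw [k2, k3] at sbd
      have : 1 + (-f1 + (- f2 + f3)) = 0 := by
        rw [hf1, hf2, hf3]
        linear_combination sbd + (-(H75.deg i1 : ℤ)) * e1'
      linarith
    have g3 : f3 = f1 := by linarith
    constructor
    · rw [hcw, dq1, k2, k3]
      push_cast
      have t2 := dq i2 F.a2
      have t3 := dq i3 F.a3
      rw [← hf2, g2] at t2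
      rw [← hf3, g3] at t3
      push_cast at t2 t3
      congr 1
      linear_combination t2 - t3
    · rw [hfac, g2, g3]
      push_cast
      congr 2
      ring

end Cfsg.Agent.H1.SF
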