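import Mathlib
import Cfsg.Agent.H4.Dihedral
import Cfsg.Agent.H4.KleinBlock
import Cfsg.Agent.H9.DihedralSylow
import Cfsg.Agent.H74.Prin2

/-!
# Self-centralizing elements of order 4: group structure
-/

set_option autoImplicit false
set_option linter.unusedSectionVars false
set_option linter.unusedVariables false
set_option linter.style.haveILetI false

namespace Cfsg.Agent.H1.SF

open Subgroup Cfsg

universe u

variable {X : Type u} [Group X]

structure Dat (w v : X) : Prop where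
  hw : orderOf w = 4
  vv : v * v = 1
  inv : v * w * v = w⁻¹
  cw : ∀ x : X, x * w = w * x → x ∈ zpowers w
  n16 : ¬ 16 ∣ Nat.card X

namespace Dat

variable {w v : X} (D : Dat w v)

include D

theorem w4 : w * w * (w * w) = 1 := by
  have := pow_orderOf_eq_one w
  rw [D.hw] at this
  rw [← this]; simp only [pow_succ, pow_zero, one_mul, mul_assoc]

theorem wi : w⁻¹ = w * w * w := by
  rw [inv_eq_iff_mul_eq_one, ← D.w4]; group

theorem vi : v⁻¹ = v := inv_eq_of_mul_eq_one_left D.vv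

theorem vw : v * w = w⁻¹ * v := by
  rw [← D.inv, mul_assoc (v * w), D.vv, mul_one]

theorem vwi : v * w⁻¹ = w * v := by
  have h := D.inv
  have h2 : v * w⁻¹ * v = w := by
    rw [← h]
    calc v * (v * w * v) * v = (v * v) * w * (v * v) := by group
      _ = w := by rw [D.vv]; group
  calc v * w⁻¹ = v * w⁻¹ * v * v := by rw [mul_assoc (v * w⁻¹), D.vv, mul_one]
    _ = w * v := by rw [h2]

theorem z1 : w * w ≠ 1 := by
  intro h
  have h1 : orderOf w ∣ 2 := orderOf_dvd_of_pow_eq_one (by rw [pow_two, h])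
  rw [D.hw] at h1
  norm_num at h1

theorem oz : orderOf (w * w) = 2 :=
  orderOf_eq_prime (by rw [pow_two]; exact D.w4) D.z1

theorem zi : (w * w)⁻¹ = w * w := inv_eq_of_mul_eq_one_left D.w4

theorem zw : w * w * w = w * (w * w) := mul_assoc _ _ _

theorem zv : w * w * v = v * (w * w) := by
  have : v * (w * w) = w⁻¹ * w⁻¹ * v := by
    rw [← mul_assoc, D.vw, mul_assoc, D.vw, ← mul_assoc]
  rw [this, ← mul_inv_rev, D.zi]

theorem v_notMem : v ∉ zpowers w := by
  rintro ⟨k, hk⟩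
  have h1 : v * w = w * v := by
    rw [← hk]
    exact ((Commute.refl w).zpow_left k).eq
  have h2 := D.vw
  rw [h1] at h2
  have h3 : w = w⁻¹ := mul_right_cancel h2
  apply D.z1
  rw [← mul_inv_cancel w, ← h3]

theorem v1 : v ≠ 1 := by
  rintro rfl
  exact D.v_notMem (one_mem _)

theorem ov : orderOf v = 2 :=
  orderOf_eq_prime (by rw [pow_two]; exact D.vv) D.v1

theorem mem_zpowers_iff {x : X} : x ∈ zpowers w ↔ ∃ i : Fin 4, x = w ^ (i : ℕ) := by
  constructor
  · rintro ⟨k, rfl⟩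
    have h4 : ((4 : ℕ) : ℤ) = 4 := rfl
    have hpos : (0 : ℤ) < 4 := by norm_num
    refine ⟨⟨(k % 4).toNat, ?_⟩, ?_⟩
    · have := Int.emod_lt_of_pos k hpos
      have := Int.emod_nonneg k hpos.ne'
      omega
    · show w ^ k = w ^ (k % 4).toNat
      rw [← zpow_natCast, Int.toNat_of_nonneg (Int.emod_nonneg k hpos.ne')]
      rw [← zpow_mod_orderOf, D.hw]; rfl
  · rintro ⟨i, rfl⟩
    exact pow_mem (mem_zpowers w) _

/-- the second dihedral generator -/
theorem swap : Dat w (v * w) where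
  hw := D.hw
  vv := by
    rw [show v * w * (v * w) = (v * w * v) * w by group, D.inv, inv_mul_cancel]
  inv := by
    calc v * w * w * (v * w) = v * (w * w) * v * w := by group
      _ = w * w * v * v * w := by rw [D.zv]
      _ = w * w * w := by rw [mul_assoc (w * w), D.vv, mul_one]
      _ = w⁻¹ := D.wi.symm
  cw := D.cw
  n16 := D.n16

theorem orderOf_prod : orderOf (v * (v * w)) = 4 := by
  rw [← mul_assoc, D.vv, one_mul, D.hw]

theorem exists_sylow [Finite X] : ∃ S : Sylow 2 X, (S : Subgroup X) = closure {v, v * w} ∧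
    Nonempty ((S : Subgroup X) ≃* DihedralGroup 4) ∧ Nat.card (S : Subgroup X) = 8 := by
  obtain ⟨e⟩ := H4.nonempty_dihedralEquiv D.ov D.swap.ov
  rw [D.orderOf_prod] at e
  have hc : Nat.card (closure ({v, v * w} : Set X)) = 8 := by
    rw [Nat.card_congr e.toEquiv, DihedralGroup.nat_card]
  have h8 : 8 ∣ Nat.card X := hc ▸ card_subgroup_dvd_card _
  have hf : (Nat.card X).factorization 2 = 3 := by
    apply le_antisymm
    · by_contra hcon
      push Not at hcon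
      apply D.n16
      rw [show 16 = 2 ^ 4 by norm_num]
      exact (Nat.Prime.pow_dvd_iff_le_factorization Nat.prime_two Nat.card_pos.ne').2 hcon
    · rw [← Nat.Prime.pow_dvd_iff_le_factorization Nat.prime_two Nat.card_pos.ne']
      exact h8
  refine ⟨Sylow.ofCard (closure {v, v * w}) (by rw [hc, hf]; norm_num), rfl, ⟨e⟩, hc⟩

variable [Finite X]

theorem npc : HasNormalPComplement 2 (centralizer ({w * w} : Set X)) := by
  obtain ⟨S, -, hS, -⟩ := D.exists_sylow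
  exact H9.hasNPC_centralizer_of_dihedral_sylow S 4 (by norm_num) hS (w * w) D.oz

end Dat

/-- The core of `C(z)`. -/
def KK (w : X) : Subgroup X := centralizerPPrimeCore 2 (w * w)

namespace Dat

variable {w v : X} (D : Dat w v) [Finite X]

include D

theorem mem_K {x : X} : x ∈ KK w ↔ w * w * x = x * (w * w) ∧ ¬ 2 ∣ orderOf x := by
  haveI : Fact (Nat.Prime 2) := ⟨Nat.prime_two⟩
  unfold KK
  rw [H74.mem_core_iff D.npc, Nat.coprime_comm, Nat.Prime.coprime_iff_not_dvd Nat.prime_two]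
  rfl

theorem clo_le : closure {v, v * w} ≤ centralizer ({w * w} : Set X) := by
  rw [Subgroup.closure_le]
  rintro x (rfl | rfl)
  · exact mem_centralizer_singleton_iff.2 D.zv.symm
  · exact mem_centralizer_singleton_iff.2 D.swap.zv.symm

theorem card_C_aux : ∃ m : ℕ, Nat.card (centralizer ({w * w} : Set X)) = 8 * m ∧ ¬ 2 ∣ m := by
  obtain ⟨S, hS, -, h8⟩ := D.exists_sylow
  obtain ⟨m, hm⟩ : 8 ∣ Nat.card (centralizer ({w * w} : Set X)) := by
    rw [← h8, hS]
    exact card_dvd_of_le D.clo_le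
  refine ⟨m, hm, ?_⟩
  rintro ⟨l, hl⟩
  apply D.n16
  refine dvd_trans ⟨l, ?_⟩ (card_subgroup_dvd_card (centralizer ({w * w} : Set X)))
  rw [hm, hl]; ring

theorem fac : (Nat.card (centralizer ({w * w} : Set X))).factorization 2 = 3 := by
  obtain ⟨m, hm, h2⟩ := D.card_C_aux
  have hm0 : m ≠ 0 := by rintro rfl; exact h2 (dvd_zero 2)
  rw [hm, Nat.factorization_mul (by norm_num) hm0, Finsupp.add_apply,
    Nat.factorization_eq_zero_of_not_dvd h2, show 8 = 2 ^ 3 by norm_num,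
    Nat.Prime.factorization_pow Nat.prime_two]
  simp

theorem npc_index : ∃ k : ℕ, (pPrimeCore 2 (centralizer ({w * w} : Set X))).index = 2 ^ k := by
  haveI : Fact (Nat.Prime 2) := ⟨Nat.prime_two⟩
  exact H74.index_pPrimeCore D.npc

theorem odd_K : ¬ 2 ∣ Nat.card (KK w) := by
  haveI : Fact (Nat.Prime 2) := ⟨Nat.prime_two⟩
  intro h
  obtain ⟨x, hx⟩ := exists_prime_orderOf_dvd_card' 2 h
  have h1 := (D.mem_K.1 x.2).2
  rw [orderOf_coe, hx] at h1
  exact h1 (dvd_refl 2)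

theorem card_C : Nat.card (centralizer ({w * w} : Set X)) = 8 * Nat.card (KK w) := by
  obtain ⟨m, hm, h2⟩ := D.card_C_aux
  obtain ⟨k, hk⟩ := D.npc_index
  have h1 : Nat.card (pPrimeCore 2 (centralizer ({w * w} : Set X))) = Nat.card (KK w) := by
    unfold KK centralizerPPrimeCore
    exact Nat.card_congr ((pPrimeCore 2 (centralizer ({w * w} : Set X))).equivMapOfInjective
      (centralizer ({w * w} : Set X)).subtype Subtype.val_injective).toEquiv
  have h3 := (pPrimeCore 2 (centralizer ({w * w} : Set X))).card_mul_index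
  rw [hk, hm, h1] at h3
  have hodd := D.odd_K
  have hc1 : Nat.Coprime (2 ^ k) m := Nat.Coprime.pow_left k
    ((Nat.Prime.coprime_iff_not_dvd Nat.prime_two).2 h2)
  have hc2 : Nat.Coprime 8 (Nat.card (KK w)) := by
    rw [show 8 = 2 ^ 3 by norm_num]
    exact Nat.Coprime.pow_left 3 ((Nat.Prime.coprime_iff_not_dvd Nat.prime_two).2 hodd)
  have h4 : 2 ^ k ∣ 8 := hc1.dvd_of_dvd_mul_right ⟨Nat.card (KK w), by rw [← h3]; ring⟩
  have h5 : 8 ∣ 2 ^ k := hc2.dvd_of_dvd_mul_left ⟨m, h3⟩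
  have h6 := Nat.dvd_antisymm h4 h5
  rw [h6] at h3
  rw [hm, ← h3]; ring

theorem conj_K {c x : X} (hc : w * w * c = c * (w * w)) (hx : x ∈ KK w) : c * x * c⁻¹ ∈ KK w := by
  rw [D.mem_K] at hx ⊢
  refine ⟨?_, by rw [H4.orderOf_conj']; exact hx.2⟩
  have hc' : w * w * c⁻¹ = c⁻¹ * (w * w) := ((Commute.inv_right (show Commute (w * w) c from hc))).eq
  calc w * w * (c * x * c⁻¹) = (w * w * c) * x * c⁻¹ := by group
    _ = c * (w * w * x) * c⁻¹ := by rw [hc]; group
    _ = c * x * (w * w * c⁻¹) := by rw [hx.1]; group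
    _ = c * x * c⁻¹ * (w * w) := by rw [hc']; group

theorem K_fix {x : X} (hx : x ∈ KK w) (h : x * w = w * x) : x = 1 := by
  obtain ⟨k, hk⟩ := D.cw x h
  have h2 := (D.mem_K.1 hx).2
  have h3 : orderOf x ∣ 4 := by
    apply orderOf_dvd_of_pow_eq_one
    rw [← hk]
    show (w ^ k) ^ 4 = 1
    rw [← zpow_natCast, ← zpow_mul, mul_comm, zpow_mul, zpow_natCast]
    have := pow_orderOf_eq_one w
    rw [D.hw] at this
    rw [this, one_zpow]
  have h4 : orderOf x = 1 := by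
    have h5 : orderOf x ∣ 2 ^ 2 := by norm_num; exact h3
    obtain ⟨j, hj, hj2⟩ := (Nat.dvd_prime_pow Nat.prime_two).1 h5
    rcases Nat.eq_zero_or_pos j with h0 | h0
    · rw [hj2, h0, pow_zero]
    · exact absurd (hj2 ▸ dvd_pow_self 2 h0.ne') h2
  exact orderOf_eq_one_iff.1 h4

/-- `w` inverts `K`, and `K` is abelian. -/
theorem K_main : (∀ x ∈ KK w, w * x * w⁻¹ = x⁻¹) ∧ ∀ x ∈ KK w, ∀ y ∈ KK w, x * y = y * x := by
  let φ : KK w →* KK w :=
    { toFun := fun x => ⟨w * x * w⁻¹, D.conj_K D.zw x.2⟩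
      map_one' := by ext; simp
      map_mul' := fun x y => by
        apply Subtype.ext
        show w * ((x : X) * y) * w⁻¹ = (w * x * w⁻¹) * (w * y * w⁻¹)
        group }
  have hfp : MonoidHom.FixedPointFree φ := by
    intro x hx
    have h1 : w * (x : X) * w⁻¹ = x := congrArg Subtype.val hx
    apply Subtype.ext
    exact D.K_fix x.2 (mul_inv_eq_iff_eq_mul.1 h1).symm
  have hinv : Function.Involutive φ := by
    intro x
    apply Subtype.ext
    show w * (w * (x : X) * w⁻¹) * w⁻¹ = x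
    have h1 := (D.mem_K.1 x.2).1
    calc w * (w * (x : X) * w⁻¹) * w⁻¹ = (w * w * x) * (w * w)⁻¹ := by group
      _ = x := by rw [h1]; group
  constructor
  · intro x hx
    have := congrFun (hfp.coe_eq_inv_of_involutive hinv) ⟨x, hx⟩
    exact congrArg Subtype.val this
  · intro x hx y hy
    exact congrArg Subtype.val (hfp.commute_all_of_involutive hinv ⟨x, hx⟩ ⟨y, hy⟩).eq

/-- The group `⟨w, v⟩`. -/
theorem mem_S {x : X} : x ∈ closure {v, v * w} ↔
    ∃ i : Fin 4, x = w ^ (i : ℕ) ∨ x = w ^ (i : ℕ) * v := by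
  have hvi : ∀ i : ℕ, v * w ^ i * v = (w ^ i)⁻¹ := by
    intro i
    have h1 : v * w ^ i * v⁻¹ = (v * w * v⁻¹) ^ i := (conj_pow).symm
    rw [D.vi, D.inv] at h1
    rw [h1, inv_pow]
  have hzi : ∀ i : ℕ, ∃ j : Fin 4, w ^ i = w ^ (j : ℕ) := fun i =>
    D.mem_zpowers_iff.1 (pow_mem (mem_zpowers w) i)
  have hzi' : ∀ i : ℕ, ∃ j : Fin 4, (w ^ i)⁻¹ = w ^ (j : ℕ) := fun i =>
    D.mem_zpowers_iff.1 (inv_mem (pow_mem (mem_zpowers w) i))
  have hvm : v ∈ closure ({v, v * w} : Set X) := subset_closure (by simp)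
  have hwm : w ∈ closure ({v, v * w} : Set X) := by
    have h1 : v * w ∈ closure ({v, v * w} : Set X) := subset_closure (by simp)
    have h2 := mul_mem hvm h1
    rwa [← mul_assoc, D.vv, one_mul] at h2
  constructor
  · intro hx
    induction hx using closure_induction with
    | mem x hx =>
      rcases hx with rfl | rfl
      · exact ⟨0, Or.inr (by simp)⟩
      · refine ⟨3, Or.inr ?_⟩
        rw [D.vw, D.wi]
        show w * w * w * v = w ^ 3 * v
        simp only [pow_succ, pow_zero, one_mul]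
    | one => exact ⟨0, Or.inl (by simp)⟩
    | mul x y hx hy ihx ihy =>
      obtain ⟨i, hi⟩ := ihx
      obtain ⟨j, hj⟩ := ihy
      rcases hi with rfl | rfl <;> rcases hj with rfl | rfl
      · obtain ⟨k, hk⟩ := hzi (i + j)
        exact ⟨k, Or.inl (by rw [← hk, pow_add])⟩
      · obtain ⟨k, hk⟩ := hzi (i + j)
        exact ⟨k, Or.inr (by rw [← hk, pow_add, mul_assoc])⟩
      · obtain ⟨k, hk⟩ := hzi' (j : ℕ)
        obtain ⟨l, hl⟩ := hzi ((i : ℕ) + k)
        refine ⟨l, Or.inr ?_⟩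
        have := hvi (j : ℕ)
        rw [← hl, pow_add, ← hk, ← this]
        rw [mul_assoc, mul_assoc, mul_assoc, mul_assoc, D.vv, mul_one]
      · obtain ⟨k, hk⟩ := hzi' (j : ℕ)
        obtain ⟨l, hl⟩ := hzi ((i : ℕ) + k)
        refine ⟨l, Or.inl ?_⟩
        have := hvi (j : ℕ)
        rw [← hl, pow_add, ← hk, ← this]
        simp only [mul_assoc]
    | inv x hx ih =>
      obtain ⟨i, hi⟩ := ih
      rcases hi with rfl | rfl
      · obtain ⟨k, hk⟩ := hzi' (i : ℕ)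
        exact ⟨k, Or.inl hk⟩
      · refine ⟨i, Or.inr ?_⟩
        have := hvi (i : ℕ)
        rw [mul_inv_rev, D.vi, ← this]
        rw [mul_assoc v, ← mul_assoc v v, D.vv, one_mul]
  · rintro ⟨i, rfl | rfl⟩
    · exact pow_mem hwm _
    · exact mul_mem (pow_mem hwm _) hvm

theorem K_inf_S {x : X} (h1 : x ∈ KK w) (h2 : x ∈ closure ({v, v * w} : Set X)) : x = 1 := by
  obtain ⟨S, hS, -, h8⟩ := D.exists_sylow
  have h3 := (D.mem_K.1 h1).2
  have h4 : orderOf x ∣ 2 ^ 3 := by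
    rw [← hS] at h2
    have := orderOf_dvd_natCard (⟨x, h2⟩ : (S : Subgroup X))
    rw [h8, orderOf_mk] at this
    exact this
  obtain ⟨j, hj, hj2⟩ := (Nat.dvd_prime_pow Nat.prime_two).1 h4
  rcases Nat.eq_zero_or_pos j with h0 | h0
  · exact orderOf_eq_one_iff.1 (by rw [hj2, h0, pow_zero])
  · exact absurd (hj2 ▸ dvd_pow_self 2 h0.ne') h3

theorem KS_inj {k k' s s' : X} (hk : k ∈ KK w) (hk' : k' ∈ KK w)
    (hs : s ∈ closure ({v, v * w} : Set X)) (hs' : s' ∈ closure ({v, v * w} : Set X))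
    (h : k * s = k' * s') : k = k' ∧ s = s' := by
  have h1 : k'⁻¹ * k = s' * s⁻¹ := by
    rw [inv_mul_eq_iff_eq_mul, ← mul_assoc, ← h, mul_assoc, mul_inv_cancel, mul_one]
  have h2 : k'⁻¹ * k = 1 := D.K_inf_S (mul_mem (inv_mem hk') hk) (by
    rw [h1]; exact mul_mem hs' (inv_mem hs))
  have h3 : k' = k := inv_mul_eq_one.1 h2
  refine ⟨h3.symm, ?_⟩
  rw [h3] at h
  exact mul_left_cancel h

theorem pow_inj {i j : Fin 4} (h : w ^ (i : ℕ) = w ^ (j : ℕ)) : i = j := by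
  apply Fin.ext
  have h1 := pow_injOn_Iio_orderOf (x := w)
  rw [D.hw] at h1
  exact h1 (Set.mem_Iio.2 i.2) (Set.mem_Iio.2 j.2) h

theorem pow_ne {i j : Fin 4} : w ^ (i : ℕ) ≠ w ^ (j : ℕ) * v := by
  intro h
  apply D.v_notMem
  have h1 : v = (w ^ (j : ℕ))⁻¹ * w ^ (i : ℕ) := by rw [h]; group
  rw [h1]
  exact mul_mem (inv_mem (pow_mem (mem_zpowers w) _)) (pow_mem (mem_zpowers w) _)

theorem exists_decomp {x : X} (hx : x * (w * w) = w * w * x) :
    ∃ k ∈ KK w, ∃ s ∈ closure ({v, v * w} : Set X), x = k * s := by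
  obtain ⟨S, hS, -, h8⟩ := D.exists_sylow
  have hKC : KK w ≤ centralizer ({w * w} : Set X) := fun y hy =>
    mem_centralizer_singleton_iff.2 (D.mem_K.1 hy).1.symm
  let F : KK w × closure ({v, v * w} : Set X) → centralizer ({w * w} : Set X) :=
    fun p => ⟨p.1 * p.2, mul_mem (hKC p.1.2) (D.clo_le p.2.2)⟩
  have hF : Function.Injective F := by
    rintro ⟨⟨a, ha⟩, ⟨b, hb⟩⟩ ⟨⟨a', ha'⟩, ⟨b', hb'⟩⟩ h
    have h1 : a * b = a' * b' := congrArg Subtype.val h
    obtain ⟨rfl, rfl⟩ := D.KS_inj ha ha' hb hb' h1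
    rfl
  have hc : Nat.card (centralizer ({w * w} : Set X)) ≤
      Nat.card (KK w × closure ({v, v * w} : Set X)) := by
    rw [Nat.card_prod, ← hS, h8, D.card_C, mul_comm]
  have hb := hF.bijective_of_nat_card_le hc
  obtain ⟨⟨⟨a, ha⟩, ⟨b, hb⟩⟩, hab⟩ := hb.2 ⟨x, mem_centralizer_singleton_iff.2 hx⟩
  exact ⟨a, ha, b, hb, (congrArg Subtype.val hab).symm⟩

theorem tau_sq (i : Fin 4) : w ^ (i : ℕ) * v * (w ^ (i : ℕ) * v) = 1 := by
  have h1 : v * w ^ (i : ℕ) * v⁻¹ = (v * w * v⁻¹) ^ (i : ℕ) := (conj_pow).symm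
  rw [D.vi, D.inv] at h1
  calc w ^ (i : ℕ) * v * (w ^ (i : ℕ) * v) = w ^ (i : ℕ) * (v * w ^ (i : ℕ) * v) := by group
    _ = 1 := by rw [h1]; group

theorem tau_mem (i : Fin 4) : w ^ (i : ℕ) * v ∈ closure ({v, v * w} : Set X) :=
  D.mem_S.2 ⟨i, Or.inr rfl⟩

theorem S_comm {s : X} (hs : s ∈ closure ({v, v * w} : Set X)) : w * w * s = s * (w * w) :=
  (mem_centralizer_singleton_iff.1 (D.clo_le hs)).symm

theorem z_mem_S : w * w ∈ closure ({v, v * w} : Set X) :=
  D.mem_S.2 ⟨2, Or.inl (by show w * w = w ^ 2; rw [pow_two])⟩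

/-- Conjugacy of `k τ` with `τ`. -/
theorem conj_tau {k t : X} (hk : k ∈ KK w) (ht : k * (t * k * t⁻¹) = 1) :
    IsConj t (k * t) := by
  have hodd : ¬ 2 ∣ orderOf k := (D.mem_K.1 hk).2
  obtain ⟨m, hm⟩ : ∃ m, orderOf k + 1 = 2 * m := by
    have : Odd (orderOf k) := Nat.not_even_iff_odd.1 (fun h => hodd h.two_dvd)
    obtain ⟨a, ha⟩ := this
    exact ⟨a + 1, by omega⟩
  rw [isConj_iff]
  refine ⟨k ^ m, ?_⟩
  have h1 : t * k * t⁻¹ = k⁻¹ := (inv_eq_of_mul_eq_one_right ht).symm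
  have h2 : t * (k ^ m)⁻¹ * t⁻¹ = k ^ m := by
    have : t * (k⁻¹) * t⁻¹ = k := by
      rw [show t * k⁻¹ * t⁻¹ = (t * k * t⁻¹)⁻¹ by group, h1, inv_inv]
    rw [← inv_pow, ← conj_pow, this]
  calc k ^ m * t * (k ^ m)⁻¹ = k ^ m * (t * (k ^ m)⁻¹ * t⁻¹) * t := by group
    _ = k ^ (m + m) * t := by rw [h2, pow_add]
    _ = k * t := by
      rw [show m + m = orderOf k + 1 by omega, pow_succ, pow_orderOf_eq_one, one_mul]

theorem inv_cases {s : X} (hs : s * (w * w) = w * w * s) (hss : s * s = 1) (hs1 : s ≠ 1)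
    (hsz : s * (w * w) ∉ KK w) : ∃ i : Fin 4, ∃ k ∈ KK w, s = k * (w ^ (i : ℕ) * v) ∧
      k * ((w ^ (i : ℕ) * v) * k * (w ^ (i : ℕ) * v)⁻¹) = 1 := by
  obtain ⟨k, hk, t, ht, rfl⟩ := D.exists_decomp hs
  obtain ⟨i, rfl | rfl⟩ := D.mem_S.1 ht
  · exfalso
    have hkz := (D.mem_K.1 hk).1
    have hwk := D.K_main.1 k hk
    fin_cases i
    · -- s = k
      simp only [pow_zero, mul_one] at hss hs1
      have h1 : orderOf k ∣ 2 := orderOf_dvd_of_pow_eq_one (by rw [pow_two, hss])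
      rcases (Nat.dvd_prime Nat.prime_two).1 h1 with h2 | h2
      · exact hs1 (orderOf_eq_one_iff.1 h2)
      · exact (D.mem_K.1 hk).2 (by rw [h2])
    · simp only [pow_one] at hss
      apply D.z1
      have : k * w * (k * w) = k * (w * k * w⁻¹) * (w * w) := by group
      rw [this, hwk, mul_inv_cancel, one_mul] at hss
      exact hss
    · apply hsz
      show k * w ^ 2 * (w * w) ∈ KK w
      rw [pow_two, mul_assoc, D.w4, mul_one]
      exact hk
    · have hss' : k * w ^ 3 * (k * w ^ 3) = 1 := hss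
      apply D.z1
      have e3 : w ^ 3 = w⁻¹ := by rw [D.wi]; simp only [pow_succ, pow_zero, one_mul]
      have hwk2 : w⁻¹ * k * w = k⁻¹ := by
        have h5 := D.K_main.1 k⁻¹ (inv_mem hk)
        rw [inv_inv] at h5
        calc w⁻¹ * k * w = w⁻¹ * (w * k⁻¹ * w⁻¹) * w := by rw [h5]
          _ = k⁻¹ := by group
      rw [e3] at hss'
      have : k * w⁻¹ * (k * w⁻¹) = k * (w⁻¹ * k * w) * (w * w)⁻¹ := by group
      rw [this, hwk2, mul_inv_cancel, one_mul, D.zi] at hss'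
      exact hss'
  · refine ⟨i, k, hk, rfl, ?_⟩
    have h1 := D.tau_sq i
    calc k * ((w ^ (i : ℕ) * v) * k * (w ^ (i : ℕ) * v)⁻¹)
        = k * (w ^ (i : ℕ) * v) * (k * (w ^ (i : ℕ) * v)) *
          ((w ^ (i : ℕ) * v) * (w ^ (i : ℕ) * v))⁻¹ := by group
      _ = 1 := by rw [h1, hss]; group

end Dat

/-- the elements of `K` inverted by `t` -/
def II (w t : X) : Type u := {k : X // k ∈ KK w ∧ k * (t * k * t⁻¹) = 1}

instance [Finite X] (w t : X) : Finite (II w t) := by unfold II; infer_instance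

theorem orderOf_eq_of_isConj {a b : X} (h : IsConj a b) : orderOf b = orderOf a := by
  obtain ⟨c, rfl⟩ := isConj_iff.1 h
  exact H4.orderOf_conj' c a

section Count

variable [Finite X]

theorem card_conj_fiber {x s : X} (h : IsConj x s) :
    Nat.card {g : X // g * x * g⁻¹ = s} = Nat.card (centralizer ({x} : Set X)) := by
  obtain ⟨c, rfl⟩ := isConj_iff.1 h
  apply Nat.card_congr
  refine
    { toFun := fun g => ⟨c⁻¹ * g.1, ?_⟩
      invFun := fun g => ⟨c * g.1, ?_⟩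
      left_inv := fun g => by simp
      right_inv := fun g => by simp }
  · rw [mem_centralizer_singleton_iff]
    have h1 := g.2
    have h2 : c⁻¹ * g.1 * x = c⁻¹ * (g.1 * x * (g.1)⁻¹) * g.1 := by group
    rw [h2, h1]; group
  · have h1 := mem_centralizer_singleton_iff.1 g.2
    calc c * g.1 * x * (c * g.1)⁻¹ = c * (g.1 * x) * (g.1)⁻¹ * c⁻¹ := by group
      _ = c * x * c⁻¹ := by rw [h1]; group

theorem card_conj_pairs (x y : X) (P : X → X → Prop) :
    Nat.card {q : X × X // P (q.1 * x * q.1⁻¹) (q.2 * y * q.2⁻¹)} =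
      Nat.card (centralizer ({x} : Set X)) * Nat.card (centralizer ({y} : Set X)) *
        Nat.card {p : X × X // IsConj x p.1 ∧ IsConj y p.2 ∧ P p.1 p.2} := by
  classical
  haveI := Fintype.ofFinite {p : X × X // IsConj x p.1 ∧ IsConj y p.2 ∧ P p.1 p.2}
  let e : {q : X × X // P (q.1 * x * q.1⁻¹) (q.2 * y * q.2⁻¹)} ≃
      Σ p : {p : X × X // IsConj x p.1 ∧ IsConj y p.2 ∧ P p.1 p.2},
        {g : X // g * x * g⁻¹ = p.1.1} × {g : X // g * y * g⁻¹ = p.1.2} :=
    { toFun := fun q => ⟨⟨(q.1.1 * x * q.1.1⁻¹, q.1.2 * y * q.1.2⁻¹),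
        isConj_iff.2 ⟨_, rfl⟩, isConj_iff.2 ⟨_, rfl⟩, q.2⟩, ⟨q.1.1, rfl⟩, ⟨q.1.2, rfl⟩⟩
      invFun := fun p => ⟨(p.2.1.1, p.2.2.1), by
        have h1 := p.2.1.2
        have h2 := p.2.2.2
        have h3 := p.1.2.2.2
        show P (p.2.1.1 * x * (p.2.1.1)⁻¹) (p.2.2.1 * y * (p.2.2.1)⁻¹)
        rw [h1, h2]; exact h3⟩
      left_inv := fun q => rfl
      right_inv := by
        rintro ⟨⟨⟨a, b⟩, h⟩, ⟨⟨g, hg⟩, ⟨k, hk⟩⟩⟩
        obtain rfl : g * x * g⁻¹ = a := hg
        obtain rfl : k * y * k⁻¹ = b := hk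
        rfl }
  rw [Nat.card_congr e, Nat.card_sigma]
  have h1 : ∀ p : {p : X × X // IsConj x p.1 ∧ IsConj y p.2 ∧ P p.1 p.2},
      Nat.card ({g : X // g * x * g⁻¹ = p.1.1} × {g : X // g * y * g⁻¹ = p.1.2}) =
      Nat.card (centralizer ({x} : Set X)) * Nat.card (centralizer ({y} : Set X)) := by
    intro p
    rw [Nat.card_prod, card_conj_fiber p.2.1, card_conj_fiber p.2.2.1]
  rw [Finset.sum_congr rfl fun p _ => h1 p, Finset.sum_const, Finset.card_univ, smul_eq_mul,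
    ← Nat.card_eq_fintype_card, mul_comm]

variable {w v : X} (D : Dat w v)

include D

/-- the map for `count_core` -/
def coreMap : (Σ i : {i : Fin 4 // IsConj (w * w) (w ^ (i : ℕ) * v)},
      II w (w ^ (i.1 : ℕ) * v) × II w (w ^ (i.1 : ℕ) * v)) →
    {p : X × X // IsConj (w * w) p.1 ∧ IsConj (w * w) p.2 ∧
      (w * w)⁻¹ * (p.1 * p.2) ∈ KK w} := fun q =>
  ⟨(q.2.1.1 * (w ^ (q.1.1 : ℕ) * v), q.2.2.1 * (w * w * (w ^ (q.1.1 : ℕ) * v))), by
    obtain ⟨⟨i, hi⟩, ⟨k, hk, hk1⟩, ⟨l, hl, hl1⟩⟩ := q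
    have hz := D.S_comm (D.tau_mem i)
    refine ⟨hi.trans (D.conj_tau hk hk1), ?_, ?_⟩
    · have h1 : IsConj (w ^ (i : ℕ) * v) (w * w * (w ^ (i : ℕ) * v)) := by
        rw [isConj_iff]
        refine ⟨w, ?_⟩
        have h2 : v * w⁻¹ = w * v := D.vwi
        calc w * (w ^ (i : ℕ) * v) * w⁻¹ = w * w ^ (i : ℕ) * (v * w⁻¹) := by group
          _ = w * w ^ (i : ℕ) * w * v := by rw [h2]; group
          _ = w * w * (w ^ (i : ℕ) * v) := by group
      refine (hi.trans h1).trans (D.conj_tau hl ?_)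
      have hzl := (D.mem_K.1 hl).1
      show l * (w * w * (w ^ (i : ℕ) * v) * l * (w * w * (w ^ (i : ℕ) * v))⁻¹) = 1
      calc l * (w * w * (w ^ (i : ℕ) * v) * l * (w * w * (w ^ (i : ℕ) * v))⁻¹)
          = l * ((w * w * (w ^ (i : ℕ) * v)) * l * (w * w * (w ^ (i : ℕ) * v))⁻¹) := by group
        _ = l * ((w ^ (i : ℕ) * v) * (w * w * l) * (w * w)⁻¹ * (w ^ (i : ℕ) * v)⁻¹) := by
          rw [hz]; group
        _ = l * ((w ^ (i : ℕ) * v) * l * (w ^ (i : ℕ) * v)⁻¹) := by rw [hzl]; group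
        _ = 1 := hl1
    · have hsz : (w ^ (i : ℕ) * v) * (w * w) = w * w * (w ^ (i : ℕ) * v) := hz.symm
      have hkz := (D.mem_K.1 hk).1
      have hm : (w ^ (i : ℕ) * v) * l * (w ^ (i : ℕ) * v)⁻¹ ∈ KK w := D.conj_K hz hl
      have hmz := (D.mem_K.1 hm).1
      have ht := D.tau_sq i
      show (w * w)⁻¹ * (k * (w ^ (i : ℕ) * v) * (l * (w * w * (w ^ (i : ℕ) * v)))) ∈ KK w
      have h3 : (w * w)⁻¹ * (k * (w ^ (i : ℕ) * v) * (l * (w * w * (w ^ (i : ℕ) * v)))) =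
          (w * w)⁻¹ * (k * ((w ^ (i : ℕ) * v) * l * (w ^ (i : ℕ) * v)⁻¹)) *
            (((w ^ (i : ℕ) * v) * (w * w)) * (w ^ (i : ℕ) * v)) := by group
      rw [h3, hsz, mul_assoc (w * w) _ _, ht, mul_one]
      have h4 := D.conj_K (c := (w * w)⁻¹) (by group) (mul_mem hk hm)
      rw [inv_inv] at h4
      exact h4⟩

theorem coreMap_bij : Function.Bijective (coreMap D) := by
  constructor
  · rintro ⟨⟨i, hi⟩, ⟨k, hk, hk1⟩, ⟨l, hl, hl1⟩⟩ ⟨⟨i', hi'⟩, ⟨k', hk', hk1'⟩, ⟨l', hl', hl1'⟩⟩ h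
    have h1 : k * (w ^ (i : ℕ) * v) = k' * (w ^ (i' : ℕ) * v) :=
      congrArg (fun p => p.1.1) h
    have h2 : l * (w * w * (w ^ (i : ℕ) * v)) = l' * (w * w * (w ^ (i' : ℕ) * v)) :=
      congrArg (fun p => p.1.2) h
    obtain ⟨rfl, h3⟩ := D.KS_inj hk hk' (D.tau_mem i) (D.tau_mem i') h1
    obtain rfl := D.pow_inj (mul_right_cancel h3)
    obtain ⟨rfl, -⟩ := D.KS_inj hl hl' (mul_mem D.z_mem_S (D.tau_mem i))
      (mul_mem D.z_mem_S (D.tau_mem i)) h2
    rfl
  · rintro ⟨⟨s, t⟩, hs, ht, hst⟩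
    replace hs : IsConj (w * w) s := hs
    replace ht : IsConj (w * w) t := ht
    replace hst : (w * w)⁻¹ * (s * t) ∈ KK w := hst
    have os := orderOf_eq_of_isConj hs
    have ot := orderOf_eq_of_isConj ht
    rw [D.oz] at os ot
    have hss := H4.mul_self_of_orderOf_two os
    have htt := H4.mul_self_of_orderOf_two ot
    have hs1 : s ≠ 1 := by rintro rfl; rw [orderOf_one] at os; omega
    have ht1 : t ≠ 1 := by rintro rfl; rw [orderOf_one] at ot; omega
    have nK : ∀ y : X, orderOf y = 2 → y ∉ KK w := fun y hy hyK => (D.mem_K.1 hyK).2 (by rw [hy])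
    obtain ⟨k0, hk0⟩ : ∃ k0, k0 = (w * w)⁻¹ * (s * t) := ⟨_, rfl⟩
    rw [← hk0] at hst
    have hst' : s * t = w * w * k0 := by rw [hk0]; group
    have hk0z := (D.mem_K.1 hst).1
    -- `s` commutes with `z`
    have hsz : s * (w * w) = w * w * s := by
      have hodd : ¬ 2 ∣ orderOf k0 := (D.mem_K.1 hst).2
      obtain ⟨m, hm⟩ : ∃ m, orderOf k0 = 2 * m + 1 := by
        have : Odd (orderOf k0) := Nat.not_even_iff_odd.1 (fun h => hodd h.two_dvd)
        obtain ⟨a, ha⟩ := this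
        exact ⟨a, ha⟩
      have hzn : (w * w) ^ orderOf k0 = w * w := by
        rw [hm, pow_succ, pow_mul, pow_two, D.w4, one_pow, one_mul]
      have hpow : (s * t) ^ orderOf k0 = w * w := by
        rw [hst', (show Commute (w * w) k0 from hk0z).mul_pow, hzn, pow_orderOf_eq_one, mul_one]
      have hinv : s * (s * t) * s⁻¹ = (s * t)⁻¹ := by
        have hsi : s⁻¹ = s := inv_eq_of_mul_eq_one_left hss
        have hti : t⁻¹ = t := inv_eq_of_mul_eq_one_left htt
        rw [mul_inv_rev, hsi, hti, ← mul_assoc, hss, one_mul]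
      have h5 : s * (w * w) * s⁻¹ = (w * w)⁻¹ := by
        rw [← hpow, ← conj_pow, hinv, inv_pow]
      rw [D.zi] at h5
      exact mul_inv_eq_iff_eq_mul.1 h5
    have htz : t * (w * w) = w * w * t := by
      have h6 : t = s⁻¹ * (w * w * k0) := by rw [← hst']; group
      have hc1 : Commute (w * w) s := hsz.symm
      have hc2 : Commute (w * w) (s⁻¹ * (w * w * k0)) :=
        (hc1.inv_right).mul_right ((Commute.refl _).mul_right hk0z)
      rw [h6]
      exact hc2.eq.symm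
    have hsi : s⁻¹ = s := inv_eq_of_mul_eq_one_left hss
    have hti : t⁻¹ = t := inv_eq_of_mul_eq_one_left htt
    have hszK : s * (w * w) ∉ KK w := by
      intro h
      apply nK t ot
      have h6 : t = s * (w * w) * k0 := by
        rw [mul_assoc, ← hst', ← mul_assoc, hss, one_mul]
      rw [h6]
      exact mul_mem h hst
    have htzK : t * (w * w) ∉ KK w := by
      intro h
      apply nK s os
      have h6 : s = k0 * (t * (w * w)) := by
        have : s = w * w * k0 * t := by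
          rw [← hst', mul_assoc, htt, mul_one]
        rw [this, htz, ← mul_assoc, hk0z]
      rw [h6]
      exact mul_mem hst h
    obtain ⟨i, k, hk, hsk, hk1⟩ := D.inv_cases hsz hss hs1 hszK
    obtain ⟨j, l, hl, htl, hl1⟩ := D.inv_cases htz htt ht1 htzK
    have hij : w ^ (j : ℕ) * v = w * w * (w ^ (i : ℕ) * v) := by
      have hzi := D.S_comm (D.tau_mem i)
      have hm : (w ^ (i : ℕ) * v) * l * (w ^ (i : ℕ) * v)⁻¹ ∈ KK w := D.conj_K hzi hl
      have h7 : (k * ((w ^ (i : ℕ) * v) * l * (w ^ (i : ℕ) * v)⁻¹)) *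
          ((w ^ (i : ℕ) * v) * (w ^ (j : ℕ) * v)) = k0 * (w * w) := by
        rw [← hk0z, ← hst', hsk, htl]; group
      obtain ⟨-, h8⟩ := D.KS_inj (mul_mem hk hm) hst (mul_mem (D.tau_mem i) (D.tau_mem j))
        D.z_mem_S h7
      have h9 : w ^ (j : ℕ) * v = (w ^ (i : ℕ) * v) * ((w ^ (i : ℕ) * v) * (w ^ (j : ℕ) * v)) := by
        rw [← mul_assoc, D.tau_sq i, one_mul]
      rw [h9, h8, hzi]
    have hi : IsConj (w * w) (w ^ (i : ℕ) * v) := by
      refine hs.trans ?_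
      rw [hsk]
      exact (D.conj_tau hk hk1).symm
    refine ⟨⟨⟨i, hi⟩, ⟨k, hk, hk1⟩, ⟨l, hl, ?_⟩⟩, ?_⟩
    · rw [hij] at hl1
      have hz := D.S_comm (D.tau_mem i)
      have hzl := (D.mem_K.1 hl).1
      calc l * ((w ^ (i : ℕ) * v) * l * (w ^ (i : ℕ) * v)⁻¹)
          = l * ((w ^ (i : ℕ) * v) * (w * w * l) * (w * w)⁻¹ * (w ^ (i : ℕ) * v)⁻¹) := by
            rw [hzl]; group
        _ = l * (((w ^ (i : ℕ) * v) * (w * w)) * l * ((w ^ (i : ℕ) * v) * (w * w))⁻¹) := by group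
        _ = 1 := by rw [← hz]; exact hl1
    · apply Subtype.ext
      show (k * (w ^ (i : ℕ) * v), l * (w * w * (w ^ (i : ℕ) * v))) = (s, t)
      rw [← hij, ← hsk, ← htl]

open Classical in
theorem card_core_pairs : Nat.card {p : X × X // IsConj (w * w) p.1 ∧ IsConj (w * w) p.2 ∧
      (w * w)⁻¹ * (p.1 * p.2) ∈ KK w} =
    ∑ i : Fin 4, if IsConj (w * w) (w ^ (i : ℕ) * v) then
      Nat.card (II w (w ^ (i : ℕ) * v)) ^ 2 else 0 := by
  rw [← Nat.card_congr (Equiv.ofBijective _ (coreMap_bij D)), Nat.card_sigma, ← Finset.sum_filter,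
    Finset.sum_subtype (Finset.univ.filter (fun i : Fin 4 => IsConj (w * w) (w ^ (i : ℕ) * v)))
      (p := fun i : Fin 4 => IsConj (w * w) (w ^ (i : ℕ) * v)) (by simp)
      (fun i => Nat.card (II w (w ^ (i : ℕ) * v)) ^ 2)]
  refine Finset.sum_congr rfl fun x _ => ?_
  rw [Nat.card_prod, pow_two]

/-- the pairs with product `w` -/
theorem card_w_pairs {y : X} (hy : orderOf y = 2) :
    Nat.card {p : X × X // IsConj (w * w) p.1 ∧ IsConj y p.2 ∧ p.1 * p.2 = w} =
    Nat.card {i : Fin 4 // IsConj (w * w) (w ^ (i : ℕ) * v) ∧ IsConj y (w ^ (i : ℕ) * v * w)} := by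
  let f : {i : Fin 4 // IsConj (w * w) (w ^ (i : ℕ) * v) ∧ IsConj y (w ^ (i : ℕ) * v * w)} →
      {p : X × X // IsConj (w * w) p.1 ∧ IsConj y p.2 ∧ p.1 * p.2 = w} := fun i =>
    ⟨(w ^ (i.1 : ℕ) * v, w ^ (i.1 : ℕ) * v * w), i.2.1, i.2.2, by
      show w ^ (i.1 : ℕ) * v * (w ^ (i.1 : ℕ) * v * w) = w
      rw [← mul_assoc, D.tau_sq, one_mul]⟩
  symm
  apply Nat.card_congr (Equiv.ofBijective f ⟨?_, ?_⟩)
  · rintro ⟨i, hi⟩ ⟨j, hj⟩ h
    have h1 : w ^ (i : ℕ) * v = w ^ (j : ℕ) * v := congrArg (fun p => p.1.1) h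
    obtain rfl := D.pow_inj (mul_right_cancel h1)
    rfl
  · rintro ⟨⟨s, t⟩, hs, ht, hst⟩
    replace hs : IsConj (w * w) s := hs
    replace ht : IsConj y t := ht
    replace hst : s * t = w := hst
    have os := orderOf_eq_of_isConj hs
    have ot := orderOf_eq_of_isConj ht
    rw [D.oz] at os
    rw [hy] at ot
    have hss := H4.mul_self_of_orderOf_two os
    have htt := H4.mul_self_of_orderOf_two ot
    have hsi : s⁻¹ = s := inv_eq_of_mul_eq_one_left hss
    have hti : t⁻¹ = t := inv_eq_of_mul_eq_one_left htt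
    have h1 : s * w = w⁻¹ * s := by
      have h2 : w⁻¹ = t * s := by rw [← hst, mul_inv_rev, hsi, hti]
      rw [h2, ← hst, ← mul_assoc, hss, one_mul, mul_assoc, hss, mul_one]
    have h3 : s * v * w = w * (s * v) := by
      have h4 : s * w⁻¹ = w * s := by
        calc s * w⁻¹ = w * (w⁻¹ * s) * w⁻¹ := by group
          _ = w * s := by rw [← h1]; group
      rw [mul_assoc, D.vw, ← mul_assoc, h4, mul_assoc]
    obtain ⟨i, hi⟩ := D.mem_zpowers_iff.1 (D.cw _ h3)
    have h5 : s = w ^ (i : ℕ) * v := by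
      rw [← hi, mul_assoc, D.vv, mul_one]
    have h6 : t = s * w := by rw [← hst, ← mul_assoc, hss, one_mul]
    subst h5
    subst h6
    exact ⟨⟨i, hs, ht⟩, rfl⟩

end Count

end Cfsg.Agent.H1.SF
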