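import Mathlib
import Cfsg.Agent.H1.SFChar
import Cfsg.Agent.H1.SFGrp
import Cfsg.Agent.FourGraph.Basic

/-!
# Self-centralizing elements of order 4: the order equations
-/

set_option autoImplicit false
set_option linter.unusedSectionVars false
set_option linter.unusedVariables false
set_option linter.style.haveILetI false

namespace Cfsg.Agent.H1.SF

open Subgroup Cfsg
open scoped Pointwise

universe u

variable {X : Type u} [Group X] [Finite X] {w v : X} (D : Dat w v)

/-- `|C_K(v)|` -/
noncomputable def kk (w v : X) : ℕ := Nat.card (KK w ⊓ centralizer ({v} : Set X) : Subgroup X)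

theorem kk_pos (w v : X) : 0 < kk w v := Nat.card_pos

include D

namespace Dat

theorem v_conj_K {x : X} (hx : x ∈ KK w) : v * x * v⁻¹ ∈ KK w := D.conj_K D.zv hx

theorem II_equiv_zero : Nat.card (II w v) = kk w (v * w) := by
  apply Nat.card_congr
  apply Equiv.subtypeEquivRight
  intro x
  rw [mem_inf, mem_centralizer_singleton_iff]
  refine and_congr_right fun hx => ?_
  have h1 := D.K_main.1 x hx
  have h2 : v * w * x * (v * w)⁻¹ = (v * x * v⁻¹)⁻¹ := by
    calc v * w * x * (v * w)⁻¹ = v * (w * x * w⁻¹) * v⁻¹ := by group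
      _ = (v * x * v⁻¹)⁻¹ := by rw [h1]; group
  constructor
  · intro h
    have h3 : v * x * v⁻¹ = x⁻¹ := (inv_eq_of_mul_eq_one_right h).symm
    rw [h3, inv_inv] at h2
    exact (mul_inv_eq_iff_eq_mul.1 h2).symm
  · intro h
    have h3 : v * w * x * (v * w)⁻¹ = x := mul_inv_eq_iff_eq_mul.2 h.symm
    rw [h3] at h2
    exact eq_inv_iff_mul_eq_one.1 h2

theorem II_equiv_one : Nat.card (II w (w * v)) = kk w v := by
  apply Nat.card_congr
  apply Equiv.subtypeEquivRight
  intro x
  rw [mem_inf, mem_centralizer_singleton_iff]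
  refine and_congr_right fun hx => ?_
  have h1 := D.K_main.1 _ (D.v_conj_K hx)
  have h2 : w * v * x * (w * v)⁻¹ = (v * x * v⁻¹)⁻¹ := by
    rw [← h1]; group
  rw [h2, mul_inv_eq_one, eq_comm, mul_inv_eq_iff_eq_mul, eq_comm]

theorem II_z (t : X) (ht : w * w * t = t * (w * w)) :
    Nat.card (II w (w * w * t)) = Nat.card (II w t) := by
  apply Nat.card_congr
  apply Equiv.subtypeEquivRight
  intro x
  refine and_congr_right fun hx => ?_
  have h1 := (D.mem_K.1 (D.conj_K ht hx)).1
  have h2 : w * w * t * x * (w * w * t)⁻¹ = t * x * t⁻¹ := by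
    calc w * w * t * x * (w * w * t)⁻¹ = w * w * (t * x * t⁻¹) * (w * w)⁻¹ := by group
      _ = t * x * t⁻¹ := by rw [h1]; group
  rw [h2]

theorem card_II (i : Fin 4) : Nat.card (II w (w ^ (i : ℕ) * v)) =
    if (i : ℕ) % 2 = 0 then kk w (v * w) else kk w v := by
  fin_cases i
  · show Nat.card (II w (w ^ 0 * v)) = kk w (v * w)
    rw [pow_zero, one_mul, D.II_equiv_zero]
  · show Nat.card (II w (w ^ 1 * v)) = kk w v
    rw [pow_one, D.II_equiv_one]
  · show Nat.card (II w (w ^ 2 * v)) = kk w (v * w)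
    rw [pow_two, D.II_z v D.zv, D.II_equiv_zero]
  · show Nat.card (II w (w ^ 3 * v)) = kk w v
    have h1 : w ^ 3 * v = w * w * (w * v) := by
      simp only [pow_succ, pow_zero, one_mul, mul_assoc]
    rw [h1, D.II_z (w * v) ?_, D.II_equiv_one]
    rw [← mul_assoc, D.zw, mul_assoc w, D.zv, ← mul_assoc]

/-- `|K| = k₁ k₂` -/
theorem card_K : Nat.card (KK w) = kk w v * kk w (v * w) := by
  have hcomm := D.K_main.2
  let f : KK w →* KK w :=
    { toFun := fun x => ⟨x * (v * x * v⁻¹), mul_mem x.2 (D.v_conj_K x.2)⟩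
      map_one' := by apply Subtype.ext; simp
      map_mul' := fun x y => by
        apply Subtype.ext
        show (x : X) * y * (v * (x * y) * v⁻¹) = x * (v * x * v⁻¹) * (y * (v * y * v⁻¹))
        have h1 := hcomm _ y.2 _ (D.v_conj_K x.2)
        calc (x : X) * y * (v * (x * y) * v⁻¹) = x * (y * (v * x * v⁻¹)) * (v * y * v⁻¹) := by group
          _ = x * (v * x * v⁻¹) * (y * (v * y * v⁻¹)) := by rw [h1]; group }
  have h1 : Nat.card f.ker = kk w (v * w) := by
    rw [← D.II_equiv_zero]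
    apply Nat.card_congr
    exact
      { toFun := fun x => ⟨x.1.1, x.1.2, congrArg Subtype.val (MonoidHom.mem_ker.1 x.2)⟩
        invFun := fun x => ⟨⟨x.1, x.2.1⟩, by
          rw [MonoidHom.mem_ker]
          apply Subtype.ext
          exact x.2.2⟩
        left_inv := fun x => rfl
        right_inv := fun x => rfl }
  have h2 : Nat.card f.range = kk w v := by
    apply Nat.card_congr
    refine
      { toFun := fun x => ⟨x.1.1, mem_inf.2 ⟨x.1.2, ?_⟩⟩
        invFun := fun x => ⟨⟨x.1, (mem_inf.1 x.2).1⟩, ?_⟩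
        left_inv := fun x => rfl
        right_inv := fun x => rfl }
    · obtain ⟨⟨x, hx⟩, ⟨y, hy⟩⟩ := x
      have hy' : (y : X) * (v * y * v⁻¹) = x := congrArg Subtype.val hy
      rw [mem_centralizer_singleton_iff]
      show x * v = v * x
      have h3 := hcomm _ y.2 _ (D.v_conj_K y.2)
      rw [← hy']
      have hv2 : v * v = 1 := D.vv
      calc (y : X) * (v * y * v⁻¹) * v = y * v * y := by group
        _ = v * (v⁻¹ * y * v * y) := by group
        _ = v * ((v * y * v⁻¹) * y) := by rw [D.vi]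
        _ = v * (y * (v * y * v⁻¹)) := by rw [h3]
    · obtain ⟨x, hx⟩ := x
      obtain ⟨hxK, hxv⟩ := mem_inf.1 hx
      rw [mem_centralizer_singleton_iff] at hxv
      have hodd : ¬ 2 ∣ orderOf x := (D.mem_K.1 hxK).2
      obtain ⟨m, hm⟩ : ∃ m, orderOf x + 1 = 2 * m := by
        have : Odd (orderOf x) := Nat.not_even_iff_odd.1 (fun h => hodd h.two_dvd)
        obtain ⟨a, ha⟩ := this
        exact ⟨a + 1, by omega⟩
      refine ⟨⟨x ^ m, pow_mem hxK m⟩, ?_⟩
      apply Subtype.ext
      show x ^ m * (v * x ^ m * v⁻¹) = x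
      have h4 : v * x ^ m * v⁻¹ = x ^ m := by
        rw [mul_inv_eq_iff_eq_mul]
        exact ((show Commute x v from hxv).pow_left m).eq.symm
      rw [h4, ← pow_add, show m + m = orderOf x + 1 by omega, pow_succ, pow_orderOf_eq_one,
        one_mul]
  have h3 := f.ker.card_mul_index
  rw [index_ker, h1, h2] at h3
  rw [← h3, mul_comm]

theorem card_C' : Nat.card (centralizer ({w * w} : Set X)) = 8 * (kk w v * kk w (v * w)) := by
  rw [D.card_C, D.card_K]

theorem isConj_inv : IsConj w w⁻¹ := by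
  rw [isConj_iff]
  exact ⟨v, by rw [D.vi, D.inv]⟩

theorem card_cw : Nat.card (centralizer ({w} : Set X)) = 4 := by
  have : centralizer ({w} : Set X) = zpowers w := by
    ext x
    rw [mem_centralizer_singleton_iff]
    constructor
    · exact D.cw x
    · rintro ⟨k, rfl⟩
      exact ((Commute.refl w).zpow_left k).eq
  rw [this, Nat.card_zpowers, D.hw]

theorem hyp : Hyp (w * w) w where
  hz := D.oz
  hw := D.hw
  hwz := rfl
  hreal := D.isConj_inv
  npc := D.npc_index
  fac := D.fac
  cw := D.card_cw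

/-- The equations when all involutions are conjugate. -/
theorem eqs_all (hc : ∀ a b : X, orderOf a = 2 → orderOf b = 2 → IsConj a b) :
    ∃ f f2 f3 : ℤ, Odd f ∧ f + 1 ≠ 0 ∧ f2 ≠ 0 ∧ f3 ≠ 0 ∧ f2 + f3 = f + 1 ∧
      (((8 * (kk w v * kk w (v * w))) * (8 * (kk w v * kk w (v * w))) * 4 : ℕ) : ℚ) =
        Nat.card X * (1 + 1 / f - 1 / f2 - 1 / f3) ∧
      (((8 * (kk w v * kk w (v * w))) * (8 * (kk w v * kk w (v * w))) *
        (2 * kk w v ^ 2 + 2 * kk w (v * w) ^ 2) : ℕ) : ℚ) =
        Nat.card X * ((kk w v * kk w (v * w) : ℕ) *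
          (1 + 1 / f + 1 / f2 + 1 / f3 - 8 / (f + 1))) := by
  classical
  obtain ⟨f, f2, f3, h1, h2, h3, h4, h5, h6, h7⟩ := D.hyp.counts
  have hord : ∀ i : Fin 4, orderOf (w ^ (i : ℕ) * v) = 2 := by
    intro i
    apply orderOf_eq_prime
    · rw [pow_two]; exact D.tau_sq i
    · intro h
      have := D.pow_ne (i := 0) (j := i)
      rw [h] at this
      simp at this
  refine ⟨f, f2, f3, h1, h2, h3, h4, h5, ?_, ?_⟩
  · have h8 : ∀ i : Fin 4, IsConj (w * w) (w ^ (i : ℕ) * v) ∧
        IsConj (w * w) (w ^ (i : ℕ) * v * w) := by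
      intro i
      refine ⟨hc _ _ D.oz (hord i), hc _ _ D.oz ?_⟩
      have h9 : w ^ (i : ℕ) * v * w = w ^ ((i + 3 : Fin 4) : ℕ) * v := by
        rw [mul_assoc, D.vw, D.wi]
        have hw4 : w ^ 4 = 1 := by rw [← D.hw, pow_orderOf_eq_one]
        fin_cases i
        · show w ^ 0 * (w * w * w * v) = w ^ 3 * v
          simp only [pow_succ, pow_zero, one_mul, mul_assoc]
        · show w ^ 1 * (w * w * w * v) = w ^ 0 * v
          rw [show w ^ 1 * (w * w * w * v) = w ^ 4 * v by
            simp only [pow_succ, pow_zero, one_mul, mul_assoc], hw4, pow_zero]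
        · show w ^ 2 * (w * w * w * v) = w ^ 1 * v
          rw [show w ^ 2 * (w * w * w * v) = w * w ^ 4 * v by
            simp only [pow_succ, pow_zero, one_mul, mul_assoc], hw4, mul_one, pow_one]
        · show w ^ 3 * (w * w * w * v) = w ^ 2 * v
          rw [show w ^ 3 * (w * w * w * v) = w ^ 2 * w ^ 4 * v by
            simp only [pow_succ, pow_zero, one_mul, mul_assoc], hw4, mul_one]
      rw [h9]
      exact hord _
    have h9 : Nat.card {i : Fin 4 // IsConj (w * w) (w ^ (i : ℕ) * v) ∧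
        IsConj (w * w) (w ^ (i : ℕ) * v * w)} = 4 := by
      rw [Nat.card_congr (Equiv.subtypeUnivEquiv h8)]
      simp
    rw [← h6, card_conj_pairs (w * w) (w * w) (fun s t => s * t = w), D.card_C',
      card_w_pairs D D.oz, h9]
  · have h7' := h7
    rw [card_conj_pairs (w * w) (w * w) (fun s t => (w * w)⁻¹ * (s * t) ∈ centralizerPPrimeCore 2 (w * w)),
      D.card_C'] at h7'
    have h8 := card_core_pairs D
    unfold KK at h8
    rw [h8] at h7'
    have h9 : (∑ i : Fin 4, if IsConj (w * w) (w ^ (i : ℕ) * v) then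
      Nat.card (II w (w ^ (i : ℕ) * v)) ^ 2 else 0) = 2 * kk w v ^ 2 + 2 * kk w (v * w) ^ 2 := by
      have h10 : ∀ i : Fin 4, (if IsConj (w * w) (w ^ (i : ℕ) * v) then
          Nat.card (II w (w ^ (i : ℕ) * v)) ^ 2 else 0) =
          (if (i : ℕ) % 2 = 0 then kk w (v * w) else kk w v) ^ 2 := by
        intro i
        rw [if_pos (hc _ _ D.oz (hord i)), D.card_II]
      rw [Finset.sum_congr rfl fun i _ => h10 i, Fin.sum_univ_four]
      simp
      ring
    rw [h9] at h7'
    have h11 : Nat.card (centralizerPPrimeCore 2 (w * w)) = kk w v * kk w (v * w) := D.card_K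
    rw [h11] at h7'
    exact h7'

theorem exists_four {t : X} (ht : t * t = 1) (ht1 : t ≠ 1) (hz : w * w * t = t * (w * w))
    (hne : w * w ≠ t) : ∃ V : Subgroup X, IsKleinFour V ∧ V ≤ centralizer ({t} : Set X) ∧ t ∈ V ∧
      w * w ∈ V ∧ ∀ x ∈ V, x = 1 ∨ x = w * w ∨ x = t ∨ x = w * w * t := by
  refine ⟨FourGraph.fourSubgroup (w * w) t D.w4 ht hz,
    FourGraph.isKleinFour_fourSubgroup D.z1 ht1 hne, ?_, ?_, ?_, fun x hx => hx⟩
  · intro x hx
    rw [mem_centralizer_singleton_iff]
    rcases FourGraph.mem_fourSubgroup.1 hx with rfl | rfl | rfl | rfl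
    · simp
    · exact hz
    · rfl
    · rw [mul_assoc, ← mul_assoc t, ← hz]
      rw [mul_assoc (w * w) t t, ht, mul_one]
  · exact FourGraph.mem_fourSubgroup.2 (Or.inr (Or.inr (Or.inl rfl)))
  · exact FourGraph.mem_fourSubgroup.2 (Or.inr (Or.inl rfl))

/-- An involution not conjugate to `z` has centralizer with 2-part at most 4. -/
theorem not_eight {t : X} (ht : orderOf t = 2) (hnc : ¬ IsConj (w * w) t) :
    ¬ 8 ∣ Nat.card (centralizer ({t} : Set X)) := by
  haveI : Fact (Nat.Prime 2) := ⟨Nat.prime_two⟩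
  intro h8
  obtain ⟨S, hS, -, hc8⟩ := D.exists_sylow
  obtain ⟨T, hT⟩ := Sylow.exists_subgroup_card_pow_prime 2 (n := 3)
    (G := centralizer ({t} : Set X)) (by norm_num; exact h8)
  have hT' : Nat.card (T.map (centralizer ({t} : Set X)).subtype) = 8 := by
    rw [Nat.card_congr (T.equivMapOfInjective _ Subtype.val_injective).toEquiv.symm, hT]
    norm_num
  have hf : 2 ^ (Nat.card X).factorization 2 = 8 := by
    rw [← hc8, Sylow.card_eq_multiplicity S]
  obtain ⟨g, hg⟩ := MulAction.exists_smul_eq X (Sylow.ofCard (T.map (centralizer ({t} : Set X)).subtype)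
    (by rw [hT', hf])) S
  have hg' : (S : Subgroup X) = MulAut.conj g • (T.map (centralizer ({t} : Set X)).subtype) := by
    rw [← hg]; rfl
  have hwS : w ∈ (S : Subgroup X) := by
    rw [hS]
    exact D.mem_S.2 ⟨1, Or.inl (by show w = w ^ 1; rw [pow_one])⟩
  rw [hg', mem_pointwise_smul_iff_inv_smul_mem] at hwS
  have h1 : g⁻¹ * w * g ∈ centralizer ({t} : Set X) := by
    obtain ⟨y, -, hy⟩ := hwS
    have : (MulAut.conj g)⁻¹ • w = g⁻¹ * w * g := by
      rw [← map_inv]; simp [MulAut.smul_def]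
    rw [← this, ← hy]
    exact y.2
  rw [mem_centralizer_singleton_iff] at h1
  have h2 : (g * t * g⁻¹) * w = w * (g * t * g⁻¹) := by
    calc (g * t * g⁻¹) * w = g * (t * (g⁻¹ * w * g)) * g⁻¹ := by group
      _ = w * (g * t * g⁻¹) := by rw [← h1]; group
  obtain ⟨i, hi⟩ := D.mem_zpowers_iff.1 (D.cw _ h2)
  have h3 : orderOf (g * t * g⁻¹) = 2 := by rw [H4.orderOf_conj', ht]
  apply hnc
  have h4 : g * t * g⁻¹ = w * w := by
    rw [hi] at h3 ⊢
    fin_cases i
    · exfalso
      have : orderOf (w ^ 0) = 2 := h3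
      rw [pow_zero, orderOf_one] at this
      omega
    · exfalso
      have : orderOf (w ^ 1) = 2 := h3
      rw [pow_one, D.hw] at this
      omega
    · show w ^ 2 = w * w
      rw [pow_two]
    · exfalso
      have : orderOf (w ^ 3) = 2 := h3
      have h5 : w ^ 3 = w⁻¹ := by rw [D.wi]; simp only [pow_succ, pow_zero, one_mul]
      rw [h5, orderOf_inv, D.hw] at this
      omega
  exact (isConj_iff.2 ⟨g, h4⟩).symm

theorem npc_two {t : X} (ht : orderOf t = 2) (hz : w * w * t = t * (w * w))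
    (hnc : ¬ IsConj (w * w) t) :
    (∃ k : ℕ, (pPrimeCore 2 (centralizer ({t} : Set X))).index = 2 ^ k) ∧
    (Nat.card (centralizer ({t} : Set X))).factorization 2 = 2 := by
  haveI : Fact (Nat.Prime 2) := ⟨Nat.prime_two⟩
  have hne : w * w ≠ t := by rintro rfl; exact hnc (IsConj.refl _)
  have ht1 : t ≠ 1 := by rintro rfl; rw [orderOf_one] at ht; omega
  obtain ⟨V, hV, hVC, htV, hzV, -⟩ := D.exists_four (H4.mul_self_of_orderOf_two ht) ht1 hz hne
  have h4 : Nat.card (V.subgroupOf (centralizer ({t} : Set X))) = 4 := by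
    rw [Nat.card_congr (subgroupOfEquivOfLe hVC).toEquiv, hV.card_four]
  have hdvd : 4 ∣ Nat.card (centralizer ({t} : Set X)) := h4 ▸ card_subgroup_dvd_card _
  have h8 := D.not_eight ht hnc
  have hf : (Nat.card (centralizer ({t} : Set X))).factorization 2 = 2 := by
    apply le_antisymm
    · by_contra hcon
      push Not at hcon
      apply h8
      rw [show 8 = 2 ^ 3 by norm_num]
      exact (Nat.Prime.pow_dvd_iff_le_factorization Nat.prime_two Nat.card_pos.ne').2 hcon
    · rw [← Nat.Prime.pow_dvd_iff_le_factorization Nat.prime_two Nat.card_pos.ne']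
      exact hdvd
  refine ⟨?_, hf⟩
  let P : Sylow 2 (centralizer ({t} : Set X)) :=
    Sylow.ofCard (V.subgroupOf (centralizer ({t} : Set X))) (by rw [h4, hf]; norm_num)
  have hPk : IsKleinFour (P : Subgroup (centralizer ({t} : Set X))) :=
    H4.isKleinFour_of_mulEquiv (subgroupOfEquivOfLe hVC).symm hV
  have htC : t ∈ centralizer ({t} : Set X) := mem_centralizer_singleton_iff.2 rfl
  refine H4.npc_of_central hPk (t := ⟨t, htC⟩) ?_ ?_ ?_
  · rw [orderOf_mk]; exact ht
  · exact mem_subgroupOf.2 htV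
  · intro x
    exact Subtype.ext (mem_centralizer_singleton_iff.1 x.2)

/-- The equations with two classes of involutions. -/
theorem eqs_two (h1 : IsConj (w * w) v) (h2 : ¬ IsConj (w * w) (v * w)) :
    ∃ f : ℤ, Odd f ∧ f + 1 ≠ 0 ∧
      (((8 * (kk w v * kk w (v * w))) * Nat.card (centralizer ({v * w} : Set X)) * 2 : ℕ) : ℚ) =
        Nat.card X * (2 - 2 / f) ∧
      (((8 * (kk w v * kk w (v * w))) * (8 * (kk w v * kk w (v * w))) *
        (2 * kk w (v * w) ^ 2) : ℕ) : ℚ) =
        Nat.card X * ((kk w v * kk w (v * w) : ℕ) * (2 + 2 / f - 8 / (f + 1))) := by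
  classical
  obtain ⟨npc, fac⟩ := D.npc_two D.swap.ov D.swap.zv h2
  obtain ⟨f, e1, e2, e3, e4⟩ := D.hyp.counts2 D.swap.ov h2 npc fac
  have hw4 : w ^ 4 = 1 := by rw [← D.hw, pow_orderOf_eq_one]
  -- conjugacy of the four involutions
  have c0 : IsConj (w * w) (w ^ 0 * v) := by rw [pow_zero, one_mul]; exact h1
  have hconj : ∀ t : X, IsConj (t * v) (w * (t * v) * w⁻¹) := fun t => isConj_iff.2 ⟨w, rfl⟩
  have hstep : ∀ i : ℕ, IsConj (w ^ i * v) (w ^ (i + 2) * v) := by
    intro i
    have h3 := hconj (w ^ i)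
    have h4 : w * (w ^ i * v) * w⁻¹ = w ^ (i + 2) * v := by
      calc w * (w ^ i * v) * w⁻¹ = w * w ^ i * (v * w⁻¹) := by group
        _ = w * w ^ i * w * v := by rw [D.vwi]; group
        _ = w ^ (i + 2) * v := by
          rw [← pow_succ', ← pow_succ]
    rwa [h4] at h3
  have c2 : IsConj (w * w) (w ^ 2 * v) := c0.trans (hstep 0)
  have e33 : w ^ 3 * v = v * w := by
    rw [D.vw, D.wi]; simp only [pow_succ, pow_zero, one_mul]
  have n3 : ¬ IsConj (w * w) (w ^ 3 * v) := by rw [e33]; exact h2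
  have n1 : ¬ IsConj (w * w) (w ^ 1 * v) := fun h => n3 (h.trans (hstep 1))
  refine ⟨f, e1, e2, ?_, ?_⟩
  · have h9 : Nat.card {i : Fin 4 // IsConj (w * w) (w ^ (i : ℕ) * v) ∧
        IsConj (v * w) (w ^ (i : ℕ) * v * w)} = 2 := by
      have h10 : ∀ i : Fin 4, (IsConj (w * w) (w ^ (i : ℕ) * v) ∧
          IsConj (v * w) (w ^ (i : ℕ) * v * w)) ↔ (i : ℕ) % 2 = 0 := by
        intro i
        fin_cases i
        · refine iff_of_true ⟨c0, ?_⟩ rfl
          show IsConj (v * w) (w ^ 0 * v * w)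
          rw [pow_zero, one_mul]
        · exact iff_of_false (fun h => n1 h.1) (by decide)
        · refine iff_of_true ⟨c2, ?_⟩ rfl
          show IsConj (v * w) (w ^ 2 * v * w)
          have h11 : w ^ 2 * v * w = w ^ 1 * v := by
            rw [mul_assoc, D.vw, ← mul_assoc, pow_two, mul_assoc w w, mul_inv_cancel, mul_one,
              pow_one]
          rw [h11, ← e33]
          exact (hstep 1).symm
        · exact iff_of_false (fun h => n3 h.1) (by decide)
      rw [Nat.card_congr (Equiv.subtypeEquivRight h10)]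
      rw [Nat.card_eq_fintype_card]
      rfl
    rw [← e3, card_conj_pairs (w * w) (v * w) (fun s t => s * t = w), D.card_C',
      card_w_pairs D D.swap.ov, h9]
  · have h7' := e4
    rw [card_conj_pairs (w * w) (w * w) (fun s t => (w * w)⁻¹ * (s * t) ∈ centralizerPPrimeCore 2 (w * w)),
      D.card_C'] at h7'
    have h8 := card_core_pairs D
    unfold KK at h8
    rw [h8] at h7'
    have h9 : (∑ i : Fin 4, if IsConj (w * w) (w ^ (i : ℕ) * v) then
      Nat.card (II w (w ^ (i : ℕ) * v)) ^ 2 else 0) = 2 * kk w (v * w) ^ 2 := by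
      have h10 : ∀ i : Fin 4, (if IsConj (w * w) (w ^ (i : ℕ) * v) then
          Nat.card (II w (w ^ (i : ℕ) * v)) ^ 2 else 0) =
          if (i : ℕ) % 2 = 0 then kk w (v * w) ^ 2 else 0 := by
        intro i
        rw [D.card_II]
        fin_cases i
        · show (if IsConj (w * w) (w ^ 0 * v) then _ else _) = _
          rw [if_pos c0]; rfl
        · show (if IsConj (w * w) (w ^ 1 * v) then _ else _) = _
          rw [if_neg n1]; rfl
        · show (if IsConj (w * w) (w ^ 2 * v) then _ else _) = _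
          rw [if_pos c2]; rfl
        · show (if IsConj (w * w) (w ^ 3 * v) then _ else _) = _
          rw [if_neg n3]; rfl
      rw [Finset.sum_congr rfl fun i _ => h10 i, Fin.sum_univ_four]
      simp
      ring
    rw [h9] at h7'
    have h11 : Nat.card (centralizerPPrimeCore 2 (w * w)) = kk w v * kk w (v * w) := D.card_K
    rw [h11] at h7'
    exact h7'

end Dat

end Cfsg.Agent.H1.SF
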