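import Mathlib
import Cfsg.Agent.H1.SFEq
import Cfsg.Agent.H21.Basic

/-!
# Self-centralizing elements of order 4: the normalizer of `C_K(v)`
-/

set_option autoImplicit false
set_option linter.unusedSectionVars false
set_option linter.unusedVariables false
set_option linter.style.haveILetI false

namespace Cfsg.Agent.H1.SF

open Subgroup Cfsg
open scoped Pointwise

universe u

/-- `C_K(v)` -/
def DD {X : Type u} [Group X] (w v : X) : Subgroup X := KK w ⊓ centralizer ({v} : Set X)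

theorem kk_eq {X : Type u} [Group X] (w v : X) : kk w v = Nat.card (DD w v) := rfl

variable {X : Type u} [Group X] [Finite X] {w v : X} (D : Dat w v)

include D

namespace Dat

theorem mem_DD {x u : X} : x ∈ DD w u ↔
    (w * w * x = x * (w * w) ∧ ¬ 2 ∣ orderOf x) ∧ x * u = u * x := by
  unfold DD
  rw [mem_inf, D.mem_K, mem_centralizer_singleton_iff]

theorem sylow_center {T : Subgroup X} (hT : Nat.card T = 8) : ∃ g : X, ∀ t : X, orderOf t = 2 →
    (∀ y ∈ T, t * y = y * t) → g * t * g⁻¹ = w * w := by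
  haveI : Fact (Nat.Prime 2) := ⟨Nat.prime_two⟩
  obtain ⟨S, hS, -, hc8⟩ := D.exists_sylow
  have hf : 2 ^ (Nat.card X).factorization 2 = 8 := by
    rw [← hc8, Sylow.card_eq_multiplicity S]
  obtain ⟨g, hg⟩ := MulAction.exists_smul_eq X (Sylow.ofCard T (by rw [hT, hf])) S
  have hg' : (S : Subgroup X) = MulAut.conj g • T := by
    rw [← hg]; rfl
  refine ⟨g, fun t ht hc => ?_⟩
  have hwS : w ∈ (S : Subgroup X) := by
    rw [hS]
    exact D.mem_S.2 ⟨1, Or.inl (by show w = w ^ 1; rw [pow_one])⟩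
  rw [hg', mem_pointwise_smul_iff_inv_smul_mem] at hwS
  have h1 : t * (g⁻¹ * w * g) = (g⁻¹ * w * g) * t := by
    have : (MulAut.conj g)⁻¹ • w = g⁻¹ * w * g := by
      rw [← map_inv]; simp [MulAut.smul_def]
    rw [this] at hwS
    exact hc _ hwS
  have h2 : (g * t * g⁻¹) * w = w * (g * t * g⁻¹) := by
    calc (g * t * g⁻¹) * w = g * (t * (g⁻¹ * w * g)) * g⁻¹ := by group
      _ = w * (g * t * g⁻¹) := by rw [h1]; group
  obtain ⟨i, hi⟩ := D.mem_zpowers_iff.1 (D.cw _ h2)
  have h3 : orderOf (g * t * g⁻¹) = 2 := by rw [H4.orderOf_conj', ht]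
  rw [hi] at h3 ⊢
  fin_cases i
  · exfalso
    have : orderOf (w ^ 0) = 2 := h3
    rw [pow_zero, orderOf_one] at this
    omega
  · exfalso
    have : orderOf (w ^ 1) = 2 := h3
    rw [pow_one, D.hw] at this
    omega
  · show w ^ 2 = w * w
    rw [pow_two]
  · exfalso
    have : orderOf (w ^ 3) = 2 := h3
    have h5 : w ^ 3 = w⁻¹ := by rw [D.wi]; simp only [pow_succ, pow_zero, one_mul]
    rw [h5, orderOf_inv, D.hw] at this
    omega

theorem z_ne_v : w * w ≠ v := by
  intro h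
  apply D.v_notMem
  rw [← h]
  exact mul_mem (mem_zpowers w) (mem_zpowers w)

theorem card_centralizer_of_isConj {a b : X} (h : IsConj a b) :
    Nat.card (centralizer ({a} : Set X)) = Nat.card (centralizer ({b} : Set X)) := by
  obtain ⟨c, rfl⟩ := isConj_iff.1 h
  apply Nat.card_congr
  refine
    { toFun := fun g => ⟨c * g.1 * c⁻¹, ?_⟩
      invFun := fun g => ⟨c⁻¹ * g.1 * c, ?_⟩
      left_inv := fun g => by apply Subtype.ext; simp [mul_assoc]
      right_inv := fun g => by apply Subtype.ext; simp [mul_assoc] }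
  · rw [mem_centralizer_singleton_iff]
    have h1 := mem_centralizer_singleton_iff.1 g.2
    calc c * g.1 * c⁻¹ * (c * a * c⁻¹) = c * (g.1 * a) * c⁻¹ := by group
      _ = c * a * c⁻¹ * (c * g.1 * c⁻¹) := by rw [h1]; group
  · rw [mem_centralizer_singleton_iff]
    have h1 := mem_centralizer_singleton_iff.1 g.2
    calc c⁻¹ * g.1 * c * a = c⁻¹ * (g.1 * (c * a * c⁻¹)) * c := by group
      _ = a * (c⁻¹ * g.1 * c) := by rw [h1]; group

/-- An element permuting `z → v → zv`. -/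
theorem exists_perm (hc : IsConj (w * w) v) :
    ∃ g : X, g * (w * w) * g⁻¹ = v ∧ g * v * g⁻¹ = w * w * v := by
  haveI : Fact (Nat.Prime 2) := ⟨Nat.prime_two⟩
  obtain ⟨V, hV, hVC, hvV, hzV, hVall⟩ := D.exists_four D.vv D.v1 D.zv D.z_ne_v
  have h8 : 8 ∣ Nat.card (centralizer ({v} : Set X)) := by
    rw [← D.card_centralizer_of_isConj hc, D.card_C]
    exact dvd_mul_right _ _
  have h4 : Nat.card (V.subgroupOf (centralizer ({v} : Set X))) = 2 ^ 2 := by
    rw [Nat.card_congr (subgroupOfEquivOfLe hVC).toEquiv, hV.card_four]; norm_num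
  obtain ⟨T, hT, hVT⟩ := Sylow.exists_subgroup_card_pow_prime_le 2 (m := 3) (by norm_num; exact h8)
    (V.subgroupOf (centralizer ({v} : Set X))) h4 (by norm_num)
  set T' := T.map (centralizer ({v} : Set X)).subtype with hT'
  have hTc : Nat.card T' = 8 := by
    rw [hT', Nat.card_congr (T.equivMapOfInjective _ Subtype.val_injective).toEquiv.symm, hT]
    norm_num
  have hTC : ∀ y ∈ T', y * v = v * y := by
    rintro _ ⟨y, -, rfl⟩
    exact mem_centralizer_singleton_iff.1 y.2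
  have hVT' : V ≤ T' := fun x hx =>
    ⟨⟨x, hVC hx⟩, hVT (mem_subgroupOf.2 hx), rfl⟩
  have hidx : (V.subgroupOf T').index = 2 := by
    have h5 := (V.subgroupOf T').card_mul_index
    rw [Nat.card_congr (subgroupOfEquivOfLe hVT').toEquiv, hV.card_four, hTc] at h5
    omega
  haveI : (V.subgroupOf T').Normal := normal_of_index_eq_two hidx
  have hnorm : ∀ t ∈ T', ∀ x ∈ V, t * x * t⁻¹ ∈ V := by
    intro t ht x hx
    have h6 := Subgroup.Normal.conj_mem (inferInstance : (V.subgroupOf T').Normal) ⟨x, hVT' hx⟩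
      (mem_subgroupOf.2 hx) ⟨t, ht⟩
    exact mem_subgroupOf.1 h6
  -- some element moves `z`
  obtain ⟨t, ht, htz⟩ : ∃ t ∈ T', t * (w * w) * t⁻¹ ≠ w * w := by
    by_contra hcon
    push Not at hcon
    obtain ⟨g, hg⟩ := D.sylow_center hTc
    have e1 := hg (w * w) D.oz (fun y hy => (mul_inv_eq_iff_eq_mul.1 (hcon y hy)).symm)
    have e2 := hg v D.ov (fun y hy => (hTC y hy).symm)
    apply D.z_ne_v
    have e3 := e1.trans e2.symm
    exact mul_left_cancel (mul_right_cancel e3)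
  have htv : t * v * t⁻¹ = v := by
    rw [mul_inv_eq_iff_eq_mul]; exact hTC t ht
  have h7 : t * (w * w) * t⁻¹ = w * w * v := by
    rcases hVall _ (hnorm t ht _ hzV) with h | h | h | h
    · exfalso
      apply D.z1
      exact conj_eq_one_iff.1 h
    · exact absurd h htz
    · exfalso
      apply D.z_ne_v
      have e3 := h.trans htv.symm
      exact mul_left_cancel (mul_right_cancel e3)
    · exact h
  have hwv : w * v * w⁻¹ = w * w * v := by
    rw [mul_assoc, D.vwi, ← mul_assoc]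
  refine ⟨w * t, ?_, ?_⟩
  · calc w * t * (w * w) * (w * t)⁻¹ = w * (t * (w * w) * t⁻¹) * w⁻¹ := by group
      _ = w * w * (w * v * w⁻¹) := by rw [h7]; group
      _ = (w * w * (w * w)) * v := by rw [hwv]; group
      _ = v := by rw [D.w4, one_mul]
  · calc w * t * v * (w * t)⁻¹ = w * (t * v * t⁻¹) * w⁻¹ := by group
      _ = w * w * v := by rw [htv, hwv]

theorem centralizer_le : centralizer ({w * w} : Set X) ≤ normalizer (DD w v : Set X) := by
  have hK : ∀ x ∈ KK w, x ∈ normalizer (DD w v : Set X) := by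
    intro x hx
    apply H21.mem_normalizer_of_map_conj_le
    rintro _ ⟨y, hy, rfl⟩
    have hyK : y ∈ KK w := (mem_inf.1 hy).1
    show x * y * x⁻¹ ∈ DD w v
    rw [D.K_main.2 x hx y hyK, mul_assoc, mul_inv_cancel, mul_one]
    exact hy
  have hw : w ∈ normalizer (DD w v : Set X) := by
    apply H21.mem_normalizer_of_map_conj_le
    rintro _ ⟨y, hy, rfl⟩
    have hyK : y ∈ KK w := (mem_inf.1 hy).1
    show w * y * w⁻¹ ∈ DD w v
    rw [D.K_main.1 y hyK]
    exact inv_mem hy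
  have hv : v ∈ normalizer (DD w v : Set X) := by
    apply H21.mem_normalizer_of_map_conj_le
    rintro _ ⟨y, hy, rfl⟩
    have hyv := mem_centralizer_singleton_iff.1 (mem_inf.1 hy).2
    show v * y * v⁻¹ ∈ DD w v
    rw [← hyv, mul_assoc, mul_inv_cancel, mul_one]
    exact hy
  intro x hx
  obtain ⟨k, hk, s, hs, rfl⟩ := D.exists_decomp (mem_centralizer_singleton_iff.1 hx)
  refine mul_mem (hK k hk) ?_
  obtain ⟨i, rfl | rfl⟩ := D.mem_S.1 hs
  · exact pow_mem hw _
  · exact mul_mem (pow_mem hw _) hv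

theorem perm_mem {g : X} (h1 : g * (w * w) * g⁻¹ = v) (h2 : g * v * g⁻¹ = w * w * v) :
    g ∈ normalizer (DD w v : Set X) := by
  apply H21.mem_normalizer_of_map_conj_le
  rintro _ ⟨y, hy, rfl⟩
  show g * y * g⁻¹ ∈ DD w v
  replace hy : y ∈ DD w v := hy
  rw [D.mem_DD] at hy ⊢
  obtain ⟨⟨hy1, hy2⟩, hy3⟩ := hy
  have hz : g * (w * w * v) * g⁻¹ = w * w := by
    calc g * (w * w * v) * g⁻¹ = (g * (w * w) * g⁻¹) * (g * v * g⁻¹) := by group
      _ = v * (w * w * v) := by rw [h1, h2]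
      _ = w * w := by rw [D.zv, ← mul_assoc, D.vv, one_mul]
  have hcy : (w * w * v) * y = y * (w * w * v) := by
    rw [mul_assoc, ← hy3, ← mul_assoc, hy1, mul_assoc]
  refine ⟨⟨?_, ?_⟩, ?_⟩
  · calc w * w * (g * y * g⁻¹) = (g * (w * w * v) * g⁻¹) * (g * y * g⁻¹) := by rw [hz]
      _ = g * ((w * w * v) * y) * g⁻¹ := by group
      _ = (g * y * g⁻¹) * (g * (w * w * v) * g⁻¹) := by rw [hcy]; group
      _ = g * y * g⁻¹ * (w * w) := by rw [hz]
  · rw [H4.orderOf_conj']; exact hy2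
  · calc g * y * g⁻¹ * v = (g * y * g⁻¹) * (g * (w * w) * g⁻¹) := by rw [h1]
      _ = g * (y * (w * w)) * g⁻¹ := by group
      _ = g * (w * w * y) * g⁻¹ := by rw [hy1]
      _ = (g * (w * w) * g⁻¹) * (g * y * g⁻¹) := by group
      _ = v * (g * y * g⁻¹) := by rw [h1]

theorem not_perm (hk : kk w v ≠ 1) {g : X} (hg : g ∈ normalizer (DD w v : Set X)) :
    g * (w * w) * g⁻¹ ≠ v * w := by
  intro h
  obtain ⟨d, hd, hd1⟩ : ∃ d ∈ DD w v, d ≠ 1 := by
    by_contra hcon
    push Not at hcon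
    apply hk
    rw [kk_eq, (eq_bot_iff_forall _).2 hcon, card_bot]
  have h1 : g⁻¹ * d * g ∈ DD w v := by
    have := (mem_normalizer_iff.1 (inv_mem hg) d).1 hd
    rwa [inv_inv] at this
  have h2 := (D.mem_DD.1 h1).1.1
  have h3 := (D.mem_DD.1 hd).2
  have h4 : d * (v * w) = v * w * d := by
    calc d * (v * w) = d * (g * (w * w) * g⁻¹) := by rw [h]
      _ = g * ((g⁻¹ * d * g) * (w * w)) * g⁻¹ := by group
      _ = g * (w * w * (g⁻¹ * d * g)) * g⁻¹ := by rw [h2]
      _ = (g * (w * w) * g⁻¹) * d := by group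
      _ = v * w * d := by rw [h]
  apply hd1
  apply D.K_fix (mem_inf.1 hd).1
  have h5 : v * (d * w) = v * (w * d) := by
    calc v * (d * w) = (v * d) * w := by group
      _ = d * (v * w) := by rw [← h3]; group
      _ = v * (w * d) := by rw [h4]; group
  exact mul_left_cancel h5

theorem restrict {N : Subgroup X} (hw : w ∈ N) (hv : v ∈ N) :
    Dat (⟨w, hw⟩ : N) ⟨v, hv⟩ where
  hw := by rw [orderOf_mk]; exact D.hw
  vv := Subtype.ext D.vv
  inv := Subtype.ext D.inv
  cw := by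
    intro x hx
    obtain ⟨k, hk⟩ := D.cw x (congrArg Subtype.val hx)
    exact ⟨k, Subtype.ext (by simpa using hk)⟩
  n16 := fun h => D.n16 (h.trans (card_subgroup_dvd_card N))

theorem kk_restrict {N : Subgroup X} (hN : centralizer ({w * w} : Set X) ≤ N) (hw : w ∈ N)
    (hv : v ∈ N) {u : X} (hu : u ∈ N) : kk (⟨w, hw⟩ : N) ⟨u, hu⟩ = kk w u := by
  have D' := D.restrict hw hv
  rw [kk_eq, kk_eq]
  apply Nat.card_congr
  refine
    { toFun := fun x => ⟨(x.1 : N), ?_⟩
      invFun := fun x => ⟨⟨x.1, ?_⟩, ?_⟩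
      left_inv := fun x => rfl
      right_inv := fun x => rfl }
  · have h1 := D'.mem_DD.1 x.2
    rw [D.mem_DD]
    refine ⟨⟨congrArg Subtype.val h1.1.1, ?_⟩, congrArg Subtype.val h1.2⟩
    rw [orderOf_coe]; exact h1.1.2
  · have h1 := D.mem_DD.1 x.2
    exact hN (mem_centralizer_singleton_iff.2 h1.1.1.symm)
  · have h1 := D.mem_DD.1 x.2
    rw [D'.mem_DD]
    refine ⟨⟨Subtype.ext h1.1.1, ?_⟩, Subtype.ext h1.2⟩
    rw [orderOf_mk]; exact h1.1.2

theorem card_centralizer_dvd (N : Subgroup X) (t : N) :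
    Nat.card (centralizer ({t} : Set N)) ∣ Nat.card (centralizer ({(t : X)} : Set X)) := by
  have h1 : Nat.card (centralizer ({t} : Set N)) =
      Nat.card ((centralizer ({t} : Set N)).map N.subtype) :=
    Nat.card_congr ((centralizer ({t} : Set N)).equivMapOfInjective _
      Subtype.val_injective).toEquiv
  rw [h1]
  apply card_dvd_of_le
  rintro _ ⟨y, hy, rfl⟩
  rw [mem_centralizer_singleton_iff]
  exact congrArg Subtype.val (mem_centralizer_singleton_iff.1 hy)

theorem w_mem_C : w ∈ centralizer ({w * w} : Set X) :=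
  mem_centralizer_singleton_iff.2 D.zw.symm

theorem v_mem_C : v ∈ centralizer ({w * w} : Set X) :=
  mem_centralizer_singleton_iff.2 D.zv.symm

/-- The equations for the normalizer of `C_K(v)`. -/
theorem norm_eqs (hc : IsConj (w * w) v) (hc2 : IsConj (w * w) (v * w)) (hk : kk w v ≠ 1) :
    ∃ (c : ℕ) (f : ℤ), c ∣ 8 * (kk w v * kk w (v * w)) ∧ Odd f ∧ f + 1 ≠ 0 ∧
      (((8 * (kk w v * kk w (v * w))) * c * 2 : ℕ) : ℚ) =
        Nat.card (normalizer (DD w v : Set X)) * (2 - 2 / f) ∧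
      (((8 * (kk w v * kk w (v * w))) * (8 * (kk w v * kk w (v * w))) *
        (2 * kk w (v * w) ^ 2) : ℕ) : ℚ) =
        Nat.card (normalizer (DD w v : Set X)) *
          ((kk w v * kk w (v * w) : ℕ) * (2 + 2 / f - 8 / (f + 1))) := by
  have hN := D.centralizer_le
  have hw : w ∈ normalizer (DD w v : Set X) := hN D.w_mem_C
  have hv : v ∈ normalizer (DD w v : Set X) := hN D.v_mem_C
  have D' := D.restrict hw hv
  obtain ⟨g, hg1, hg2⟩ := D.exists_perm hc
  have hg := D.perm_mem hg1 hg2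
  have h1 : IsConj ((⟨w, hw⟩ : normalizer (DD w v : Set X)) * ⟨w, hw⟩) ⟨v, hv⟩ :=
    isConj_iff.2 ⟨⟨g, hg⟩, Subtype.ext hg1⟩
  have h2 : ¬ IsConj ((⟨w, hw⟩ : normalizer (DD w v : Set X)) * ⟨w, hw⟩) (⟨v, hv⟩ * ⟨w, hw⟩) := by
    intro h
    obtain ⟨⟨y, hy⟩, hy2⟩ := isConj_iff.1 h
    exact D.not_perm hk hy (congrArg Subtype.val hy2)
  obtain ⟨f, e1, e2, e3, e4⟩ := D'.eqs_two h1 h2
  have k1 := D.kk_restrict hN hw hv hv
  have k2 : kk (⟨w, hw⟩ : normalizer (DD w v : Set X)) (⟨v, hv⟩ * ⟨w, hw⟩) = kk w (v * w) :=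
    D.kk_restrict hN hw hv (mul_mem hv hw)
  rw [k1, k2] at e3 e4
  refine ⟨_, f, ?_, e1, e2, e3, e4⟩
  have h3 := D.card_centralizer_dvd (normalizer (DD w v : Set X)) (⟨v, hv⟩ * ⟨w, hw⟩)
  have h4 : Nat.card (centralizer ({v * w} : Set X)) = 8 * (kk w v * kk w (v * w)) := by
    rw [← D.card_C', D.card_centralizer_of_isConj hc2]
  rw [← h4]
  exact h3

end Dat

end Cfsg.Agent.H1.SF
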