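import Mathlib

/-!
# Coset enumerations for the alternating group of degree 7
-/

set_option autoImplicit false
set_option linter.unusedVariables false
set_option linter.unusedSimpArgs false
set_option maxHeartbeats 4000000

namespace Cfsg.Agent.H1.SF

universe u1 u2

theorem enum_plus {G : Type u1} [Group G] {Ω : Type u2} [MulAction G Ω] {w v d k : G}
    (rw : w * w * w * w = 1)
    (rv : v * v = 1)
    (rvw : v * w * v * w = 1)
    (rd : d * d * d = 1)
    (rdv : d * v * d⁻¹ * v⁻¹ = 1)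
    (rwd : w * d * w⁻¹ * d = 1)
    (rk : k * k * k = 1)
    (rk1 : k * w * w * k⁻¹ * w⁻¹ * v⁻¹ = 1)
    (rk2 : k * v * w * k⁻¹ * w⁻¹ * v⁻¹ * w⁻¹ * w⁻¹ = 1)
    (rvk : v * k * v * k = 1)
    (rhd : k * w * d * k⁻¹ * d * k * d⁻¹ * w⁻¹ * k⁻¹ * d * k * w * d * k⁻¹ * d⁻¹ * k * d⁻¹ * w⁻¹ * k⁻¹ * d⁻¹ = 1)
    (rh1 : k * w * d * k⁻¹ * d * k * d⁻¹ * w⁻¹ * k⁻¹ * w * w * k * w * d * k⁻¹ * d⁻¹ * k * d⁻¹ * w⁻¹ * k⁻¹ * v⁻¹ = 1)
    (rh2 : k * w * d * k⁻¹ * d * k * d⁻¹ * w⁻¹ * k⁻¹ * v * k * w * d * k⁻¹ * d⁻¹ * k * d⁻¹ * w⁻¹ * k⁻¹ * v⁻¹ * w⁻¹ * w⁻¹ = 1)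
    (p0 : Ω) (sw : w • p0 = p0) (sv : v • p0 = p0) (sd : d • p0 = p0)
    (sh : (k * w * d * k⁻¹ * d * k * d⁻¹ * w⁻¹ * k⁻¹) • p0 = p0) : k • p0 = p0 := by
  have R0 : k * k * k = 1 := rk
  have R1 : v * k * v * k = 1 := rvk
  have R2 : v * v = 1 := rv
  have R3 : w * k⁻¹ * w⁻¹ * v⁻¹ * w⁻¹ * w⁻¹ * k * v = 1 := by
    rw [show w * k⁻¹ * w⁻¹ * v⁻¹ * w⁻¹ * w⁻¹ * k * v = (k * v)⁻¹ * (k * v * w * k⁻¹ * w⁻¹ * v⁻¹ * w⁻¹ * w⁻¹) * (k * v) by simp only [mul_assoc, mul_inv_rev, inv_inv, inv_mul_cancel_left, mul_inv_cancel_left, inv_mul_cancel, mul_inv_cancel, mul_one, one_mul], rk2]; group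
  have R4 : k * w * w * k⁻¹ * w⁻¹ * v⁻¹ = 1 := rk1
  have R5 : d * d * d = 1 := rd
  have R6 : v⁻¹ * d * v * d⁻¹ = 1 := by
    rw [show v⁻¹ * d * v * d⁻¹ = (d * v * d⁻¹)⁻¹ * (d * v * d⁻¹ * v⁻¹) * (d * v * d⁻¹) by simp only [mul_assoc, mul_inv_rev, inv_inv, inv_mul_cancel_left, mul_inv_cancel_left, inv_mul_cancel, mul_inv_cancel, mul_one, one_mul], rdv]; group
  have R7 : v * d * v⁻¹ * d⁻¹ = 1 := by
    rw [show v * d * v⁻¹ * d⁻¹ = (d * v * d⁻¹ * v⁻¹)⁻¹ by simp only [mul_assoc, mul_inv_rev, inv_inv, inv_mul_cancel_left, mul_inv_cancel_left, inv_mul_cancel, mul_inv_cancel, mul_one, one_mul], rdv]; group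
  have R8 : w * d⁻¹ * w⁻¹ * d⁻¹ = 1 := by
    rw [show w * d⁻¹ * w⁻¹ * d⁻¹ = (d⁻¹)⁻¹ * (w * d * w⁻¹ * d)⁻¹ * (d⁻¹) by simp only [mul_assoc, mul_inv_rev, inv_inv, inv_mul_cancel_left, mul_inv_cancel_left, inv_mul_cancel, mul_inv_cancel, mul_one, one_mul], rwd]; group
  have R9 : w⁻¹ * d⁻¹ * w * d⁻¹ = 1 := by
    rw [show w⁻¹ * d⁻¹ * w * d⁻¹ = (d⁻¹ * w * d⁻¹)⁻¹ * (w * d * w⁻¹ * d)⁻¹ * (d⁻¹ * w * d⁻¹) by simp only [mul_assoc, mul_inv_rev, inv_inv, inv_mul_cancel_left, mul_inv_cancel_left, inv_mul_cancel, mul_inv_cancel, mul_one, one_mul], rwd]; group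
  have R10 : v * d⁻¹ * v⁻¹ * d = 1 := by
    rw [show v * d⁻¹ * v⁻¹ * d = (d)⁻¹ * (d * v * d⁻¹ * v⁻¹) * (d) by simp only [mul_assoc, mul_inv_rev, inv_inv, inv_mul_cancel_left, mul_inv_cancel_left, inv_mul_cancel, mul_inv_cancel, mul_one, one_mul], rdv]; group
  have R11 : v⁻¹ * d⁻¹ * v * d = 1 := by
    rw [show v⁻¹ * d⁻¹ * v * d = (v * d)⁻¹ * (d * v * d⁻¹ * v⁻¹)⁻¹ * (v * d) by simp only [mul_assoc, mul_inv_rev, inv_inv, inv_mul_cancel_left, mul_inv_cancel_left, inv_mul_cancel, mul_inv_cancel, mul_one, one_mul], rdv]; group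
  have R12 : w * d * w⁻¹ * d = 1 := rwd
  have R13 : w⁻¹ * d * w * d = 1 := by
    rw [show w⁻¹ * d * w * d = (w * d)⁻¹ * (w * d * w⁻¹ * d) * (w * d) by simp only [mul_assoc, mul_inv_rev, inv_inv, inv_mul_cancel_left, mul_inv_cancel_left, inv_mul_cancel, mul_inv_cancel, mul_one, one_mul], rwd]; group
  have R14 : v⁻¹ * k⁻¹ * v⁻¹ * k⁻¹ = 1 := by
    rw [show v⁻¹ * k⁻¹ * v⁻¹ * k⁻¹ = (k⁻¹)⁻¹ * (v * k * v * k)⁻¹ * (k⁻¹) by simp only [mul_assoc, mul_inv_rev, inv_inv, inv_mul_cancel_left, mul_inv_cancel_left, inv_mul_cancel, mul_inv_cancel, mul_one, one_mul], rvk]; group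
  have R15 : v⁻¹ * v⁻¹ = 1 := by
    rw [show v⁻¹ * v⁻¹ = (v * v)⁻¹ by simp only [mul_assoc, mul_inv_rev, inv_inv, inv_mul_cancel_left, mul_inv_cancel_left, inv_mul_cancel, mul_inv_cancel, mul_one, one_mul], rv]; group
  have R16 : w⁻¹ * w⁻¹ * k * v * w * k⁻¹ * w⁻¹ * v⁻¹ = 1 := by
    rw [show w⁻¹ * w⁻¹ * k * v * w * k⁻¹ * w⁻¹ * v⁻¹ = (k * v * w * k⁻¹ * w⁻¹ * v⁻¹)⁻¹ * (k * v * w * k⁻¹ * w⁻¹ * v⁻¹ * w⁻¹ * w⁻¹) * (k * v * w * k⁻¹ * w⁻¹ * v⁻¹) by simp only [mul_assoc, mul_inv_rev, inv_inv, inv_mul_cancel_left, mul_inv_cancel_left, inv_mul_cancel, mul_inv_cancel, mul_one, one_mul], rk2]; group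
  have R17 : w * k * w⁻¹ * w⁻¹ * k⁻¹ * v = 1 := by
    rw [show w * k * w⁻¹ * w⁻¹ * k⁻¹ * v = (v)⁻¹ * (k * w * w * k⁻¹ * w⁻¹ * v⁻¹)⁻¹ * (v) by simp only [mul_assoc, mul_inv_rev, inv_inv, inv_mul_cancel_left, mul_inv_cancel_left, inv_mul_cancel, mul_inv_cancel, mul_one, one_mul], rk1]; group
  have R18 : d * w⁻¹ * d * w = 1 := by
    rw [show d * w⁻¹ * d * w = (w)⁻¹ * (w * d * w⁻¹ * d) * (w) by simp only [mul_assoc, mul_inv_rev, inv_inv, inv_mul_cancel_left, mul_inv_cancel_left, inv_mul_cancel, mul_inv_cancel, mul_one, one_mul], rwd]; group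
  have R19 : d * k⁻¹ * d * k * d⁻¹ * w⁻¹ * k⁻¹ * w⁻¹ * w⁻¹ * k * w * d * k⁻¹ * d⁻¹ * k * d⁻¹ * w⁻¹ * k⁻¹ * v * k * w = 1 := by
    rw [show d * k⁻¹ * d * k * d⁻¹ * w⁻¹ * k⁻¹ * w⁻¹ * w⁻¹ * k * w * d * k⁻¹ * d⁻¹ * k * d⁻¹ * w⁻¹ * k⁻¹ * v * k * w = (v * k * w)⁻¹ * (k * w * d * k⁻¹ * d * k * d⁻¹ * w⁻¹ * k⁻¹ * w * w * k * w * d * k⁻¹ * d⁻¹ * k * d⁻¹ * w⁻¹ * k⁻¹ * v⁻¹)⁻¹ * (v * k * w) by simp only [mul_assoc, mul_inv_rev, inv_inv, inv_mul_cancel_left, mul_inv_cancel_left, inv_mul_cancel, mul_inv_cancel, mul_one, one_mul], rh1]; group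
  have R20 : d * k⁻¹ * d * k * d⁻¹ * w⁻¹ * k⁻¹ * w * w * k * w * d * k⁻¹ * d⁻¹ * k * d⁻¹ * w⁻¹ * k⁻¹ * v⁻¹ * k * w = 1 := by
    rw [show d * k⁻¹ * d * k * d⁻¹ * w⁻¹ * k⁻¹ * w * w * k * w * d * k⁻¹ * d⁻¹ * k * d⁻¹ * w⁻¹ * k⁻¹ * v⁻¹ * k * w = (k * w)⁻¹ * (k * w * d * k⁻¹ * d * k * d⁻¹ * w⁻¹ * k⁻¹ * w * w * k * w * d * k⁻¹ * d⁻¹ * k * d⁻¹ * w⁻¹ * k⁻¹ * v⁻¹) * (k * w) by simp only [mul_assoc, mul_inv_rev, inv_inv, inv_mul_cancel_left, mul_inv_cancel_left, inv_mul_cancel, mul_inv_cancel, mul_one, one_mul], rh1]; group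
  have f1 : w • p0 = p0 := sw
  have e1 : w⁻¹ • p0 = p0 := inv_smul_eq_iff.2 f1.symm
  have f2 : v • p0 = p0 := sv
  have e2 : v⁻¹ • p0 = p0 := inv_smul_eq_iff.2 f2.symm
  have f3 : d • p0 = p0 := sd
  have e3 : d⁻¹ • p0 = p0 := inv_smul_eq_iff.2 f3.symm
  obtain ⟨p1, q1⟩ : ∃ x, x = k⁻¹ • p0 := ⟨_, rfl⟩
  have f4 : k⁻¹ • p0 = p1 := q1.symm
  have e4 : k • p1 = p0 := (inv_smul_eq_iff.1 f4).symm
  obtain ⟨p2, q2⟩ : ∃ x, x = k • p0 := ⟨_, rfl⟩
  have f5 : k • p0 = p2 := q2.symm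
  have e5 : k⁻¹ • p2 = p0 := inv_smul_eq_iff.2 f5.symm
  have f6 : k • p2 = p1 := by
    have t := congrArg (· • p0) R0
    simp only [mul_smul, one_smul, f5] at t
    replace t := smul_left_cancel (k) (t.trans e4.symm)
    exact t
  have e6 : k⁻¹ • p1 = p2 := inv_smul_eq_iff.2 f6.symm
  have f7 : v • p2 = p1 := by
    have t := congrArg (· • p0) R1
    simp only [mul_smul, one_smul, f5] at t
    replace t := smul_left_cancel (v) (t.trans f2.symm)
    replace t := smul_left_cancel (k) (t.trans e4.symm)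
    exact t
  have e7 : v⁻¹ • p1 = p2 := inv_smul_eq_iff.2 f7.symm
  have f8 : v • p1 = p2 := by
    have t := congrArg (· • p2) R2
    simp only [mul_smul, one_smul, f7] at t
    exact t
  have e8 : v⁻¹ • p2 = p1 := inv_smul_eq_iff.2 f8.symm
  have f9 : w • p1 = p2 := by
    have t := congrArg (· • p2) R3
    simp only [mul_smul, one_smul, f7, e4, e1, e1, e2, e1, f4] at t
    exact t
  have e9 : w⁻¹ • p2 = p1 := inv_smul_eq_iff.2 f9.symm
  have f10 : w • p2 = p1 := by
    have t := congrArg (· • p1) R4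
    simp only [mul_smul, one_smul, e7, e9, e6] at t
    replace t := smul_left_cancel (k) (t.trans f6.symm)
    replace t := smul_left_cancel (w) (t.trans f9.symm)
    exact t
  have e10 : w⁻¹ • p1 = p2 := inv_smul_eq_iff.2 f10.symm
  obtain ⟨p3, q3⟩ : ∃ x, x = d⁻¹ • p1 := ⟨_, rfl⟩
  have f11 : d⁻¹ • p1 = p3 := q3.symm
  have e11 : d • p3 = p1 := (inv_smul_eq_iff.1 f11).symm
  obtain ⟨p4, q4⟩ : ∃ x, x = d • p1 := ⟨_, rfl⟩
  have f12 : d • p1 = p4 := q4.symm
  have e12 : d⁻¹ • p4 = p1 := inv_smul_eq_iff.2 f12.symm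
  have f13 : d • p4 = p3 := by
    have t := congrArg (· • p1) R5
    simp only [mul_smul, one_smul, f12] at t
    replace t := smul_left_cancel (d) (t.trans e11.symm)
    exact t
  have e13 : d⁻¹ • p3 = p4 := inv_smul_eq_iff.2 f13.symm
  obtain ⟨p5, q5⟩ : ∃ x, x = d⁻¹ • p2 := ⟨_, rfl⟩
  have f14 : d⁻¹ • p2 = p5 := q5.symm
  have e14 : d • p5 = p2 := (inv_smul_eq_iff.1 f14).symm
  have f15 : v • p5 = p3 := by
    have t := congrArg (· • p2) R6
    simp only [mul_smul, one_smul, f14] at t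
    replace t := smul_left_cancel (v⁻¹) (t.trans e7.symm)
    replace t := smul_left_cancel (d) (t.trans e11.symm)
    exact t
  have e15 : v⁻¹ • p3 = p5 := inv_smul_eq_iff.2 f15.symm
  have f16 : v⁻¹ • p5 = p3 := by
    have t := congrArg (· • p2) R7
    simp only [mul_smul, one_smul, f14] at t
    replace t := smul_left_cancel (v) (t.trans f8.symm)
    replace t := smul_left_cancel (d) (t.trans e11.symm)
    exact t
  have e16 : v • p3 = p5 := (inv_smul_eq_iff.1 f16).symm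
  have f17 : w⁻¹ • p5 = p4 := by
    have t := congrArg (· • p2) R8
    simp only [mul_smul, one_smul, f14] at t
    replace t := smul_left_cancel (w) (t.trans f9.symm)
    replace t := smul_left_cancel (d⁻¹) (t.trans e12.symm)
    exact t
  have e17 : w • p4 = p5 := (inv_smul_eq_iff.1 f17).symm
  have f18 : w • p5 = p4 := by
    have t := congrArg (· • p2) R9
    simp only [mul_smul, one_smul, f14] at t
    replace t := smul_left_cancel (w⁻¹) (t.trans e10.symm)
    replace t := smul_left_cancel (d⁻¹) (t.trans e12.symm)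
    exact t
  have e18 : w⁻¹ • p4 = p5 := inv_smul_eq_iff.2 f18.symm
  obtain ⟨p6, q6⟩ : ∃ x, x = d • p2 := ⟨_, rfl⟩
  have f19 : d • p2 = p6 := q6.symm
  have e19 : d⁻¹ • p6 = p2 := inv_smul_eq_iff.2 f19.symm
  have f20 : d • p6 = p5 := by
    have t := congrArg (· • p2) R5
    simp only [mul_smul, one_smul, f19] at t
    replace t := smul_left_cancel (d) (t.trans e14.symm)
    exact t
  have e20 : d⁻¹ • p5 = p6 := inv_smul_eq_iff.2 f20.symm
  have f21 : v⁻¹ • p6 = p4 := by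
    have t := congrArg (· • p2) R10
    simp only [mul_smul, one_smul, f19] at t
    replace t := smul_left_cancel (v) (t.trans f8.symm)
    replace t := smul_left_cancel (d⁻¹) (t.trans e12.symm)
    exact t
  have e21 : v • p4 = p6 := (inv_smul_eq_iff.1 f21).symm
  have f22 : v • p6 = p4 := by
    have t := congrArg (· • p2) R11
    simp only [mul_smul, one_smul, f19] at t
    replace t := smul_left_cancel (v⁻¹) (t.trans e7.symm)
    replace t := smul_left_cancel (d⁻¹) (t.trans e12.symm)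
    exact t
  have e22 : v⁻¹ • p4 = p6 := inv_smul_eq_iff.2 f22.symm
  have f23 : w⁻¹ • p6 = p3 := by
    have t := congrArg (· • p2) R12
    simp only [mul_smul, one_smul, f19] at t
    replace t := smul_left_cancel (w) (t.trans f9.symm)
    replace t := smul_left_cancel (d) (t.trans e11.symm)
    exact t
  have e23 : w • p3 = p6 := (inv_smul_eq_iff.1 f23).symm
  have f24 : w • p6 = p3 := by
    have t := congrArg (· • p2) R13
    simp only [mul_smul, one_smul, f19] at t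
    replace t := smul_left_cancel (w⁻¹) (t.trans e10.symm)
    replace t := smul_left_cancel (d) (t.trans e11.symm)
    exact t
  have e24 : w⁻¹ • p3 = p6 := inv_smul_eq_iff.2 f24.symm
  obtain ⟨p7, q7⟩ : ∃ x, x = k⁻¹ • p3 := ⟨_, rfl⟩
  have f25 : k⁻¹ • p3 = p7 := q7.symm
  have e25 : k • p7 = p3 := (inv_smul_eq_iff.1 f25).symm
  obtain ⟨p8, q8⟩ : ∃ x, x = k • p3 := ⟨_, rfl⟩
  have f26 : k • p3 = p8 := q8.symm
  have e26 : k⁻¹ • p8 = p3 := inv_smul_eq_iff.2 f26.symm
  have f27 : k • p8 = p7 := by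
    have t := congrArg (· • p3) R0
    simp only [mul_smul, one_smul, f26] at t
    replace t := smul_left_cancel (k) (t.trans e25.symm)
    exact t
  have e27 : k⁻¹ • p7 = p8 := inv_smul_eq_iff.2 f27.symm
  obtain ⟨p9, q9⟩ : ∃ x, x = k⁻¹ • p4 := ⟨_, rfl⟩
  have f28 : k⁻¹ • p4 = p9 := q9.symm
  have e28 : k • p9 = p4 := (inv_smul_eq_iff.1 f28).symm
  obtain ⟨p10, q10⟩ : ∃ x, x = k • p4 := ⟨_, rfl⟩
  have f29 : k • p4 = p10 := q10.symm
  have e29 : k⁻¹ • p10 = p4 := inv_smul_eq_iff.2 f29.symm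
  have f30 : k • p10 = p9 := by
    have t := congrArg (· • p4) R0
    simp only [mul_smul, one_smul, f29] at t
    replace t := smul_left_cancel (k) (t.trans e28.symm)
    exact t
  have e30 : k⁻¹ • p9 = p10 := inv_smul_eq_iff.2 f30.symm
  obtain ⟨p11, q11⟩ : ∃ x, x = k⁻¹ • p5 := ⟨_, rfl⟩
  have f31 : k⁻¹ • p5 = p11 := q11.symm
  have e31 : k • p11 = p5 := (inv_smul_eq_iff.1 f31).symm
  have f32 : v⁻¹ • p11 = p8 := by
    have t := congrArg (· • p5) R14
    simp only [mul_smul, one_smul, f31] at t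
    replace t := smul_left_cancel (v⁻¹) (t.trans e15.symm)
    replace t := smul_left_cancel (k⁻¹) (t.trans e26.symm)
    exact t
  have e32 : v • p8 = p11 := (inv_smul_eq_iff.1 f32).symm
  have f33 : v⁻¹ • p8 = p11 := by
    have t := congrArg (· • p11) R15
    simp only [mul_smul, one_smul, f32] at t
    exact t
  have e33 : v • p11 = p8 := (inv_smul_eq_iff.1 f33).symm
  have f34 : w⁻¹ • p11 = p8 := by
    have t := congrArg (· • p8) R4
    simp only [mul_smul, one_smul, f33] at t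
    replace t := smul_left_cancel (k) (t.trans f26.symm)
    replace t := smul_left_cancel (w) (t.trans f24.symm)
    replace t := smul_left_cancel (w) (t.trans e23.symm)
    replace t := smul_left_cancel (k⁻¹) (t.trans e26.symm)
    exact t
  have e34 : w • p8 = p11 := (inv_smul_eq_iff.1 f34).symm
  have f35 : w⁻¹ • p10 = p11 := by
    have t := congrArg (· • p8) R16
    simp only [mul_smul, one_smul, f33, f34, e26, e23, f22, f29] at t
    replace t := smul_left_cancel (w⁻¹) (t.trans f34.symm)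
    exact t
  have e35 : w • p11 = p10 := (inv_smul_eq_iff.1 f35).symm
  obtain ⟨p12, q12⟩ : ∃ x, x = k • p5 := ⟨_, rfl⟩
  have f36 : k • p5 = p12 := q12.symm
  have e36 : k⁻¹ • p12 = p5 := inv_smul_eq_iff.2 f36.symm
  have f37 : d • p12 = p12 := by
    have t := sh
    simp only [mul_smul, one_smul, f4, e10, f14, f36] at t
    replace t := smul_left_cancel (k) (t.trans e4.symm)
    replace t := smul_left_cancel (w) (t.trans f10.symm)
    replace t := smul_left_cancel (d) (t.trans e14.symm)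
    replace t := smul_left_cancel (k⁻¹) (t.trans e36.symm)
    exact t
  have e37 : d⁻¹ • p12 = p12 := inv_smul_eq_iff.2 f37.symm
  have f38 : k • p12 = p11 := by
    have t := congrArg (· • p5) R0
    simp only [mul_smul, one_smul, f36] at t
    replace t := smul_left_cancel (k) (t.trans e31.symm)
    exact t
  have e38 : k⁻¹ • p11 = p12 := inv_smul_eq_iff.2 f38.symm
  have f39 : v • p12 = p7 := by
    have t := congrArg (· • p5) R1
    simp only [mul_smul, one_smul, f36] at t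
    replace t := smul_left_cancel (v) (t.trans e16.symm)
    replace t := smul_left_cancel (k) (t.trans e25.symm)
    exact t
  have e39 : v⁻¹ • p7 = p12 := inv_smul_eq_iff.2 f39.symm
  have f40 : d⁻¹ • p7 = p7 := by
    have t := congrArg (· • p12) R11
    simp only [mul_smul, one_smul, f37, f39] at t
    replace t := smul_left_cancel (v⁻¹) (t.trans e39.symm)
    exact t
  have e40 : d • p7 = p7 := (inv_smul_eq_iff.1 f40).symm
  have f41 : v • p7 = p12 := by
    have t := congrArg (· • p12) R1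
    simp only [mul_smul, one_smul, f38, e33, f27] at t
    exact t
  have e41 : v⁻¹ • p12 = p7 := inv_smul_eq_iff.2 f41.symm
  have f42 : w • p9 = p12 := by
    have t := congrArg (· • p12) R3
    simp only [mul_smul, one_smul, f39, e25, e24, f23, e15, f17, f28] at t
    exact t
  have e42 : w⁻¹ • p12 = p9 := inv_smul_eq_iff.2 f42.symm
  have f43 : w • p12 = p7 := by
    have t := congrArg (· • p7) R17
    simp only [mul_smul, one_smul, f41, e36, f17, e18, f36] at t
    exact t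
  have e43 : w⁻¹ • p7 = p12 := inv_smul_eq_iff.2 f43.symm
  have f44 : d • p9 = p9 := by
    have t := congrArg (· • p9) R18
    simp only [mul_smul, one_smul, f42, f37, e42] at t
    exact t
  have e44 : d⁻¹ • p9 = p9 := inv_smul_eq_iff.2 f44.symm
  have t44_100 : p7 = p5 := by
    have t := congrArg (· • p9) R19
    simp only [mul_smul, one_smul, f42, f38, e33, e26, e24, e19, f6, f11, f25, e40] at t
    replace t := smul_left_cancel (d) (t.trans f44.symm)
    replace t := smul_left_cancel (k⁻¹) (t.trans f28.symm)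
    replace t := smul_left_cancel (d) (t.trans f12.symm)
    replace t := smul_left_cancel (k) (t.trans f6.symm)
    replace t := smul_left_cancel (d⁻¹) (t.trans e19.symm)
    replace t := smul_left_cancel (w⁻¹) (t.trans e24.symm)
    replace t := smul_left_cancel (k⁻¹) (t.trans e26.symm)
    replace t := smul_left_cancel (w⁻¹) (t.trans f34.symm)
    replace t := smul_left_cancel (w⁻¹) (t.trans f35.symm)
    replace t := smul_left_cancel (k) (t.trans f29.symm)
    replace t := smul_left_cancel (w) (t.trans f18.symm)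
    exact t
  obtain rfl : p5 = p7 := (t44_100).symm
  obtain rfl : p8 = p11 := ((e27.symm.trans f31))
  obtain rfl : p3 = p12 := ((e25.symm.trans f36))
  obtain rfl : p5 = p6 := ((e20.symm.trans f40)).symm
  obtain rfl : p2 = p5 := ((e14.symm.trans e40))
  obtain rfl : p3 = p4 := ((f17.symm.trans e43)).symm
  obtain rfl : p8 = p10 := ((e34.symm.trans e35))
  obtain rfl : p1 = p3 := ((e11.symm.trans f37))
  obtain rfl : p2 = p9 := ((e24.symm.trans e42))
  obtain rfl : p0 = p8 := ((e5.symm.trans e27))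
  have t44_111 : p0 = p1 := by
    have t := congrArg (· • p1) R20
    simpa only [mul_smul, one_smul, f9, f6, e7, e5, e1, e3, f5, f14, e5, f3, f1, f5, f10, f9, e5, e1, e3, f5, e14, e5, f3] using t
  obtain rfl : p0 = p1 := (t44_111)
  obtain rfl : p0 = p2 := ((e4.symm.trans f5))
  exact e4

theorem enum_minus_N {G : Type u1} [Group G] {Ω : Type u2} [MulAction G Ω] {w v d k : G}
    (rw : w * w * w * w = 1)
    (rv : v * v = 1)
    (rvw : v * w * v * w = 1)
    (rd : d * d * d = 1)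
    (rdv : d * v * d⁻¹ * v⁻¹ = 1)
    (rwd : w * d * w⁻¹ * d = 1)
    (rk : k * k * k = 1)
    (rk1 : k * w * w * k⁻¹ * w⁻¹ * v⁻¹ = 1)
    (rk2 : k * v * w * k⁻¹ * w⁻¹ * v⁻¹ * w⁻¹ * w⁻¹ = 1)
    (rvk : v * k * v * k = 1)
    (rhd : k * w * d * k⁻¹ * d * k * d⁻¹ * w⁻¹ * k⁻¹ * d * k * w * d * k⁻¹ * d⁻¹ * k * d⁻¹ * w⁻¹ * k⁻¹ * d⁻¹ = 1)
    (rh1 : k * w * d * k⁻¹ * d * k * d⁻¹ * w⁻¹ * k⁻¹ * w * w * k * w * d * k⁻¹ * d⁻¹ * k * d⁻¹ * w⁻¹ * k⁻¹ * v⁻¹ * w⁻¹ * w⁻¹ = 1)
    (rh2 : k * w * d * k⁻¹ * d * k * d⁻¹ * w⁻¹ * k⁻¹ * v * k * w * d * k⁻¹ * d⁻¹ * k * d⁻¹ * w⁻¹ * k⁻¹ * w⁻¹ * w⁻¹ = 1)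
    (p0 : Ω) (sw : w • p0 = p0) (sv : v • p0 = p0) (sd : d • p0 = p0)
    (sh : (k * w * d * k⁻¹ * d * k * d⁻¹ * w⁻¹ * k⁻¹) • p0 = p0) :
    ∃ l : List Ω, l.length = 15 ∧ p0 ∈ l ∧ (∀ x ∈ l, w • x ∈ l) ∧ (∀ x ∈ l, v • x ∈ l) ∧
      (∀ x ∈ l, k • x ∈ l) ∧ (∀ x ∈ l, (k * w * d * k⁻¹ * d * k * d⁻¹ * w⁻¹ * k⁻¹) • x ∈ l) := by
  have R0 : k⁻¹ * k⁻¹ * k⁻¹ = 1 := by
    rw [show k⁻¹ * k⁻¹ * k⁻¹ = (k * k * k)⁻¹ by simp only [mul_assoc, mul_inv_rev, inv_inv, inv_mul_cancel_left, mul_inv_cancel_left, inv_mul_cancel, mul_inv_cancel, mul_one, one_mul], rk]; group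
  have R1 : v⁻¹ * k⁻¹ * v⁻¹ * k⁻¹ = 1 := by
    rw [show v⁻¹ * k⁻¹ * v⁻¹ * k⁻¹ = (k⁻¹)⁻¹ * (v * k * v * k)⁻¹ * (k⁻¹) by simp only [mul_assoc, mul_inv_rev, inv_inv, inv_mul_cancel_left, mul_inv_cancel_left, inv_mul_cancel, mul_inv_cancel, mul_one, one_mul], rvk]; group
  have R2 : v * w * k⁻¹ * w⁻¹ * v⁻¹ * w⁻¹ * w⁻¹ * k = 1 := by
    rw [show v * w * k⁻¹ * w⁻¹ * v⁻¹ * w⁻¹ * w⁻¹ * k = (k)⁻¹ * (k * v * w * k⁻¹ * w⁻¹ * v⁻¹ * w⁻¹ * w⁻¹) * (k) by simp only [mul_assoc, mul_inv_rev, inv_inv, inv_mul_cancel_left, mul_inv_cancel_left, inv_mul_cancel, mul_inv_cancel, mul_one, one_mul], rk2]; group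
  have R3 : w⁻¹ * v⁻¹ * k * w * w * k⁻¹ = 1 := by
    rw [show w⁻¹ * v⁻¹ * k * w * w * k⁻¹ = (k * w * w * k⁻¹)⁻¹ * (k * w * w * k⁻¹ * w⁻¹ * v⁻¹) * (k * w * w * k⁻¹) by simp only [mul_assoc, mul_inv_rev, inv_inv, inv_mul_cancel_left, mul_inv_cancel_left, inv_mul_cancel, mul_inv_cancel, mul_one, one_mul], rk1]; group
  have R4 : w⁻¹ * v⁻¹ * w⁻¹ * w⁻¹ * k * v * w * k⁻¹ = 1 := by
    rw [show w⁻¹ * v⁻¹ * w⁻¹ * w⁻¹ * k * v * w * k⁻¹ = (k * v * w * k⁻¹)⁻¹ * (k * v * w * k⁻¹ * w⁻¹ * v⁻¹ * w⁻¹ * w⁻¹) * (k * v * w * k⁻¹) by simp only [mul_assoc, mul_inv_rev, inv_inv, inv_mul_cancel_left, mul_inv_cancel_left, inv_mul_cancel, mul_inv_cancel, mul_one, one_mul], rk2]; group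
  have R5 : d⁻¹ * d⁻¹ * d⁻¹ = 1 := by
    rw [show d⁻¹ * d⁻¹ * d⁻¹ = (d * d * d)⁻¹ by simp only [mul_assoc, mul_inv_rev, inv_inv, inv_mul_cancel_left, mul_inv_cancel_left, inv_mul_cancel, mul_inv_cancel, mul_one, one_mul], rd]; group
  have R6 : v * d⁻¹ * v⁻¹ * d = 1 := by
    rw [show v * d⁻¹ * v⁻¹ * d = (d)⁻¹ * (d * v * d⁻¹ * v⁻¹) * (d) by simp only [mul_assoc, mul_inv_rev, inv_inv, inv_mul_cancel_left, mul_inv_cancel_left, inv_mul_cancel, mul_inv_cancel, mul_one, one_mul], rdv]; group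
  have R7 : v⁻¹ * d⁻¹ * v * d = 1 := by
    rw [show v⁻¹ * d⁻¹ * v * d = (v * d)⁻¹ * (d * v * d⁻¹ * v⁻¹)⁻¹ * (v * d) by simp only [mul_assoc, mul_inv_rev, inv_inv, inv_mul_cancel_left, mul_inv_cancel_left, inv_mul_cancel, mul_inv_cancel, mul_one, one_mul], rdv]; group
  have R8 : w * d * w⁻¹ * d = 1 := rwd
  have R9 : w⁻¹ * d * w * d = 1 := by
    rw [show w⁻¹ * d * w * d = (w * d)⁻¹ * (w * d * w⁻¹ * d) * (w * d) by simp only [mul_assoc, mul_inv_rev, inv_inv, inv_mul_cancel_left, mul_inv_cancel_left, inv_mul_cancel, mul_inv_cancel, mul_one, one_mul], rwd]; group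
  have R10 : v⁻¹ * d * v * d⁻¹ = 1 := by
    rw [show v⁻¹ * d * v * d⁻¹ = (d * v * d⁻¹)⁻¹ * (d * v * d⁻¹ * v⁻¹) * (d * v * d⁻¹) by simp only [mul_assoc, mul_inv_rev, inv_inv, inv_mul_cancel_left, mul_inv_cancel_left, inv_mul_cancel, mul_inv_cancel, mul_one, one_mul], rdv]; group
  have R11 : v * d * v⁻¹ * d⁻¹ = 1 := by
    rw [show v * d * v⁻¹ * d⁻¹ = (d * v * d⁻¹ * v⁻¹)⁻¹ by simp only [mul_assoc, mul_inv_rev, inv_inv, inv_mul_cancel_left, mul_inv_cancel_left, inv_mul_cancel, mul_inv_cancel, mul_one, one_mul], rdv]; group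
  have R12 : w * d⁻¹ * w⁻¹ * d⁻¹ = 1 := by
    rw [show w * d⁻¹ * w⁻¹ * d⁻¹ = (d⁻¹)⁻¹ * (w * d * w⁻¹ * d)⁻¹ * (d⁻¹) by simp only [mul_assoc, mul_inv_rev, inv_inv, inv_mul_cancel_left, mul_inv_cancel_left, inv_mul_cancel, mul_inv_cancel, mul_one, one_mul], rwd]; group
  have R13 : w⁻¹ * d⁻¹ * w * d⁻¹ = 1 := by
    rw [show w⁻¹ * d⁻¹ * w * d⁻¹ = (d⁻¹ * w * d⁻¹)⁻¹ * (w * d * w⁻¹ * d)⁻¹ * (d⁻¹ * w * d⁻¹) by simp only [mul_assoc, mul_inv_rev, inv_inv, inv_mul_cancel_left, mul_inv_cancel_left, inv_mul_cancel, mul_inv_cancel, mul_one, one_mul], rwd]; group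
  have R14 : v * k * v * k = 1 := rvk
  have R15 : v * v = 1 := rv
  have R16 : w * k⁻¹ * w⁻¹ * v⁻¹ * w⁻¹ * w⁻¹ * k * v = 1 := by
    rw [show w * k⁻¹ * w⁻¹ * v⁻¹ * w⁻¹ * w⁻¹ * k * v = (k * v)⁻¹ * (k * v * w * k⁻¹ * w⁻¹ * v⁻¹ * w⁻¹ * w⁻¹) * (k * v) by simp only [mul_assoc, mul_inv_rev, inv_inv, inv_mul_cancel_left, mul_inv_cancel_left, inv_mul_cancel, mul_inv_cancel, mul_one, one_mul], rk2]; group
  have R17 : w * k * w⁻¹ * w⁻¹ * k⁻¹ * v = 1 := by
    rw [show w * k * w⁻¹ * w⁻¹ * k⁻¹ * v = (v)⁻¹ * (k * w * w * k⁻¹ * w⁻¹ * v⁻¹)⁻¹ * (v) by simp only [mul_assoc, mul_inv_rev, inv_inv, inv_mul_cancel_left, mul_inv_cancel_left, inv_mul_cancel, mul_inv_cancel, mul_one, one_mul], rk1]; group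
  have R18 : k * w * w * k⁻¹ * w⁻¹ * v⁻¹ = 1 := rk1
  have R19 : w⁻¹ * w⁻¹ * k * v * w * k⁻¹ * w⁻¹ * v⁻¹ = 1 := by
    rw [show w⁻¹ * w⁻¹ * k * v * w * k⁻¹ * w⁻¹ * v⁻¹ = (k * v * w * k⁻¹ * w⁻¹ * v⁻¹)⁻¹ * (k * v * w * k⁻¹ * w⁻¹ * v⁻¹ * w⁻¹ * w⁻¹) * (k * v * w * k⁻¹ * w⁻¹ * v⁻¹) by simp only [mul_assoc, mul_inv_rev, inv_inv, inv_mul_cancel_left, mul_inv_cancel_left, inv_mul_cancel, mul_inv_cancel, mul_one, one_mul], rk2]; group
  have R20 : d * w * d * w⁻¹ = 1 := by
    rw [show d * w * d * w⁻¹ = (w * d * w⁻¹)⁻¹ * (w * d * w⁻¹ * d) * (w * d * w⁻¹) by simp only [mul_assoc, mul_inv_rev, inv_inv, inv_mul_cancel_left, mul_inv_cancel_left, inv_mul_cancel, mul_inv_cancel, mul_one, one_mul], rwd]; group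
  have R21 : w * d * k⁻¹ * d⁻¹ * k * d⁻¹ * w⁻¹ * k⁻¹ * w * w * v * k * w * d * k⁻¹ * d * k * d⁻¹ * w⁻¹ * k⁻¹ * w⁻¹ * w⁻¹ * k = 1 := by
    rw [show w * d * k⁻¹ * d⁻¹ * k * d⁻¹ * w⁻¹ * k⁻¹ * w * w * v * k * w * d * k⁻¹ * d * k * d⁻¹ * w⁻¹ * k⁻¹ * w⁻¹ * w⁻¹ * k = (w * w * v * k * w * d * k⁻¹ * d * k * d⁻¹ * w⁻¹ * k⁻¹ * w⁻¹ * w⁻¹ * k)⁻¹ * (k * w * d * k⁻¹ * d * k * d⁻¹ * w⁻¹ * k⁻¹ * w * w * k * w * d * k⁻¹ * d⁻¹ * k * d⁻¹ * w⁻¹ * k⁻¹ * v⁻¹ * w⁻¹ * w⁻¹)⁻¹ * (w * w * v * k * w * d * k⁻¹ * d * k * d⁻¹ * w⁻¹ * k⁻¹ * w⁻¹ * w⁻¹ * k) by simp only [mul_assoc, mul_inv_rev, inv_inv, inv_mul_cancel_left, mul_inv_cancel_left, inv_mul_cancel, mul_inv_cancel, mul_one, one_mul], rh1]; group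
  have R22 : v * w * k * w⁻¹ * w⁻¹ * k⁻¹ = 1 := by
    rw [show v * w * k * w⁻¹ * w⁻¹ * k⁻¹ = (k * w * w * k⁻¹ * w⁻¹ * v⁻¹)⁻¹ by simp only [mul_assoc, mul_inv_rev, inv_inv, inv_mul_cancel_left, mul_inv_cancel_left, inv_mul_cancel, mul_inv_cancel, mul_one, one_mul], rk1]; group
  have R23 : w * w * v * w * k * w⁻¹ * v⁻¹ * k⁻¹ = 1 := by
    rw [show w * w * v * w * k * w⁻¹ * v⁻¹ * k⁻¹ = (k * v * w * k⁻¹ * w⁻¹ * v⁻¹ * w⁻¹ * w⁻¹)⁻¹ by simp only [mul_assoc, mul_inv_rev, inv_inv, inv_mul_cancel_left, mul_inv_cancel_left, inv_mul_cancel, mul_inv_cancel, mul_one, one_mul], rk2]; group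
  have R24 : d * k * d⁻¹ * w⁻¹ * k⁻¹ * v * k * w * d * k⁻¹ * d⁻¹ * k * d⁻¹ * w⁻¹ * k⁻¹ * w⁻¹ * w⁻¹ * k * w * d * k⁻¹ = 1 := by
    rw [show d * k * d⁻¹ * w⁻¹ * k⁻¹ * v * k * w * d * k⁻¹ * d⁻¹ * k * d⁻¹ * w⁻¹ * k⁻¹ * w⁻¹ * w⁻¹ * k * w * d * k⁻¹ = (k * w * d * k⁻¹)⁻¹ * (k * w * d * k⁻¹ * d * k * d⁻¹ * w⁻¹ * k⁻¹ * v * k * w * d * k⁻¹ * d⁻¹ * k * d⁻¹ * w⁻¹ * k⁻¹ * w⁻¹ * w⁻¹) * (k * w * d * k⁻¹) by simp only [mul_assoc, mul_inv_rev, inv_inv, inv_mul_cancel_left, mul_inv_cancel_left, inv_mul_cancel, mul_inv_cancel, mul_one, one_mul], rh2]; group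
  have R25 : k * d⁻¹ * w⁻¹ * k⁻¹ * w * w * k * w * d * k⁻¹ * d⁻¹ * k * d⁻¹ * w⁻¹ * k⁻¹ * v⁻¹ * w⁻¹ * w⁻¹ * k * w * d * k⁻¹ * d = 1 := by
    rw [show k * d⁻¹ * w⁻¹ * k⁻¹ * w * w * k * w * d * k⁻¹ * d⁻¹ * k * d⁻¹ * w⁻¹ * k⁻¹ * v⁻¹ * w⁻¹ * w⁻¹ * k * w * d * k⁻¹ * d = (k * w * d * k⁻¹ * d)⁻¹ * (k * w * d * k⁻¹ * d * k * d⁻¹ * w⁻¹ * k⁻¹ * w * w * k * w * d * k⁻¹ * d⁻¹ * k * d⁻¹ * w⁻¹ * k⁻¹ * v⁻¹ * w⁻¹ * w⁻¹) * (k * w * d * k⁻¹ * d) by simp only [mul_assoc, mul_inv_rev, inv_inv, inv_mul_cancel_left, mul_inv_cancel_left, inv_mul_cancel, mul_inv_cancel, mul_one, one_mul], rh1]; group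
  have R26 : k * d⁻¹ * w⁻¹ * k⁻¹ * w⁻¹ * w⁻¹ * k * w * d * k⁻¹ * d * k * d⁻¹ * w⁻¹ * k⁻¹ * v * k * w * d * k⁻¹ * d⁻¹ = 1 := by
    rw [show k * d⁻¹ * w⁻¹ * k⁻¹ * w⁻¹ * w⁻¹ * k * w * d * k⁻¹ * d * k * d⁻¹ * w⁻¹ * k⁻¹ * v * k * w * d * k⁻¹ * d⁻¹ = (k * w * d * k⁻¹ * d * k * d⁻¹ * w⁻¹ * k⁻¹ * v * k * w * d * k⁻¹ * d⁻¹)⁻¹ * (k * w * d * k⁻¹ * d * k * d⁻¹ * w⁻¹ * k⁻¹ * v * k * w * d * k⁻¹ * d⁻¹ * k * d⁻¹ * w⁻¹ * k⁻¹ * w⁻¹ * w⁻¹) * (k * w * d * k⁻¹ * d * k * d⁻¹ * w⁻¹ * k⁻¹ * v * k * w * d * k⁻¹ * d⁻¹) by simp only [mul_assoc, mul_inv_rev, inv_inv, inv_mul_cancel_left, mul_inv_cancel_left, inv_mul_cancel, mul_inv_cancel, mul_one, one_mul], rh2]; group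
  have R27 : w⁻¹ * k⁻¹ * d * k * w * d * k⁻¹ * d⁻¹ * k * d⁻¹ * w⁻¹ * k⁻¹ * d⁻¹ * k * w * d * k⁻¹ * d * k * d⁻¹ = 1 := by
    rw [show w⁻¹ * k⁻¹ * d * k * w * d * k⁻¹ * d⁻¹ * k * d⁻¹ * w⁻¹ * k⁻¹ * d⁻¹ * k * w * d * k⁻¹ * d * k * d⁻¹ = (k * w * d * k⁻¹ * d * k * d⁻¹)⁻¹ * (k * w * d * k⁻¹ * d * k * d⁻¹ * w⁻¹ * k⁻¹ * d * k * w * d * k⁻¹ * d⁻¹ * k * d⁻¹ * w⁻¹ * k⁻¹ * d⁻¹) * (k * w * d * k⁻¹ * d * k * d⁻¹) by simp only [mul_assoc, mul_inv_rev, inv_inv, inv_mul_cancel_left, mul_inv_cancel_left, inv_mul_cancel, mul_inv_cancel, mul_one, one_mul], rhd]; group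
  have R28 : k * w * d * k⁻¹ * d * k * d⁻¹ * w⁻¹ * k⁻¹ * d⁻¹ * k * w * d * k⁻¹ * d⁻¹ * k * d⁻¹ * w⁻¹ * k⁻¹ * d = 1 := by
    rw [show k * w * d * k⁻¹ * d * k * d⁻¹ * w⁻¹ * k⁻¹ * d⁻¹ * k * w * d * k⁻¹ * d⁻¹ * k * d⁻¹ * w⁻¹ * k⁻¹ * d = (d)⁻¹ * (k * w * d * k⁻¹ * d * k * d⁻¹ * w⁻¹ * k⁻¹ * d * k * w * d * k⁻¹ * d⁻¹ * k * d⁻¹ * w⁻¹ * k⁻¹ * d⁻¹)⁻¹ * (d) by simp only [mul_assoc, mul_inv_rev, inv_inv, inv_mul_cancel_left, mul_inv_cancel_left, inv_mul_cancel, mul_inv_cancel, mul_one, one_mul], rhd]; group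
  have R29 : k⁻¹ * d * k * w * d * k⁻¹ * d * k * d⁻¹ * w⁻¹ * k⁻¹ * d⁻¹ * k * w * d * k⁻¹ * d⁻¹ * k * d⁻¹ * w⁻¹ = 1 := by
    rw [show k⁻¹ * d * k * w * d * k⁻¹ * d * k * d⁻¹ * w⁻¹ * k⁻¹ * d⁻¹ * k * w * d * k⁻¹ * d⁻¹ * k * d⁻¹ * w⁻¹ = (d * k * w * d * k⁻¹ * d * k * d⁻¹ * w⁻¹ * k⁻¹ * d⁻¹ * k * w * d * k⁻¹ * d⁻¹ * k * d⁻¹ * w⁻¹)⁻¹ * (k * w * d * k⁻¹ * d * k * d⁻¹ * w⁻¹ * k⁻¹ * d * k * w * d * k⁻¹ * d⁻¹ * k * d⁻¹ * w⁻¹ * k⁻¹ * d⁻¹)⁻¹ * (d * k * w * d * k⁻¹ * d * k * d⁻¹ * w⁻¹ * k⁻¹ * d⁻¹ * k * w * d * k⁻¹ * d⁻¹ * k * d⁻¹ * w⁻¹) by simp only [mul_assoc, mul_inv_rev, inv_inv, inv_mul_cancel_left, mul_inv_cancel_left, inv_mul_cancel, mul_inv_cancel, mul_one, one_mul], rhd]; group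
  have R30 : w⁻¹ * k * w * d * k⁻¹ * d⁻¹ * k * d⁻¹ * w⁻¹ * k⁻¹ * w * w * v * k * w * d * k⁻¹ * d * k * d⁻¹ * w⁻¹ * k⁻¹ * w⁻¹ = 1 := by
    rw [show w⁻¹ * k * w * d * k⁻¹ * d⁻¹ * k * d⁻¹ * w⁻¹ * k⁻¹ * w * w * v * k * w * d * k⁻¹ * d * k * d⁻¹ * w⁻¹ * k⁻¹ * w⁻¹ = (w * w * v * k * w * d * k⁻¹ * d * k * d⁻¹ * w⁻¹ * k⁻¹ * w⁻¹)⁻¹ * (k * w * d * k⁻¹ * d * k * d⁻¹ * w⁻¹ * k⁻¹ * w * w * k * w * d * k⁻¹ * d⁻¹ * k * d⁻¹ * w⁻¹ * k⁻¹ * v⁻¹ * w⁻¹ * w⁻¹)⁻¹ * (w * w * v * k * w * d * k⁻¹ * d * k * d⁻¹ * w⁻¹ * k⁻¹ * w⁻¹) by simp only [mul_assoc, mul_inv_rev, inv_inv, inv_mul_cancel_left, mul_inv_cancel_left, inv_mul_cancel, mul_inv_cancel, mul_one, one_mul], rh1]; group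
  have R31 : k * w * d * k⁻¹ * d * k * d⁻¹ * w⁻¹ * k⁻¹ * d * k * w * d * k⁻¹ * d⁻¹ * k * d⁻¹ * w⁻¹ * k⁻¹ * d⁻¹ = 1 := rhd
  have f1 : w • p0 = p0 := sw
  have e1 : w⁻¹ • p0 = p0 := inv_smul_eq_iff.2 f1.symm
  have f2 : v • p0 = p0 := sv
  have e2 : v⁻¹ • p0 = p0 := inv_smul_eq_iff.2 f2.symm
  have f3 : d • p0 = p0 := sd
  have e3 : d⁻¹ • p0 = p0 := inv_smul_eq_iff.2 f3.symm
  obtain ⟨p1, q1⟩ : ∃ x, x = k • p0 := ⟨_, rfl⟩
  have f4 : k • p0 = p1 := q1.symm
  have e4 : k⁻¹ • p1 = p0 := inv_smul_eq_iff.2 f4.symm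
  obtain ⟨p2, q2⟩ : ∃ x, x = k⁻¹ • p0 := ⟨_, rfl⟩
  have f5 : k⁻¹ • p0 = p2 := q2.symm
  have e5 : k • p2 = p0 := (inv_smul_eq_iff.1 f5).symm
  have f6 : k⁻¹ • p2 = p1 := by
    have t := congrArg (· • p0) R0
    simp only [mul_smul, one_smul, f5] at t
    replace t := smul_left_cancel (k⁻¹) (t.trans e4.symm)
    exact t
  have e6 : k • p1 = p2 := (inv_smul_eq_iff.1 f6).symm
  have f7 : v⁻¹ • p2 = p1 := by
    have t := congrArg (· • p0) R1
    simp only [mul_smul, one_smul, f5] at t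
    replace t := smul_left_cancel (v⁻¹) (t.trans e2.symm)
    replace t := smul_left_cancel (k⁻¹) (t.trans e4.symm)
    exact t
  have e7 : v • p1 = p2 := (inv_smul_eq_iff.1 f7).symm
  have f8 : w • p2 = p1 := by
    have t := congrArg (· • p2) R2
    simp only [mul_smul, one_smul, e5, e1, e1, e2, e1, f5] at t
    replace t := smul_left_cancel (v) (t.trans e7.symm)
    exact t
  have e8 : w⁻¹ • p1 = p2 := inv_smul_eq_iff.2 f8.symm
  have f9 : w • p1 = p2 := by
    have t := congrArg (· • p2) R3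
    simp only [mul_smul, one_smul, f6] at t
    replace t := smul_left_cancel (w⁻¹) (t.trans e8.symm)
    replace t := smul_left_cancel (v⁻¹) (t.trans f7.symm)
    replace t := smul_left_cancel (k) (t.trans e6.symm)
    replace t := smul_left_cancel (w) (t.trans f8.symm)
    exact t
  have e9 : w⁻¹ • p2 = p1 := inv_smul_eq_iff.2 f9.symm
  have f10 : v • p2 = p1 := by
    have t := congrArg (· • p2) R4
    simp only [mul_smul, one_smul, f6, f9] at t
    replace t := smul_left_cancel (w⁻¹) (t.trans e8.symm)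
    replace t := smul_left_cancel (v⁻¹) (t.trans f7.symm)
    replace t := smul_left_cancel (w⁻¹) (t.trans e8.symm)
    replace t := smul_left_cancel (w⁻¹) (t.trans e9.symm)
    replace t := smul_left_cancel (k) (t.trans e6.symm)
    exact t
  have e10 : v⁻¹ • p1 = p2 := inv_smul_eq_iff.2 f10.symm
  obtain ⟨p3, q3⟩ : ∃ x, x = d • p1 := ⟨_, rfl⟩
  have f11 : d • p1 = p3 := q3.symm
  have e11 : d⁻¹ • p3 = p1 := inv_smul_eq_iff.2 f11.symm
  obtain ⟨p4, q4⟩ : ∃ x, x = d⁻¹ • p1 := ⟨_, rfl⟩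
  have f12 : d⁻¹ • p1 = p4 := q4.symm
  have e12 : d • p4 = p1 := (inv_smul_eq_iff.1 f12).symm
  have f13 : d⁻¹ • p4 = p3 := by
    have t := congrArg (· • p1) R5
    simp only [mul_smul, one_smul, f12] at t
    replace t := smul_left_cancel (d⁻¹) (t.trans e11.symm)
    exact t
  have e13 : d • p3 = p4 := (inv_smul_eq_iff.1 f13).symm
  obtain ⟨p5, q5⟩ : ∃ x, x = d • p2 := ⟨_, rfl⟩
  have f14 : d • p2 = p5 := q5.symm
  have e14 : d⁻¹ • p5 = p2 := inv_smul_eq_iff.2 f14.symm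
  have f15 : v⁻¹ • p5 = p3 := by
    have t := congrArg (· • p2) R6
    simp only [mul_smul, one_smul, f14] at t
    replace t := smul_left_cancel (v) (t.trans e7.symm)
    replace t := smul_left_cancel (d⁻¹) (t.trans e11.symm)
    exact t
  have e15 : v • p3 = p5 := (inv_smul_eq_iff.1 f15).symm
  have f16 : v • p5 = p3 := by
    have t := congrArg (· • p2) R7
    simp only [mul_smul, one_smul, f14] at t
    replace t := smul_left_cancel (v⁻¹) (t.trans e10.symm)
    replace t := smul_left_cancel (d⁻¹) (t.trans e11.symm)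
    exact t
  have e16 : v⁻¹ • p3 = p5 := inv_smul_eq_iff.2 f16.symm
  have f17 : w⁻¹ • p5 = p4 := by
    have t := congrArg (· • p2) R8
    simp only [mul_smul, one_smul, f14] at t
    replace t := smul_left_cancel (w) (t.trans f9.symm)
    replace t := smul_left_cancel (d) (t.trans e12.symm)
    exact t
  have e17 : w • p4 = p5 := (inv_smul_eq_iff.1 f17).symm
  have f18 : w • p5 = p4 := by
    have t := congrArg (· • p2) R9
    simp only [mul_smul, one_smul, f14] at t
    replace t := smul_left_cancel (w⁻¹) (t.trans e8.symm)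
    replace t := smul_left_cancel (d) (t.trans e12.symm)
    exact t
  have e18 : w⁻¹ • p4 = p5 := inv_smul_eq_iff.2 f18.symm
  obtain ⟨p6, q6⟩ : ∃ x, x = d⁻¹ • p2 := ⟨_, rfl⟩
  have f19 : d⁻¹ • p2 = p6 := q6.symm
  have e19 : d • p6 = p2 := (inv_smul_eq_iff.1 f19).symm
  have f20 : d⁻¹ • p6 = p5 := by
    have t := congrArg (· • p2) R5
    simp only [mul_smul, one_smul, f19] at t
    replace t := smul_left_cancel (d⁻¹) (t.trans e14.symm)
    exact t
  have e20 : d • p5 = p6 := (inv_smul_eq_iff.1 f20).symm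
  have f21 : v • p6 = p4 := by
    have t := congrArg (· • p2) R10
    simp only [mul_smul, one_smul, f19] at t
    replace t := smul_left_cancel (v⁻¹) (t.trans e10.symm)
    replace t := smul_left_cancel (d) (t.trans e12.symm)
    exact t
  have e21 : v⁻¹ • p4 = p6 := inv_smul_eq_iff.2 f21.symm
  have f22 : v⁻¹ • p6 = p4 := by
    have t := congrArg (· • p2) R11
    simp only [mul_smul, one_smul, f19] at t
    replace t := smul_left_cancel (v) (t.trans e7.symm)
    replace t := smul_left_cancel (d) (t.trans e12.symm)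
    exact t
  have e22 : v • p4 = p6 := (inv_smul_eq_iff.1 f22).symm
  have f23 : w⁻¹ • p6 = p3 := by
    have t := congrArg (· • p2) R12
    simp only [mul_smul, one_smul, f19] at t
    replace t := smul_left_cancel (w) (t.trans f9.symm)
    replace t := smul_left_cancel (d⁻¹) (t.trans e11.symm)
    exact t
  have e23 : w • p3 = p6 := (inv_smul_eq_iff.1 f23).symm
  have f24 : w • p6 = p3 := by
    have t := congrArg (· • p2) R13
    simp only [mul_smul, one_smul, f19] at t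
    replace t := smul_left_cancel (w⁻¹) (t.trans e8.symm)
    replace t := smul_left_cancel (d⁻¹) (t.trans e11.symm)
    exact t
  have e24 : w⁻¹ • p3 = p6 := inv_smul_eq_iff.2 f24.symm
  obtain ⟨p7, q7⟩ : ∃ x, x = k • p3 := ⟨_, rfl⟩
  have f25 : k • p3 = p7 := q7.symm
  have e25 : k⁻¹ • p7 = p3 := inv_smul_eq_iff.2 f25.symm
  obtain ⟨p8, q8⟩ : ∃ x, x = k⁻¹ • p3 := ⟨_, rfl⟩
  have f26 : k⁻¹ • p3 = p8 := q8.symm
  have e26 : k • p8 = p3 := (inv_smul_eq_iff.1 f26).symm
  have f27 : k⁻¹ • p8 = p7 := by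
    have t := congrArg (· • p3) R0
    simp only [mul_smul, one_smul, f26] at t
    replace t := smul_left_cancel (k⁻¹) (t.trans e25.symm)
    exact t
  have e27 : k • p7 = p8 := (inv_smul_eq_iff.1 f27).symm
  obtain ⟨p9, q9⟩ : ∃ x, x = k • p4 := ⟨_, rfl⟩
  have f28 : k • p4 = p9 := q9.symm
  have e28 : k⁻¹ • p9 = p4 := inv_smul_eq_iff.2 f28.symm
  have f29 : d • p9 = p9 := by
    have t := sh
    simp only [mul_smul, one_smul, f5, e9, f12, f28] at t
    replace t := smul_left_cancel (k) (t.trans e5.symm)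
    replace t := smul_left_cancel (w) (t.trans f9.symm)
    replace t := smul_left_cancel (d) (t.trans e12.symm)
    replace t := smul_left_cancel (k⁻¹) (t.trans e28.symm)
    exact t
  have e29 : d⁻¹ • p9 = p9 := inv_smul_eq_iff.2 f29.symm
  obtain ⟨p10, q10⟩ : ∃ x, x = k⁻¹ • p4 := ⟨_, rfl⟩
  have f30 : k⁻¹ • p4 = p10 := q10.symm
  have e30 : k • p10 = p4 := (inv_smul_eq_iff.1 f30).symm
  have f31 : k⁻¹ • p10 = p9 := by
    have t := congrArg (· • p4) R0
    simp only [mul_smul, one_smul, f30] at t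
    replace t := smul_left_cancel (k⁻¹) (t.trans e28.symm)
    exact t
  have e31 : k • p9 = p10 := (inv_smul_eq_iff.1 f31).symm
  obtain ⟨p11, q11⟩ : ∃ x, x = k • p5 := ⟨_, rfl⟩
  have f32 : k • p5 = p11 := q11.symm
  have e32 : k⁻¹ • p11 = p5 := inv_smul_eq_iff.2 f32.symm
  have f33 : v • p11 = p8 := by
    have t := congrArg (· • p5) R14
    simp only [mul_smul, one_smul, f32] at t
    replace t := smul_left_cancel (v) (t.trans e15.symm)
    replace t := smul_left_cancel (k) (t.trans e26.symm)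
    exact t
  have e33 : v⁻¹ • p8 = p11 := inv_smul_eq_iff.2 f33.symm
  have f34 : v • p8 = p11 := by
    have t := congrArg (· • p11) R15
    simp only [mul_smul, one_smul, f33] at t
    exact t
  have e34 : v⁻¹ • p11 = p8 := inv_smul_eq_iff.2 f34.symm
  have f35 : w • p10 = p11 := by
    have t := congrArg (· • p11) R16
    simp only [mul_smul, one_smul, f33, e26, e24, f23, e16, f17, f30] at t
    exact t
  have e35 : w⁻¹ • p11 = p10 := inv_smul_eq_iff.2 f35.symm
  have f36 : w • p11 = p8 := by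
    have t := congrArg (· • p8) R17
    simp only [mul_smul, one_smul, f34, e32, f17, e18, f32] at t
    exact t
  have e36 : w⁻¹ • p8 = p11 := inv_smul_eq_iff.2 f36.symm
  obtain ⟨p12, q12⟩ : ∃ x, x = k⁻¹ • p5 := ⟨_, rfl⟩
  have f37 : k⁻¹ • p5 = p12 := q12.symm
  have e37 : k • p12 = p5 := (inv_smul_eq_iff.1 f37).symm
  have f38 : k⁻¹ • p12 = p11 := by
    have t := congrArg (· • p5) R0
    simp only [mul_smul, one_smul, f37] at t
    replace t := smul_left_cancel (k⁻¹) (t.trans e32.symm)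
    exact t
  have e38 : k • p11 = p12 := (inv_smul_eq_iff.1 f38).symm
  have f39 : v⁻¹ • p12 = p7 := by
    have t := congrArg (· • p5) R1
    simp only [mul_smul, one_smul, f37] at t
    replace t := smul_left_cancel (v⁻¹) (t.trans e16.symm)
    replace t := smul_left_cancel (k⁻¹) (t.trans e25.symm)
    exact t
  have e39 : v • p7 = p12 := (inv_smul_eq_iff.1 f39).symm
  have f40 : v⁻¹ • p7 = p12 := by
    have t := congrArg (· • p12) R1
    simp only [mul_smul, one_smul, f38, e34, f27] at t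
    exact t
  have e40 : v • p12 = p7 := (inv_smul_eq_iff.1 f40).symm
  have f41 : w⁻¹ • p12 = p7 := by
    have t := congrArg (· • p7) R18
    simp only [mul_smul, one_smul, f40] at t
    replace t := smul_left_cancel (k) (t.trans f25.symm)
    replace t := smul_left_cancel (w) (t.trans f24.symm)
    replace t := smul_left_cancel (w) (t.trans e23.symm)
    replace t := smul_left_cancel (k⁻¹) (t.trans e25.symm)
    exact t
  have e41 : w • p7 = p12 := (inv_smul_eq_iff.1 f41).symm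
  have f42 : w⁻¹ • p9 = p12 := by
    have t := congrArg (· • p7) R19
    simp only [mul_smul, one_smul, f40, f41, e25, e23, f21, f28] at t
    replace t := smul_left_cancel (w⁻¹) (t.trans f41.symm)
    exact t
  have e42 : w • p12 = p9 := (inv_smul_eq_iff.1 f42).symm
  have f43 : d • p12 = p12 := by
    have t := congrArg (· • p9) R20
    simp only [mul_smul, one_smul, f42] at t
    replace t := smul_left_cancel (d) (t.trans f29.symm)
    replace t := smul_left_cancel (w) (t.trans e42.symm)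
    exact t
  have e43 : d⁻¹ • p12 = p12 := inv_smul_eq_iff.2 f43.symm
  have f44 : d⁻¹ • p7 = p7 := by
    have t := congrArg (· • p12) R6
    simp only [mul_smul, one_smul, f43, f39] at t
    replace t := smul_left_cancel (v) (t.trans e39.symm)
    exact t
  have e44 : d • p7 = p7 := (inv_smul_eq_iff.1 f44).symm
  obtain ⟨p13, q13⟩ : ∃ x, x = k • p6 := ⟨_, rfl⟩
  have f45 : k • p6 = p13 := q13.symm
  have e45 : k⁻¹ • p13 = p6 := inv_smul_eq_iff.2 f45.symm
  have f46 : w⁻¹ • p13 = p8 := by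
    have t := congrArg (· • p6) R2
    simp only [mul_smul, one_smul, f45] at t
    replace t := smul_left_cancel (v) (t.trans e22.symm)
    replace t := smul_left_cancel (w) (t.trans f18.symm)
    replace t := smul_left_cancel (k⁻¹) (t.trans e32.symm)
    replace t := smul_left_cancel (w⁻¹) (t.trans e36.symm)
    replace t := smul_left_cancel (v⁻¹) (t.trans e34.symm)
    replace t := smul_left_cancel (w⁻¹) (t.trans e36.symm)
    exact t
  have e46 : w • p8 = p13 := (inv_smul_eq_iff.1 f46).symm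
  have f47 : v • p13 = p10 := by
    have t := congrArg (· • p6) R14
    simp only [mul_smul, one_smul, f45] at t
    replace t := smul_left_cancel (v) (t.trans e22.symm)
    replace t := smul_left_cancel (k) (t.trans e30.symm)
    exact t
  have e47 : v⁻¹ • p10 = p13 := inv_smul_eq_iff.2 f47.symm
  have f48 : w • p13 = p10 := by
    have t := congrArg (· • p6) R21
    simp only [mul_smul, one_smul, f45, f46, e36, e32, f17, f13, f25, e44, e25, e13, e17, f32, f33, e46] at t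
    replace t := smul_left_cancel (w) (t.trans e23.symm)
    replace t := smul_left_cancel (d) (t.trans f11.symm)
    replace t := smul_left_cancel (k⁻¹) (t.trans f6.symm)
    replace t := smul_left_cancel (d⁻¹) (t.trans e14.symm)
    replace t := smul_left_cancel (k) (t.trans e37.symm)
    replace t := smul_left_cancel (d⁻¹) (t.trans e43.symm)
    replace t := smul_left_cancel (w⁻¹) (t.trans f42.symm)
    replace t := smul_left_cancel (k⁻¹) (t.trans f31.symm)
    exact t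
  have e48 : w⁻¹ • p10 = p13 := inv_smul_eq_iff.2 f48.symm
  have f49 : v⁻¹ • p13 = p10 := by
    have t := congrArg (· • p13) R3
    simp only [mul_smul, one_smul, e45, f24, e23, f45] at t
    replace t := smul_left_cancel (w⁻¹) (t.trans e48.symm)
    exact t
  have e49 : v • p10 = p13 := (inv_smul_eq_iff.1 f49).symm
  obtain ⟨p14, q14⟩ : ∃ x, x = k⁻¹ • p6 := ⟨_, rfl⟩
  have f50 : k⁻¹ • p6 = p14 := q14.symm
  have e50 : k • p14 = p6 := (inv_smul_eq_iff.1 f50).symm
  have f51 : k⁻¹ • p14 = p13 := by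
    have t := congrArg (· • p6) R0
    simp only [mul_smul, one_smul, f50] at t
    replace t := smul_left_cancel (k⁻¹) (t.trans e45.symm)
    exact t
  have e51 : k • p13 = p14 := (inv_smul_eq_iff.1 f51).symm
  have f52 : w • p14 = p7 := by
    have t := congrArg (· • p6) R3
    simp only [mul_smul, one_smul, f50] at t
    replace t := smul_left_cancel (w⁻¹) (t.trans e24.symm)
    replace t := smul_left_cancel (v⁻¹) (t.trans f15.symm)
    replace t := smul_left_cancel (k) (t.trans e37.symm)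
    replace t := smul_left_cancel (w) (t.trans e41.symm)
    exact t
  have e52 : w⁻¹ • p7 = p14 := inv_smul_eq_iff.2 f52.symm
  have f53 : w⁻¹ • p14 = p9 := by
    have t := congrArg (· • p6) R22
    simp only [mul_smul, one_smul, f50] at t
    replace t := smul_left_cancel (v) (t.trans e22.symm)
    replace t := smul_left_cancel (w) (t.trans f18.symm)
    replace t := smul_left_cancel (k) (t.trans e37.symm)
    replace t := smul_left_cancel (w⁻¹) (t.trans f42.symm)
    exact t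
  have e53 : w • p9 = p14 := (inv_smul_eq_iff.1 f53).symm
  have f54 : v⁻¹ • p14 = p9 := by
    have t := congrArg (· • p6) R23
    simp only [mul_smul, one_smul, f50] at t
    replace t := smul_left_cancel (w) (t.trans e23.symm)
    replace t := smul_left_cancel (w) (t.trans f24.symm)
    replace t := smul_left_cancel (v) (t.trans e22.symm)
    replace t := smul_left_cancel (w) (t.trans f18.symm)
    replace t := smul_left_cancel (k) (t.trans e37.symm)
    replace t := smul_left_cancel (w⁻¹) (t.trans f42.symm)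
    exact t
  have e54 : v • p9 = p14 := (inv_smul_eq_iff.1 f54).symm
  have f55 : d • p14 = p14 := by
    have t := congrArg (· • p6) R24
    simp only [mul_smul, one_smul, f50] at t
    replace t := smul_left_cancel (d) (t.trans e20.symm)
    replace t := smul_left_cancel (k) (t.trans e37.symm)
    replace t := smul_left_cancel (d⁻¹) (t.trans e43.symm)
    replace t := smul_left_cancel (w⁻¹) (t.trans f42.symm)
    replace t := smul_left_cancel (k⁻¹) (t.trans f31.symm)
    replace t := smul_left_cancel (v) (t.trans f47.symm)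
    replace t := smul_left_cancel (k) (t.trans f45.symm)
    replace t := smul_left_cancel (w) (t.trans e23.symm)
    replace t := smul_left_cancel (d) (t.trans f11.symm)
    replace t := smul_left_cancel (k⁻¹) (t.trans f6.symm)
    replace t := smul_left_cancel (d⁻¹) (t.trans e14.symm)
    replace t := smul_left_cancel (k) (t.trans e37.symm)
    replace t := smul_left_cancel (d⁻¹) (t.trans e43.symm)
    replace t := smul_left_cancel (w⁻¹) (t.trans f42.symm)
    replace t := smul_left_cancel (k⁻¹) (t.trans f31.symm)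
    replace t := smul_left_cancel (w⁻¹) (t.trans e35.symm)
    replace t := smul_left_cancel (w⁻¹) (t.trans e36.symm)
    replace t := smul_left_cancel (k) (t.trans e27.symm)
    replace t := smul_left_cancel (w) (t.trans f52.symm)
    exact t
  have e55 : d⁻¹ • p14 = p14 := inv_smul_eq_iff.2 f55.symm
  have f56 : v⁻¹ • p9 = p14 := by
    have t := congrArg (· • p14) R1
    simp only [mul_smul, one_smul, f51, f49, f31] at t
    exact t
  have e56 : v • p14 = p9 := (inv_smul_eq_iff.1 f56).symm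
  obtain ⟨p15, q15⟩ : ∃ x, x = d • p8 := ⟨_, rfl⟩
  have f57 : d • p8 = p15 := q15.symm
  have e57 : d⁻¹ • p15 = p8 := inv_smul_eq_iff.2 f57.symm
  obtain ⟨p16, q16⟩ : ∃ x, x = d⁻¹ • p8 := ⟨_, rfl⟩
  have f58 : d⁻¹ • p8 = p16 := q16.symm
  have e58 : d • p16 = p8 := (inv_smul_eq_iff.1 f58).symm
  have f59 : d⁻¹ • p16 = p15 := by
    have t := congrArg (· • p8) R5
    simp only [mul_smul, one_smul, f58] at t
    replace t := smul_left_cancel (d⁻¹) (t.trans e57.symm)
    exact t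
  have e59 : d • p15 = p16 := (inv_smul_eq_iff.1 f59).symm
  obtain ⟨p17, q17⟩ : ∃ x, x = d • p10 := ⟨_, rfl⟩
  have f60 : d • p10 = p17 := q17.symm
  have e60 : d⁻¹ • p17 = p10 := inv_smul_eq_iff.2 f60.symm
  obtain ⟨p18, q18⟩ : ∃ x, x = d⁻¹ • p10 := ⟨_, rfl⟩
  have f61 : d⁻¹ • p10 = p18 := q18.symm
  have e61 : d • p18 = p10 := (inv_smul_eq_iff.1 f61).symm
  have f62 : d⁻¹ • p18 = p17 := by
    have t := congrArg (· • p10) R5
    simp only [mul_smul, one_smul, f61] at t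
    replace t := smul_left_cancel (d⁻¹) (t.trans e60.symm)
    exact t
  have e62 : d • p17 = p18 := (inv_smul_eq_iff.1 f62).symm
  obtain ⟨p19, q19⟩ : ∃ x, x = d • p11 := ⟨_, rfl⟩
  have f63 : d • p11 = p19 := q19.symm
  have e63 : d⁻¹ • p19 = p11 := inv_smul_eq_iff.2 f63.symm
  have f64 : v⁻¹ • p19 = p15 := by
    have t := congrArg (· • p11) R6
    simp only [mul_smul, one_smul, f63] at t
    replace t := smul_left_cancel (v) (t.trans f34.symm)
    replace t := smul_left_cancel (d⁻¹) (t.trans e57.symm)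
    exact t
  have e64 : v • p15 = p19 := (inv_smul_eq_iff.1 f64).symm
  have f65 : v • p19 = p15 := by
    have t := congrArg (· • p11) R7
    simp only [mul_smul, one_smul, f63] at t
    replace t := smul_left_cancel (v⁻¹) (t.trans e33.symm)
    replace t := smul_left_cancel (d⁻¹) (t.trans e57.symm)
    exact t
  have e65 : v⁻¹ • p15 = p19 := inv_smul_eq_iff.2 f65.symm
  have f66 : w⁻¹ • p19 = p18 := by
    have t := congrArg (· • p11) R8
    simp only [mul_smul, one_smul, f63] at t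
    replace t := smul_left_cancel (w) (t.trans f35.symm)
    replace t := smul_left_cancel (d) (t.trans e61.symm)
    exact t
  have e66 : w • p18 = p19 := (inv_smul_eq_iff.1 f66).symm
  have f67 : w • p19 = p16 := by
    have t := congrArg (· • p11) R9
    simp only [mul_smul, one_smul, f63] at t
    replace t := smul_left_cancel (w⁻¹) (t.trans e36.symm)
    replace t := smul_left_cancel (d) (t.trans e58.symm)
    exact t
  have e67 : w⁻¹ • p16 = p19 := inv_smul_eq_iff.2 f67.symm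
  have f68 : k⁻¹ • p19 = p18 := by
    have t := congrArg (· • p11) R25
    simp only [mul_smul, one_smul, f63] at t
    replace t := smul_left_cancel (k) (t.trans f32.symm)
    replace t := smul_left_cancel (d⁻¹) (t.trans f20.symm)
    replace t := smul_left_cancel (w⁻¹) (t.trans e24.symm)
    replace t := smul_left_cancel (k⁻¹) (t.trans e25.symm)
    replace t := smul_left_cancel (w) (t.trans f52.symm)
    replace t := smul_left_cancel (w) (t.trans e53.symm)
    replace t := smul_left_cancel (k) (t.trans f28.symm)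
    replace t := smul_left_cancel (w) (t.trans f18.symm)
    replace t := smul_left_cancel (d) (t.trans f14.symm)
    replace t := smul_left_cancel (k⁻¹) (t.trans f5.symm)
    replace t := smul_left_cancel (d⁻¹) (t.trans e3.symm)
    replace t := smul_left_cancel (k) (t.trans e5.symm)
    replace t := smul_left_cancel (d⁻¹) (t.trans e14.symm)
    replace t := smul_left_cancel (w⁻¹) (t.trans e18.symm)
    replace t := smul_left_cancel (k⁻¹) (t.trans e28.symm)
    replace t := smul_left_cancel (v⁻¹) (t.trans f54.symm)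
    replace t := smul_left_cancel (w⁻¹) (t.trans e52.symm)
    replace t := smul_left_cancel (w⁻¹) (t.trans f41.symm)
    replace t := smul_left_cancel (k) (t.trans e38.symm)
    replace t := smul_left_cancel (w) (t.trans f35.symm)
    replace t := smul_left_cancel (d) (t.trans e61.symm)
    exact t
  have e68 : k • p18 = p19 := (inv_smul_eq_iff.1 f68).symm
  obtain ⟨p20, q20⟩ : ∃ x, x = d⁻¹ • p11 := ⟨_, rfl⟩
  have f69 : d⁻¹ • p11 = p20 := q20.symm
  have e69 : d • p20 = p11 := (inv_smul_eq_iff.1 f69).symm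
  have f70 : d⁻¹ • p20 = p19 := by
    have t := congrArg (· • p11) R5
    simp only [mul_smul, one_smul, f69] at t
    replace t := smul_left_cancel (d⁻¹) (t.trans e63.symm)
    exact t
  have e70 : d • p19 = p20 := (inv_smul_eq_iff.1 f70).symm
  have f71 : v • p20 = p16 := by
    have t := congrArg (· • p11) R10
    simp only [mul_smul, one_smul, f69] at t
    replace t := smul_left_cancel (v⁻¹) (t.trans e33.symm)
    replace t := smul_left_cancel (d) (t.trans e58.symm)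
    exact t
  have e71 : v⁻¹ • p16 = p20 := inv_smul_eq_iff.2 f71.symm
  have f72 : v⁻¹ • p20 = p16 := by
    have t := congrArg (· • p11) R11
    simp only [mul_smul, one_smul, f69] at t
    replace t := smul_left_cancel (v) (t.trans f34.symm)
    replace t := smul_left_cancel (d) (t.trans e58.symm)
    exact t
  have e72 : v • p16 = p20 := (inv_smul_eq_iff.1 f72).symm
  have f73 : w⁻¹ • p20 = p17 := by
    have t := congrArg (· • p11) R12
    simp only [mul_smul, one_smul, f69] at t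
    replace t := smul_left_cancel (w) (t.trans f35.symm)
    replace t := smul_left_cancel (d⁻¹) (t.trans e60.symm)
    exact t
  have e73 : w • p17 = p20 := (inv_smul_eq_iff.1 f73).symm
  have f74 : w • p20 = p15 := by
    have t := congrArg (· • p11) R13
    simp only [mul_smul, one_smul, f69] at t
    replace t := smul_left_cancel (w⁻¹) (t.trans e36.symm)
    replace t := smul_left_cancel (d⁻¹) (t.trans e57.symm)
    exact t
  have e74 : w⁻¹ • p15 = p20 := inv_smul_eq_iff.2 f74.symm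
  have f75 : k⁻¹ • p20 = p16 := by
    have t := congrArg (· • p11) R26
    simp only [mul_smul, one_smul, f69] at t
    replace t := smul_left_cancel (k) (t.trans f32.symm)
    replace t := smul_left_cancel (d⁻¹) (t.trans f20.symm)
    replace t := smul_left_cancel (w⁻¹) (t.trans e24.symm)
    replace t := smul_left_cancel (k⁻¹) (t.trans e25.symm)
    replace t := smul_left_cancel (w⁻¹) (t.trans f41.symm)
    replace t := smul_left_cancel (w⁻¹) (t.trans f42.symm)
    replace t := smul_left_cancel (k) (t.trans f28.symm)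
    replace t := smul_left_cancel (w) (t.trans f18.symm)
    replace t := smul_left_cancel (d) (t.trans f14.symm)
    replace t := smul_left_cancel (k⁻¹) (t.trans f5.symm)
    replace t := smul_left_cancel (d) (t.trans f3.symm)
    replace t := smul_left_cancel (k) (t.trans e5.symm)
    replace t := smul_left_cancel (d⁻¹) (t.trans e14.symm)
    replace t := smul_left_cancel (w⁻¹) (t.trans e18.symm)
    replace t := smul_left_cancel (k⁻¹) (t.trans e28.symm)
    replace t := smul_left_cancel (v) (t.trans e56.symm)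
    replace t := smul_left_cancel (k) (t.trans e51.symm)
    replace t := smul_left_cancel (w) (t.trans e46.symm)
    replace t := smul_left_cancel (d) (t.trans e58.symm)
    exact t
  have e75 : k • p16 = p20 := (inv_smul_eq_iff.1 f75).symm
  obtain ⟨p21, q21⟩ : ∃ x, x = d • p13 := ⟨_, rfl⟩
  have f76 : d • p13 = p21 := q21.symm
  have e76 : d⁻¹ • p21 = p13 := inv_smul_eq_iff.2 f76.symm
  have f77 : v⁻¹ • p21 = p17 := by
    have t := congrArg (· • p13) R6
    simp only [mul_smul, one_smul, f76] at t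
    replace t := smul_left_cancel (v) (t.trans e49.symm)
    replace t := smul_left_cancel (d⁻¹) (t.trans e60.symm)
    exact t
  have e77 : v • p17 = p21 := (inv_smul_eq_iff.1 f77).symm
  have f78 : v • p21 = p17 := by
    have t := congrArg (· • p13) R7
    simp only [mul_smul, one_smul, f76] at t
    replace t := smul_left_cancel (v⁻¹) (t.trans e47.symm)
    replace t := smul_left_cancel (d⁻¹) (t.trans e60.symm)
    exact t
  have e78 : v⁻¹ • p17 = p21 := inv_smul_eq_iff.2 f78.symm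
  have f79 : w⁻¹ • p21 = p16 := by
    have t := congrArg (· • p13) R8
    simp only [mul_smul, one_smul, f76] at t
    replace t := smul_left_cancel (w) (t.trans e46.symm)
    replace t := smul_left_cancel (d) (t.trans e58.symm)
    exact t
  have e79 : w • p16 = p21 := (inv_smul_eq_iff.1 f79).symm
  have f80 : w • p21 = p18 := by
    have t := congrArg (· • p13) R9
    simp only [mul_smul, one_smul, f76] at t
    replace t := smul_left_cancel (w⁻¹) (t.trans e48.symm)
    replace t := smul_left_cancel (d) (t.trans e61.symm)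
    exact t
  have e80 : w⁻¹ • p18 = p21 := inv_smul_eq_iff.2 f80.symm
  have f81 : k • p17 = p21 := by
    have t := congrArg (· • p21) R16
    simp only [mul_smul, one_smul, f78] at t
    replace t := smul_left_cancel (w) (t.trans e79.symm)
    replace t := smul_left_cancel (k⁻¹) (t.trans f75.symm)
    replace t := smul_left_cancel (w⁻¹) (t.trans e74.symm)
    replace t := smul_left_cancel (v⁻¹) (t.trans f64.symm)
    replace t := smul_left_cancel (w⁻¹) (t.trans e67.symm)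
    replace t := smul_left_cancel (w⁻¹) (t.trans f79.symm)
    exact t
  have e81 : k⁻¹ • p21 = p17 := inv_smul_eq_iff.2 f81.symm
  obtain ⟨p22, q22⟩ : ∃ x, x = d⁻¹ • p13 := ⟨_, rfl⟩
  have f82 : d⁻¹ • p13 = p22 := q22.symm
  have e82 : d • p22 = p13 := (inv_smul_eq_iff.1 f82).symm
  have f83 : d⁻¹ • p22 = p21 := by
    have t := congrArg (· • p13) R5
    simp only [mul_smul, one_smul, f82] at t
    replace t := smul_left_cancel (d⁻¹) (t.trans e76.symm)
    exact t
  have e83 : d • p21 = p22 := (inv_smul_eq_iff.1 f83).symm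
  have f84 : v • p22 = p18 := by
    have t := congrArg (· • p13) R10
    simp only [mul_smul, one_smul, f82] at t
    replace t := smul_left_cancel (v⁻¹) (t.trans e47.symm)
    replace t := smul_left_cancel (d) (t.trans e61.symm)
    exact t
  have e84 : v⁻¹ • p18 = p22 := inv_smul_eq_iff.2 f84.symm
  have f85 : v⁻¹ • p22 = p18 := by
    have t := congrArg (· • p13) R11
    simp only [mul_smul, one_smul, f82] at t
    replace t := smul_left_cancel (v) (t.trans e49.symm)
    replace t := smul_left_cancel (d) (t.trans e61.symm)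
    exact t
  have e85 : v • p18 = p22 := (inv_smul_eq_iff.1 f85).symm
  have f86 : w⁻¹ • p22 = p15 := by
    have t := congrArg (· • p13) R12
    simp only [mul_smul, one_smul, f82] at t
    replace t := smul_left_cancel (w) (t.trans e46.symm)
    replace t := smul_left_cancel (d⁻¹) (t.trans e57.symm)
    exact t
  have e86 : w • p15 = p22 := (inv_smul_eq_iff.1 f86).symm
  have f87 : w • p22 = p17 := by
    have t := congrArg (· • p13) R13
    simp only [mul_smul, one_smul, f82] at t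
    replace t := smul_left_cancel (w⁻¹) (t.trans e48.symm)
    replace t := smul_left_cancel (d⁻¹) (t.trans e60.symm)
    exact t
  have e87 : w⁻¹ • p17 = p22 := inv_smul_eq_iff.2 f87.symm
  have f88 : k⁻¹ • p22 = p15 := by
    have t := congrArg (· • p22) R16
    simp only [mul_smul, one_smul, f84, e68, f66, e80, f77, e87] at t
    replace t := smul_left_cancel (w) (t.trans e86.symm)
    exact t
  have e88 : k • p15 = p22 := (inv_smul_eq_iff.1 f88).symm
  obtain ⟨p23, q23⟩ : ∃ x, x = k⁻¹ • p15 := ⟨_, rfl⟩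
  have f89 : k⁻¹ • p15 = p23 := q23.symm
  have e89 : k • p23 = p15 := (inv_smul_eq_iff.1 f89).symm
  have f90 : k⁻¹ • p23 = p22 := by
    have t := congrArg (· • p15) R0
    simp only [mul_smul, one_smul, f89] at t
    replace t := smul_left_cancel (k⁻¹) (t.trans f88.symm)
    exact t
  have e90 : k • p22 = p23 := (inv_smul_eq_iff.1 f90).symm
  obtain ⟨p24, q24⟩ : ∃ x, x = k⁻¹ • p16 := ⟨_, rfl⟩
  have f91 : k⁻¹ • p16 = p24 := q24.symm
  have e91 : k • p24 = p16 := (inv_smul_eq_iff.1 f91).symm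
  have f92 : k⁻¹ • p24 = p20 := by
    have t := congrArg (· • p16) R0
    simp only [mul_smul, one_smul, f91] at t
    replace t := smul_left_cancel (k⁻¹) (t.trans f75.symm)
    exact t
  have e92 : k • p20 = p24 := (inv_smul_eq_iff.1 f92).symm
  have f93 : v⁻¹ • p24 = p24 := by
    have t := congrArg (· • p16) R1
    simp only [mul_smul, one_smul, f91] at t
    replace t := smul_left_cancel (v⁻¹) (t.trans f72.symm)
    replace t := smul_left_cancel (k⁻¹) (t.trans f92.symm)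
    exact t
  have e93 : v • p24 = p24 := (inv_smul_eq_iff.1 f93).symm
  have f94 : w • p23 = p24 := by
    have t := congrArg (· • p24) R2
    simp only [mul_smul, one_smul, e91, e67, f66, e84, f86, f89] at t
    replace t := smul_left_cancel (v) (t.trans e93.symm)
    exact t
  have e94 : w⁻¹ • p24 = p23 := inv_smul_eq_iff.2 f94.symm
  obtain ⟨p25, q25⟩ : ∃ x, x = k⁻¹ • p17 := ⟨_, rfl⟩
  have f95 : k⁻¹ • p17 = p25 := q25.symm
  have e95 : k • p25 = p17 := (inv_smul_eq_iff.1 f95).symm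
  have f96 : k⁻¹ • p25 = p21 := by
    have t := congrArg (· • p17) R0
    simp only [mul_smul, one_smul, f95] at t
    replace t := smul_left_cancel (k⁻¹) (t.trans e81.symm)
    exact t
  have e96 : k • p21 = p25 := (inv_smul_eq_iff.1 f96).symm
  have f97 : w • p25 = p23 := by
    have t := congrArg (· • p17) R3
    simp only [mul_smul, one_smul, f95] at t
    replace t := smul_left_cancel (w⁻¹) (t.trans f73.symm)
    replace t := smul_left_cancel (v⁻¹) (t.trans e71.symm)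
    replace t := smul_left_cancel (k) (t.trans e91.symm)
    replace t := smul_left_cancel (w) (t.trans f94.symm)
    exact t
  have e97 : w⁻¹ • p23 = p25 := inv_smul_eq_iff.2 f97.symm
  have f98 : v⁻¹ • p25 = p25 := by
    have t := congrArg (· • p17) R1
    simp only [mul_smul, one_smul, f95] at t
    replace t := smul_left_cancel (v⁻¹) (t.trans f77.symm)
    replace t := smul_left_cancel (k⁻¹) (t.trans f96.symm)
    exact t
  have e98 : v • p25 = p25 := (inv_smul_eq_iff.1 f98).symm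
  obtain ⟨p26, q26⟩ : ∃ x, x = k⁻¹ • p18 := ⟨_, rfl⟩
  have f99 : k⁻¹ • p18 = p26 := q26.symm
  have e99 : k • p26 = p18 := (inv_smul_eq_iff.1 f99).symm
  have f100 : k⁻¹ • p26 = p19 := by
    have t := congrArg (· • p18) R0
    simp only [mul_smul, one_smul, f99] at t
    replace t := smul_left_cancel (k⁻¹) (t.trans f68.symm)
    exact t
  have e100 : k • p19 = p26 := (inv_smul_eq_iff.1 f100).symm
  have f101 : w • p26 = p25 := by
    have t := congrArg (· • p18) R3
    simp only [mul_smul, one_smul, f99] at t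
    replace t := smul_left_cancel (w⁻¹) (t.trans f66.symm)
    replace t := smul_left_cancel (v⁻¹) (t.trans e65.symm)
    replace t := smul_left_cancel (k) (t.trans e89.symm)
    replace t := smul_left_cancel (w) (t.trans f97.symm)
    exact t
  have e101 : w⁻¹ • p25 = p26 := inv_smul_eq_iff.2 f101.symm
  have f102 : w⁻¹ • p26 = p24 := by
    have t := congrArg (· • p18) R22
    simp only [mul_smul, one_smul, f99] at t
    replace t := smul_left_cancel (v) (t.trans f84.symm)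
    replace t := smul_left_cancel (w) (t.trans e86.symm)
    replace t := smul_left_cancel (k) (t.trans e89.symm)
    replace t := smul_left_cancel (w⁻¹) (t.trans e94.symm)
    exact t
  have e102 : w • p24 = p26 := (inv_smul_eq_iff.1 f102).symm
  have f103 : v⁻¹ • p26 = p23 := by
    have t := congrArg (· • p18) R23
    simp only [mul_smul, one_smul, f99] at t
    replace t := smul_left_cancel (w) (t.trans f80.symm)
    replace t := smul_left_cancel (w) (t.trans e79.symm)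
    replace t := smul_left_cancel (v) (t.trans f71.symm)
    replace t := smul_left_cancel (w) (t.trans e73.symm)
    replace t := smul_left_cancel (k) (t.trans e95.symm)
    replace t := smul_left_cancel (w⁻¹) (t.trans e97.symm)
    exact t
  have e103 : v • p23 = p26 := (inv_smul_eq_iff.1 f103).symm
  have f104 : v • p26 = p23 := by
    have t := congrArg (· • p26) R23
    simp only [mul_smul, one_smul, f100, f64, e74, e92, e102] at t
    replace t := smul_left_cancel (w) (t.trans e102.symm)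
    replace t := smul_left_cancel (w) (t.trans f94.symm)
    exact t
  have e104 : v⁻¹ • p23 = p26 := inv_smul_eq_iff.2 f104.symm
  obtain ⟨p27, q27⟩ : ∃ x, x = d • p23 := ⟨_, rfl⟩
  have f105 : d • p23 = p27 := q27.symm
  have e105 : d⁻¹ • p27 = p23 := inv_smul_eq_iff.2 f105.symm
  obtain ⟨p28, q28⟩ : ∃ x, x = d⁻¹ • p23 := ⟨_, rfl⟩
  have f106 : d⁻¹ • p23 = p28 := q28.symm
  have e106 : d • p28 = p23 := (inv_smul_eq_iff.1 f106).symm
  have f107 : d⁻¹ • p28 = p27 := by
    have t := congrArg (· • p23) R5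
    simp only [mul_smul, one_smul, f106] at t
    replace t := smul_left_cancel (d⁻¹) (t.trans e105.symm)
    exact t
  have e107 : d • p27 = p28 := (inv_smul_eq_iff.1 f107).symm
  obtain ⟨p29, q29⟩ : ∃ x, x = d • p24 := ⟨_, rfl⟩
  have f108 : d • p24 = p29 := q29.symm
  have e108 : d⁻¹ • p29 = p24 := inv_smul_eq_iff.2 f108.symm
  have f109 : v⁻¹ • p29 = p29 := by
    have t := congrArg (· • p24) R6
    simp only [mul_smul, one_smul, f108] at t
    replace t := smul_left_cancel (v) (t.trans e93.symm)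
    replace t := smul_left_cancel (d⁻¹) (t.trans e108.symm)
    exact t
  have e109 : v • p29 = p29 := (inv_smul_eq_iff.1 f109).symm
  have f110 : w⁻¹ • p29 = p28 := by
    have t := congrArg (· • p24) R8
    simp only [mul_smul, one_smul, f108] at t
    replace t := smul_left_cancel (w) (t.trans f94.symm)
    replace t := smul_left_cancel (d) (t.trans e106.symm)
    exact t
  have e110 : w • p28 = p29 := (inv_smul_eq_iff.1 f110).symm
  obtain ⟨p30, q30⟩ : ∃ x, x = d⁻¹ • p24 := ⟨_, rfl⟩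
  have f111 : d⁻¹ • p24 = p30 := q30.symm
  have e111 : d • p30 = p24 := (inv_smul_eq_iff.1 f111).symm
  have f112 : d⁻¹ • p30 = p29 := by
    have t := congrArg (· • p24) R5
    simp only [mul_smul, one_smul, f111] at t
    replace t := smul_left_cancel (d⁻¹) (t.trans e108.symm)
    exact t
  have e112 : d • p29 = p30 := (inv_smul_eq_iff.1 f112).symm
  have f113 : v • p30 = p30 := by
    have t := congrArg (· • p24) R10
    simp only [mul_smul, one_smul, f111] at t
    replace t := smul_left_cancel (v⁻¹) (t.trans f93.symm)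
    replace t := smul_left_cancel (d) (t.trans e111.symm)
    exact t
  have e113 : v⁻¹ • p30 = p30 := inv_smul_eq_iff.2 f113.symm
  have f114 : w⁻¹ • p30 = p27 := by
    have t := congrArg (· • p24) R12
    simp only [mul_smul, one_smul, f111] at t
    replace t := smul_left_cancel (w) (t.trans f94.symm)
    replace t := smul_left_cancel (d⁻¹) (t.trans e105.symm)
    exact t
  have e114 : w • p27 = p30 := (inv_smul_eq_iff.1 f114).symm
  obtain ⟨p31, q31⟩ : ∃ x, x = d • p25 := ⟨_, rfl⟩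
  have f115 : d • p25 = p31 := q31.symm
  have e115 : d⁻¹ • p31 = p25 := inv_smul_eq_iff.2 f115.symm
  have f116 : v⁻¹ • p31 = p31 := by
    have t := congrArg (· • p25) R6
    simp only [mul_smul, one_smul, f115] at t
    replace t := smul_left_cancel (v) (t.trans e98.symm)
    replace t := smul_left_cancel (d⁻¹) (t.trans e115.symm)
    exact t
  have e116 : v • p31 = p31 := (inv_smul_eq_iff.1 f116).symm
  have f117 : w • p31 = p28 := by
    have t := congrArg (· • p25) R9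
    simp only [mul_smul, one_smul, f115] at t
    replace t := smul_left_cancel (w⁻¹) (t.trans e97.symm)
    replace t := smul_left_cancel (d) (t.trans e106.symm)
    exact t
  have e117 : w⁻¹ • p28 = p31 := inv_smul_eq_iff.2 f117.symm
  obtain ⟨p32, q32⟩ : ∃ x, x = d⁻¹ • p25 := ⟨_, rfl⟩
  have f118 : d⁻¹ • p25 = p32 := q32.symm
  have e118 : d • p32 = p25 := (inv_smul_eq_iff.1 f118).symm
  have f119 : d⁻¹ • p32 = p31 := by
    have t := congrArg (· • p25) R5
    simp only [mul_smul, one_smul, f118] at t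
    replace t := smul_left_cancel (d⁻¹) (t.trans e115.symm)
    exact t
  have e119 : d • p31 = p32 := (inv_smul_eq_iff.1 f119).symm
  have f120 : v • p32 = p32 := by
    have t := congrArg (· • p25) R10
    simp only [mul_smul, one_smul, f118] at t
    replace t := smul_left_cancel (v⁻¹) (t.trans f98.symm)
    replace t := smul_left_cancel (d) (t.trans e118.symm)
    exact t
  have e120 : v⁻¹ • p32 = p32 := inv_smul_eq_iff.2 f120.symm
  have f121 : w • p32 = p27 := by
    have t := congrArg (· • p25) R13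
    simp only [mul_smul, one_smul, f118] at t
    replace t := smul_left_cancel (w⁻¹) (t.trans e97.symm)
    replace t := smul_left_cancel (d⁻¹) (t.trans e105.symm)
    exact t
  have e121 : w⁻¹ • p27 = p32 := inv_smul_eq_iff.2 f121.symm
  have f122 : k • p32 = p32 := by
    have t := congrArg (· • p25) R27
    simp only [mul_smul, one_smul, f118] at t
    replace t := smul_left_cancel (w⁻¹) (t.trans e97.symm)
    replace t := smul_left_cancel (k⁻¹) (t.trans f89.symm)
    replace t := smul_left_cancel (d) (t.trans f57.symm)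
    replace t := smul_left_cancel (k) (t.trans e27.symm)
    replace t := smul_left_cancel (w) (t.trans f52.symm)
    replace t := smul_left_cancel (d) (t.trans f55.symm)
    replace t := smul_left_cancel (k⁻¹) (t.trans f50.symm)
    replace t := smul_left_cancel (d⁻¹) (t.trans f19.symm)
    replace t := smul_left_cancel (k) (t.trans e6.symm)
    replace t := smul_left_cancel (d⁻¹) (t.trans e11.symm)
    replace t := smul_left_cancel (w⁻¹) (t.trans f23.symm)
    replace t := smul_left_cancel (k⁻¹) (t.trans e45.symm)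
    replace t := smul_left_cancel (d⁻¹) (t.trans e76.symm)
    replace t := smul_left_cancel (k) (t.trans f81.symm)
    replace t := smul_left_cancel (w) (t.trans f87.symm)
    replace t := smul_left_cancel (d) (t.trans e83.symm)
    replace t := smul_left_cancel (k⁻¹) (t.trans f96.symm)
    replace t := smul_left_cancel (d) (t.trans e118.symm)
    exact t
  have e122 : k⁻¹ • p32 = p32 := inv_smul_eq_iff.2 f122.symm
  obtain ⟨p33, q33⟩ : ∃ x, x = d • p26 := ⟨_, rfl⟩
  have f123 : d • p26 = p33 := q33.symm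
  have e123 : d⁻¹ • p33 = p26 := inv_smul_eq_iff.2 f123.symm
  have f124 : v⁻¹ • p33 = p27 := by
    have t := congrArg (· • p26) R6
    simp only [mul_smul, one_smul, f123] at t
    replace t := smul_left_cancel (v) (t.trans e103.symm)
    replace t := smul_left_cancel (d⁻¹) (t.trans e105.symm)
    exact t
  have e124 : v • p27 = p33 := (inv_smul_eq_iff.1 f124).symm
  have f125 : v • p33 = p27 := by
    have t := congrArg (· • p26) R7
    simp only [mul_smul, one_smul, f123] at t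
    replace t := smul_left_cancel (v⁻¹) (t.trans e104.symm)
    replace t := smul_left_cancel (d⁻¹) (t.trans e105.symm)
    exact t
  have e125 : v⁻¹ • p27 = p33 := inv_smul_eq_iff.2 f125.symm
  have f126 : w⁻¹ • p33 = p30 := by
    have t := congrArg (· • p26) R8
    simp only [mul_smul, one_smul, f123] at t
    replace t := smul_left_cancel (w) (t.trans e102.symm)
    replace t := smul_left_cancel (d) (t.trans e111.symm)
    exact t
  have e126 : w • p30 = p33 := (inv_smul_eq_iff.1 f126).symm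
  have f127 : w • p33 = p32 := by
    have t := congrArg (· • p26) R9
    simp only [mul_smul, one_smul, f123] at t
    replace t := smul_left_cancel (w⁻¹) (t.trans e101.symm)
    replace t := smul_left_cancel (d) (t.trans e118.symm)
    exact t
  have e127 : w⁻¹ • p32 = p33 := inv_smul_eq_iff.2 f127.symm
  have f128 : k⁻¹ • p33 = p30 := by
    have t := congrArg (· • p26) R28
    simp only [mul_smul, one_smul, f123] at t
    replace t := smul_left_cancel (k) (t.trans e100.symm)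
    replace t := smul_left_cancel (w) (t.trans e66.symm)
    replace t := smul_left_cancel (d) (t.trans e62.symm)
    replace t := smul_left_cancel (k⁻¹) (t.trans e81.symm)
    replace t := smul_left_cancel (d) (t.trans f76.symm)
    replace t := smul_left_cancel (k) (t.trans f45.symm)
    replace t := smul_left_cancel (d⁻¹) (t.trans f19.symm)
    replace t := smul_left_cancel (w⁻¹) (t.trans e8.symm)
    replace t := smul_left_cancel (k⁻¹) (t.trans f6.symm)
    replace t := smul_left_cancel (d⁻¹) (t.trans e14.symm)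
    replace t := smul_left_cancel (k) (t.trans e37.symm)
    replace t := smul_left_cancel (w) (t.trans e41.symm)
    replace t := smul_left_cancel (d) (t.trans e44.symm)
    replace t := smul_left_cancel (k⁻¹) (t.trans f27.symm)
    replace t := smul_left_cancel (d⁻¹) (t.trans e57.symm)
    replace t := smul_left_cancel (k) (t.trans e89.symm)
    replace t := smul_left_cancel (d⁻¹) (t.trans e105.symm)
    replace t := smul_left_cancel (w⁻¹) (t.trans f114.symm)
    exact t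
  have e128 : k • p30 = p33 := (inv_smul_eq_iff.1 f128).symm
  have f129 : k • p33 = p27 := by
    have t := congrArg (· • p33) R19
    simp only [mul_smul, one_smul, f124, e121, e122, f121, e124] at t
    replace t := smul_left_cancel (w⁻¹) (t.trans e127.symm)
    replace t := smul_left_cancel (w⁻¹) (t.trans e121.symm)
    exact t
  have e129 : k⁻¹ • p27 = p33 := inv_smul_eq_iff.2 f129.symm
  have f130 : k • p27 = p30 := by
    have t := congrArg (· • p33) R17
    simp only [mul_smul, one_smul, f125, e129, f126, f114] at t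
    replace t := smul_left_cancel (w) (t.trans e126.symm)
    exact t
  have e130 : k⁻¹ • p30 = p27 := inv_smul_eq_iff.2 f130.symm
  have f131 : k • p29 = p29 := by
    have t := congrArg (· • p33) R29
    simp only [mul_smul, one_smul, f126, f112] at t
    replace t := smul_left_cancel (k⁻¹) (t.trans e129.symm)
    replace t := smul_left_cancel (d) (t.trans f105.symm)
    replace t := smul_left_cancel (k) (t.trans e90.symm)
    replace t := smul_left_cancel (w) (t.trans e86.symm)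
    replace t := smul_left_cancel (d) (t.trans f57.symm)
    replace t := smul_left_cancel (k⁻¹) (t.trans f26.symm)
    replace t := smul_left_cancel (d) (t.trans f11.symm)
    replace t := smul_left_cancel (k) (t.trans f4.symm)
    replace t := smul_left_cancel (d⁻¹) (t.trans e3.symm)
    replace t := smul_left_cancel (w⁻¹) (t.trans e1.symm)
    replace t := smul_left_cancel (k⁻¹) (t.trans e4.symm)
    replace t := smul_left_cancel (d⁻¹) (t.trans e11.symm)
    replace t := smul_left_cancel (k) (t.trans e26.symm)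
    replace t := smul_left_cancel (w) (t.trans f36.symm)
    replace t := smul_left_cancel (d) (t.trans e69.symm)
    replace t := smul_left_cancel (k⁻¹) (t.trans f92.symm)
    replace t := smul_left_cancel (d⁻¹) (t.trans e108.symm)
    exact t
  have e131 : k⁻¹ • p29 = p29 := inv_smul_eq_iff.2 f131.symm
  have f132 : k • p31 = p28 := by
    have t := congrArg (· • p33) R30
    simp only [mul_smul, one_smul, f126, e130, e121, f119] at t
    replace t := smul_left_cancel (w⁻¹) (t.trans e127.symm)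
    replace t := smul_left_cancel (k) (t.trans f122.symm)
    replace t := smul_left_cancel (w) (t.trans f127.symm)
    replace t := smul_left_cancel (d) (t.trans f123.symm)
    replace t := smul_left_cancel (k⁻¹) (t.trans f99.symm)
    replace t := smul_left_cancel (d⁻¹) (t.trans f61.symm)
    replace t := smul_left_cancel (k) (t.trans e31.symm)
    replace t := smul_left_cancel (d⁻¹) (t.trans e29.symm)
    replace t := smul_left_cancel (w⁻¹) (t.trans f53.symm)
    replace t := smul_left_cancel (k⁻¹) (t.trans f50.symm)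
    replace t := smul_left_cancel (w) (t.trans e23.symm)
    replace t := smul_left_cancel (w) (t.trans f24.symm)
    replace t := smul_left_cancel (v) (t.trans e22.symm)
    replace t := smul_left_cancel (k) (t.trans e30.symm)
    replace t := smul_left_cancel (w) (t.trans f48.symm)
    replace t := smul_left_cancel (d) (t.trans e82.symm)
    replace t := smul_left_cancel (k⁻¹) (t.trans f90.symm)
    replace t := smul_left_cancel (d) (t.trans e106.symm)
    exact t
  have e132 : k⁻¹ • p28 = p31 := inv_smul_eq_iff.2 f132.symm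
  obtain ⟨p34, q34⟩ : ∃ x, x = d⁻¹ • p26 := ⟨_, rfl⟩
  have f133 : d⁻¹ • p26 = p34 := q34.symm
  have e133 : d • p34 = p26 := (inv_smul_eq_iff.1 f133).symm
  have f134 : d⁻¹ • p34 = p33 := by
    have t := congrArg (· • p26) R5
    simp only [mul_smul, one_smul, f133] at t
    replace t := smul_left_cancel (d⁻¹) (t.trans e123.symm)
    exact t
  have e134 : d • p33 = p34 := (inv_smul_eq_iff.1 f134).symm
  have f135 : v • p34 = p28 := by
    have t := congrArg (· • p26) R10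
    simp only [mul_smul, one_smul, f133] at t
    replace t := smul_left_cancel (v⁻¹) (t.trans e104.symm)
    replace t := smul_left_cancel (d) (t.trans e106.symm)
    exact t
  have e135 : v⁻¹ • p28 = p34 := inv_smul_eq_iff.2 f135.symm
  have f136 : v⁻¹ • p34 = p28 := by
    have t := congrArg (· • p26) R11
    simp only [mul_smul, one_smul, f133] at t
    replace t := smul_left_cancel (v) (t.trans e103.symm)
    replace t := smul_left_cancel (d) (t.trans e106.symm)
    exact t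
  have e136 : v • p28 = p34 := (inv_smul_eq_iff.1 f136).symm
  have f137 : w⁻¹ • p34 = p29 := by
    have t := congrArg (· • p26) R12
    simp only [mul_smul, one_smul, f133] at t
    replace t := smul_left_cancel (w) (t.trans e102.symm)
    replace t := smul_left_cancel (d⁻¹) (t.trans e108.symm)
    exact t
  have e137 : w • p29 = p34 := (inv_smul_eq_iff.1 f137).symm
  have f138 : w • p34 = p31 := by
    have t := congrArg (· • p26) R13
    simp only [mul_smul, one_smul, f133] at t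
    replace t := smul_left_cancel (w⁻¹) (t.trans e101.symm)
    replace t := smul_left_cancel (d⁻¹) (t.trans e115.symm)
    exact t
  have e138 : w⁻¹ • p31 = p34 := inv_smul_eq_iff.2 f138.symm
  have f139 : k⁻¹ • p34 = p28 := by
    have t := congrArg (· • p26) R31
    simp only [mul_smul, one_smul, f133] at t
    replace t := smul_left_cancel (k) (t.trans e100.symm)
    replace t := smul_left_cancel (w) (t.trans e66.symm)
    replace t := smul_left_cancel (d) (t.trans e62.symm)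
    replace t := smul_left_cancel (k⁻¹) (t.trans e81.symm)
    replace t := smul_left_cancel (d) (t.trans f76.symm)
    replace t := smul_left_cancel (k) (t.trans f45.symm)
    replace t := smul_left_cancel (d⁻¹) (t.trans f19.symm)
    replace t := smul_left_cancel (w⁻¹) (t.trans e8.symm)
    replace t := smul_left_cancel (k⁻¹) (t.trans f6.symm)
    replace t := smul_left_cancel (d) (t.trans e19.symm)
    replace t := smul_left_cancel (k) (t.trans e50.symm)
    replace t := smul_left_cancel (w) (t.trans e53.symm)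
    replace t := smul_left_cancel (d) (t.trans f29.symm)
    replace t := smul_left_cancel (k⁻¹) (t.trans f31.symm)
    replace t := smul_left_cancel (d⁻¹) (t.trans e60.symm)
    replace t := smul_left_cancel (k) (t.trans e95.symm)
    replace t := smul_left_cancel (d⁻¹) (t.trans e115.symm)
    replace t := smul_left_cancel (w⁻¹) (t.trans e117.symm)
    exact t
  have e139 : k • p28 = p34 := (inv_smul_eq_iff.1 f139).symm
  have f140 : k • p34 = p31 := by
    have t := congrArg (· • p26) R27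
    simp only [mul_smul, one_smul, f133] at t
    replace t := smul_left_cancel (w⁻¹) (t.trans e101.symm)
    replace t := smul_left_cancel (k⁻¹) (t.trans f95.symm)
    replace t := smul_left_cancel (d) (t.trans f60.symm)
    replace t := smul_left_cancel (k) (t.trans e31.symm)
    replace t := smul_left_cancel (w) (t.trans e42.symm)
    replace t := smul_left_cancel (d) (t.trans f43.symm)
    replace t := smul_left_cancel (k⁻¹) (t.trans f37.symm)
    replace t := smul_left_cancel (d⁻¹) (t.trans f20.symm)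
    replace t := smul_left_cancel (k) (t.trans e50.symm)
    replace t := smul_left_cancel (d⁻¹) (t.trans e55.symm)
    replace t := smul_left_cancel (w⁻¹) (t.trans e52.symm)
    replace t := smul_left_cancel (k⁻¹) (t.trans f27.symm)
    replace t := smul_left_cancel (d⁻¹) (t.trans e57.symm)
    replace t := smul_left_cancel (k) (t.trans e89.symm)
    replace t := smul_left_cancel (w) (t.trans f97.symm)
    replace t := smul_left_cancel (d) (t.trans e118.symm)
    replace t := smul_left_cancel (k⁻¹) (t.trans e122.symm)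
    replace t := smul_left_cancel (d) (t.trans e119.symm)
    exact t
  have e140 : k⁻¹ • p31 = p34 := inv_smul_eq_iff.2 f140.symm
  have h0 : (k * w * d * k⁻¹ * d * k * d⁻¹ * w⁻¹ * k⁻¹) • p0 = p0 := by
    simp only [mul_smul, f5, e9, f12, f28, f29, e28, e12, f9, e5]
  have h1 : (k * w * d * k⁻¹ * d * k * d⁻¹ * w⁻¹ * k⁻¹) • p1 = p23 := by
    simp only [mul_smul, e4, e1, e3, f4, f11, f26, f57, e86, e90]
  have h2 : (k * w * d * k⁻¹ * d * k * d⁻¹ * w⁻¹ * k⁻¹) • p2 = p26 := by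
    simp only [mul_smul, f6, e8, f19, f45, f76, e81, e62, e66, e100]
  have h23 : (k * w * d * k⁻¹ * d * k * d⁻¹ * w⁻¹ * k⁻¹) • p23 = p24 := by
    simp only [mul_smul, f90, f86, e57, e26, e13, f30, f60, e73, e92]
  have h26 : (k * w * d * k⁻¹ * d * k * d⁻¹ * w⁻¹ * k⁻¹) • p26 = p25 := by
    simp only [mul_smul, f100, f66, f62, f81, e83, f88, e59, e79, e96]
  have h24 : (k * w * d * k⁻¹ * d * k * d⁻¹ * w⁻¹ * k⁻¹) • p24 = p1 := by
    simp only [mul_smul, f92, f73, e60, e30, e12, e4, f3, f1, f4]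
  have h15 : (k * w * d * k⁻¹ * d * k * d⁻¹ * w⁻¹ * k⁻¹) • p15 = p21 := by
    simp only [mul_smul, f89, e97, f118, f122, e118, f96, e83, f87, f81]
  have h25 : (k * w * d * k⁻¹ * d * k * d⁻¹ * w⁻¹ * k⁻¹) • p25 = p2 := by
    simp only [mul_smul, f96, f79, f59, e88, e82, e45, e19, f8, e6]
  have h18 : (k * w * d * k⁻¹ * d * k * d⁻¹ * w⁻¹ * k⁻¹) • p18 = p16 := by
    simp only [mul_smul, f99, f102, f111, e128, e134, f139, e106, f94, e91]
  have h16 : (k * w * d * k⁻¹ * d * k * d⁻¹ * w⁻¹ * k⁻¹) • p16 = p22 := by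
    simp only [mul_smul, f91, e94, f106, e139, e133, f100, e70, f74, e88]
  have h22 : (k * w * d * k⁻¹ * d * k * d⁻¹ * w⁻¹ * k⁻¹) • p22 = p18 := by
    simp only [mul_smul, f88, e74, f70, e100, f123, f128, e111, e102, e99]
  have h19 : (k * w * d * k⁻¹ * d * k * d⁻¹ * w⁻¹ * k⁻¹) • p19 = p19 := by
    simp only [mul_smul, f68, e80, e76, e51, f55, f51, f76, f80, e68]
  have h21 : (k * w * d * k⁻¹ * d * k * d⁻¹ * w⁻¹ * k⁻¹) • p21 = p17 := by
    simp only [mul_smul, e81, e87, f83, e96, f115, e140, e133, f101, e95]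
  have h17 : (k * w * d * k⁻¹ * d * k * d⁻¹ * w⁻¹ * k⁻¹) • p17 = p15 := by
    simp only [mul_smul, f95, e101, f133, f140, e119, e122, e118, f97, e89]
  have h20 : (k * w * d * k⁻¹ * d * k * d⁻¹ * w⁻¹ * k⁻¹) • p20 = p20 := by
    simp only [mul_smul, f75, e67, e63, e38, f43, f38, f63, f67, e75]
  have cw : ∀ x ∈ [p0, p1, p2, p23, p26, p24, p15, p25, p18, p16, p22, p19, p21, p17, p20], (w) • x ∈ [p0, p1, p2, p23, p26, p24, p15, p25, p18, p16, p22, p19, p21, p17, p20] := by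
    simp only [List.mem_cons, List.not_mem_nil, or_false, forall_eq_or_imp, forall_eq, f1, f9, f8, f94, f101, e102, e86, f97, e66, e79, f87, f67, f80, e73, f74, true_or, or_true, and_true, true_and]
  have cv : ∀ x ∈ [p0, p1, p2, p23, p26, p24, p15, p25, p18, p16, p22, p19, p21, p17, p20], (v) • x ∈ [p0, p1, p2, p23, p26, p24, p15, p25, p18, p16, p22, p19, p21, p17, p20] := by
    simp only [List.mem_cons, List.not_mem_nil, or_false, forall_eq_or_imp, forall_eq, f2, e7, f10, e103, f104, e93, e64, e98, e85, e72, f84, f65, f78, e77, f71, true_or, or_true, and_true, true_and]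
  have ck : ∀ x ∈ [p0, p1, p2, p23, p26, p24, p15, p25, p18, p16, p22, p19, p21, p17, p20], (k) • x ∈ [p0, p1, p2, p23, p26, p24, p15, p25, p18, p16, p22, p19, p21, p17, p20] := by
    simp only [List.mem_cons, List.not_mem_nil, or_false, forall_eq_or_imp, forall_eq, f4, e6, e5, e89, e99, e91, e88, e95, e68, e75, e90, e100, e96, f81, e92, true_or, or_true, and_true, true_and]
  have ch : ∀ x ∈ [p0, p1, p2, p23, p26, p24, p15, p25, p18, p16, p22, p19, p21, p17, p20], (k * w * d * k⁻¹ * d * k * d⁻¹ * w⁻¹ * k⁻¹) • x ∈ [p0, p1, p2, p23, p26, p24, p15, p25, p18, p16, p22, p19, p21, p17, p20] := by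
    simp only [List.mem_cons, List.not_mem_nil, or_false, forall_eq_or_imp, forall_eq, h0, h1, h2, h23, h26, h24, h15, h25, h18, h16, h22, h19, h21, h17, h20, true_or, or_true, and_true, true_and]
  exact ⟨[p0, p1, p2, p23, p26, p24, p15, p25, p18, p16, p22, p19, p21, p17, p20], rfl, by simp, cw, cv, ck, ch⟩

theorem enum_minus_H {G : Type u1} [Group G] {Ω : Type u2} [MulAction G Ω] {w v d k : G}
    (rw : w * w * w * w = 1)
    (rv : v * v = 1)
    (rvw : v * w * v * w = 1)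
    (rd : d * d * d = 1)
    (rdv : d * v * d⁻¹ * v⁻¹ = 1)
    (rwd : w * d * w⁻¹ * d = 1)
    (rk : k * k * k = 1)
    (rk1 : k * w * w * k⁻¹ * w⁻¹ * v⁻¹ = 1)
    (rk2 : k * v * w * k⁻¹ * w⁻¹ * v⁻¹ * w⁻¹ * w⁻¹ = 1)
    (rvk : v * k * v * k = 1)
    (rhd : k * w * d * k⁻¹ * d * k * d⁻¹ * w⁻¹ * k⁻¹ * d * k * w * d * k⁻¹ * d⁻¹ * k * d⁻¹ * w⁻¹ * k⁻¹ * d⁻¹ = 1)
    (rh1 : k * w * d * k⁻¹ * d * k * d⁻¹ * w⁻¹ * k⁻¹ * w * w * k * w * d * k⁻¹ * d⁻¹ * k * d⁻¹ * w⁻¹ * k⁻¹ * v⁻¹ * w⁻¹ * w⁻¹ = 1)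
    (rh2 : k * w * d * k⁻¹ * d * k * d⁻¹ * w⁻¹ * k⁻¹ * v * k * w * d * k⁻¹ * d⁻¹ * k * d⁻¹ * w⁻¹ * k⁻¹ * w⁻¹ * w⁻¹ = 1)
    (p0 : Ω) (sw : w • p0 = p0) (sv : v • p0 = p0) (sk : k • p0 = p0)
    (sh : (k * w * d * k⁻¹ * d * k * d⁻¹ * w⁻¹ * k⁻¹) • p0 = p0) :
    ∃ l : List Ω, l.length = 7 ∧ p0 ∈ l ∧ (∀ x ∈ l, w • x ∈ l) ∧ (∀ x ∈ l, v • x ∈ l) ∧
      (∀ x ∈ l, d • x ∈ l) ∧ (∀ x ∈ l, k • x ∈ l) := by
  have R0 : v * d⁻¹ * v⁻¹ * d = 1 := by
    rw [show v * d⁻¹ * v⁻¹ * d = (d)⁻¹ * (d * v * d⁻¹ * v⁻¹) * (d) by simp only [mul_assoc, mul_inv_rev, inv_inv, inv_mul_cancel_left, mul_inv_cancel_left, inv_mul_cancel, mul_inv_cancel, mul_one, one_mul], rdv]; group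
  have R1 : d⁻¹ * d⁻¹ * d⁻¹ = 1 := by
    rw [show d⁻¹ * d⁻¹ * d⁻¹ = (d * d * d)⁻¹ by simp only [mul_assoc, mul_inv_rev, inv_inv, inv_mul_cancel_left, mul_inv_cancel_left, inv_mul_cancel, mul_inv_cancel, mul_one, one_mul], rd]; group
  have R2 : v⁻¹ * d * v * d⁻¹ = 1 := by
    rw [show v⁻¹ * d * v * d⁻¹ = (d * v * d⁻¹)⁻¹ * (d * v * d⁻¹ * v⁻¹) * (d * v * d⁻¹) by simp only [mul_assoc, mul_inv_rev, inv_inv, inv_mul_cancel_left, mul_inv_cancel_left, inv_mul_cancel, mul_inv_cancel, mul_one, one_mul], rdv]; group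
  have R3 : w * d⁻¹ * w⁻¹ * d⁻¹ = 1 := by
    rw [show w * d⁻¹ * w⁻¹ * d⁻¹ = (d⁻¹)⁻¹ * (w * d * w⁻¹ * d)⁻¹ * (d⁻¹) by simp only [mul_assoc, mul_inv_rev, inv_inv, inv_mul_cancel_left, mul_inv_cancel_left, inv_mul_cancel, mul_inv_cancel, mul_one, one_mul], rwd]; group
  have R4 : w⁻¹ * d⁻¹ * w * d⁻¹ = 1 := by
    rw [show w⁻¹ * d⁻¹ * w * d⁻¹ = (d⁻¹ * w * d⁻¹)⁻¹ * (w * d * w⁻¹ * d)⁻¹ * (d⁻¹ * w * d⁻¹) by simp only [mul_assoc, mul_inv_rev, inv_inv, inv_mul_cancel_left, mul_inv_cancel_left, inv_mul_cancel, mul_inv_cancel, mul_one, one_mul], rwd]; group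
  have R5 : k * k * k = 1 := rk
  have R6 : v * k * v * k = 1 := rvk
  have R7 : v * v = 1 := rv
  have R8 : w * k * w⁻¹ * w⁻¹ * k⁻¹ * v = 1 := by
    rw [show w * k * w⁻¹ * w⁻¹ * k⁻¹ * v = (v)⁻¹ * (k * w * w * k⁻¹ * w⁻¹ * v⁻¹)⁻¹ * (v) by simp only [mul_assoc, mul_inv_rev, inv_inv, inv_mul_cancel_left, mul_inv_cancel_left, inv_mul_cancel, mul_inv_cancel, mul_one, one_mul], rk1]; group
  have R9 : w⁻¹ * v⁻¹ * k * w * w * k⁻¹ = 1 := by
    rw [show w⁻¹ * v⁻¹ * k * w * w * k⁻¹ = (k * w * w * k⁻¹)⁻¹ * (k * w * w * k⁻¹ * w⁻¹ * v⁻¹) * (k * w * w * k⁻¹) by simp only [mul_assoc, mul_inv_rev, inv_inv, inv_mul_cancel_left, mul_inv_cancel_left, inv_mul_cancel, mul_inv_cancel, mul_one, one_mul], rk1]; group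
  have R10 : v * w * k⁻¹ * w⁻¹ * v⁻¹ * w⁻¹ * w⁻¹ * k = 1 := by
    rw [show v * w * k⁻¹ * w⁻¹ * v⁻¹ * w⁻¹ * w⁻¹ * k = (k)⁻¹ * (k * v * w * k⁻¹ * w⁻¹ * v⁻¹ * w⁻¹ * w⁻¹) * (k) by simp only [mul_assoc, mul_inv_rev, inv_inv, inv_mul_cancel_left, mul_inv_cancel_left, inv_mul_cancel, mul_inv_cancel, mul_one, one_mul], rk2]; group
  have R11 : v⁻¹ * d⁻¹ * v * d = 1 := by
    rw [show v⁻¹ * d⁻¹ * v * d = (v * d)⁻¹ * (d * v * d⁻¹ * v⁻¹)⁻¹ * (v * d) by simp only [mul_assoc, mul_inv_rev, inv_inv, inv_mul_cancel_left, mul_inv_cancel_left, inv_mul_cancel, mul_inv_cancel, mul_one, one_mul], rdv]; group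
  have R12 : w * d * w⁻¹ * d = 1 := rwd
  have R13 : w⁻¹ * w⁻¹ * k⁻¹ * v * w * k = 1 := by
    rw [show w⁻¹ * w⁻¹ * k⁻¹ * v * w * k = (v * w * k)⁻¹ * (k * w * w * k⁻¹ * w⁻¹ * v⁻¹)⁻¹ * (v * w * k) by simp only [mul_assoc, mul_inv_rev, inv_inv, inv_mul_cancel_left, mul_inv_cancel_left, inv_mul_cancel, mul_inv_cancel, mul_one, one_mul], rk1]; group
  have R14 : w * d * k⁻¹ * d * k * d⁻¹ * w⁻¹ * k⁻¹ * w * w * k * w * d * k⁻¹ * d⁻¹ * k * d⁻¹ * w⁻¹ * k⁻¹ * v⁻¹ * w⁻¹ * w⁻¹ * k = 1 := by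
    rw [show w * d * k⁻¹ * d * k * d⁻¹ * w⁻¹ * k⁻¹ * w * w * k * w * d * k⁻¹ * d⁻¹ * k * d⁻¹ * w⁻¹ * k⁻¹ * v⁻¹ * w⁻¹ * w⁻¹ * k = (k)⁻¹ * (k * w * d * k⁻¹ * d * k * d⁻¹ * w⁻¹ * k⁻¹ * w * w * k * w * d * k⁻¹ * d⁻¹ * k * d⁻¹ * w⁻¹ * k⁻¹ * v⁻¹ * w⁻¹ * w⁻¹) * (k) by simp only [mul_assoc, mul_inv_rev, inv_inv, inv_mul_cancel_left, mul_inv_cancel_left, inv_mul_cancel, mul_inv_cancel, mul_one, one_mul], rh1]; group
  have f1 : w • p0 = p0 := sw
  have e1 : w⁻¹ • p0 = p0 := inv_smul_eq_iff.2 f1.symm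
  have f2 : v • p0 = p0 := sv
  have e2 : v⁻¹ • p0 = p0 := inv_smul_eq_iff.2 f2.symm
  have f3 : k • p0 = p0 := sk
  have e3 : k⁻¹ • p0 = p0 := inv_smul_eq_iff.2 f3.symm
  obtain ⟨p1, q1⟩ : ∃ x, x = d • p0 := ⟨_, rfl⟩
  have f4 : d • p0 = p1 := q1.symm
  have e4 : d⁻¹ • p1 = p0 := inv_smul_eq_iff.2 f4.symm
  have f5 : v⁻¹ • p1 = p1 := by
    have t := congrArg (· • p0) R0
    simp only [mul_smul, one_smul, f4] at t
    replace t := smul_left_cancel (v) (t.trans f2.symm)
    replace t := smul_left_cancel (d⁻¹) (t.trans e4.symm)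
    exact t
  have e5 : v • p1 = p1 := (inv_smul_eq_iff.1 f5).symm
  obtain ⟨p2, q2⟩ : ∃ x, x = d⁻¹ • p0 := ⟨_, rfl⟩
  have f6 : d⁻¹ • p0 = p2 := q2.symm
  have e6 : d • p2 = p0 := (inv_smul_eq_iff.1 f6).symm
  have f7 : d⁻¹ • p2 = p1 := by
    have t := congrArg (· • p0) R1
    simp only [mul_smul, one_smul, f6] at t
    replace t := smul_left_cancel (d⁻¹) (t.trans e4.symm)
    exact t
  have e7 : d • p1 = p2 := (inv_smul_eq_iff.1 f7).symm
  have f8 : v • p2 = p2 := by
    have t := congrArg (· • p0) R2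
    simp only [mul_smul, one_smul, f6] at t
    replace t := smul_left_cancel (v⁻¹) (t.trans e2.symm)
    replace t := smul_left_cancel (d) (t.trans e6.symm)
    exact t
  have e8 : v⁻¹ • p2 = p2 := inv_smul_eq_iff.2 f8.symm
  have f9 : w⁻¹ • p2 = p1 := by
    have t := congrArg (· • p0) R3
    simp only [mul_smul, one_smul, f6] at t
    replace t := smul_left_cancel (w) (t.trans f1.symm)
    replace t := smul_left_cancel (d⁻¹) (t.trans e4.symm)
    exact t
  have e9 : w • p1 = p2 := (inv_smul_eq_iff.1 f9).symm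
  have f10 : w • p2 = p1 := by
    have t := congrArg (· • p0) R4
    simp only [mul_smul, one_smul, f6] at t
    replace t := smul_left_cancel (w⁻¹) (t.trans e1.symm)
    replace t := smul_left_cancel (d⁻¹) (t.trans e4.symm)
    exact t
  have e10 : w⁻¹ • p1 = p2 := inv_smul_eq_iff.2 f10.symm
  obtain ⟨p3, q3⟩ : ∃ x, x = k⁻¹ • p1 := ⟨_, rfl⟩
  have f11 : k⁻¹ • p1 = p3 := q3.symm
  have e11 : k • p3 = p1 := (inv_smul_eq_iff.1 f11).symm
  obtain ⟨p4, q4⟩ : ∃ x, x = k • p1 := ⟨_, rfl⟩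
  have f12 : k • p1 = p4 := q4.symm
  have e12 : k⁻¹ • p4 = p1 := inv_smul_eq_iff.2 f12.symm
  have f13 : k • p4 = p3 := by
    have t := congrArg (· • p1) R5
    simp only [mul_smul, one_smul, f12] at t
    replace t := smul_left_cancel (k) (t.trans e11.symm)
    exact t
  have e13 : k⁻¹ • p3 = p4 := inv_smul_eq_iff.2 f13.symm
  have f14 : v • p4 = p3 := by
    have t := congrArg (· • p1) R6
    simp only [mul_smul, one_smul, f12] at t
    replace t := smul_left_cancel (v) (t.trans e5.symm)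
    replace t := smul_left_cancel (k) (t.trans e11.symm)
    exact t
  have e14 : v⁻¹ • p3 = p4 := inv_smul_eq_iff.2 f14.symm
  have f15 : v • p3 = p4 := by
    have t := congrArg (· • p4) R7
    simp only [mul_smul, one_smul, f14] at t
    exact t
  have e15 : v⁻¹ • p4 = p3 := inv_smul_eq_iff.2 f15.symm
  have f16 : w • p4 = p3 := by
    have t := congrArg (· • p3) R8
    simp only [mul_smul, one_smul, f15, e12, e10, f9, f12] at t
    exact t
  have e16 : w⁻¹ • p3 = p4 := inv_smul_eq_iff.2 f16.symm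
  obtain ⟨p5, q5⟩ : ∃ x, x = k⁻¹ • p2 := ⟨_, rfl⟩
  have f17 : k⁻¹ • p2 = p5 := q5.symm
  have e17 : k • p5 = p2 := (inv_smul_eq_iff.1 f17).symm
  have f18 : w • p5 = p4 := by
    have t := congrArg (· • p2) R9
    simp only [mul_smul, one_smul, f17] at t
    replace t := smul_left_cancel (w⁻¹) (t.trans e10.symm)
    replace t := smul_left_cancel (v⁻¹) (t.trans f5.symm)
    replace t := smul_left_cancel (k) (t.trans e11.symm)
    replace t := smul_left_cancel (w) (t.trans f16.symm)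
    exact t
  have e18 : w⁻¹ • p4 = p5 := inv_smul_eq_iff.2 f18.symm
  obtain ⟨p6, q6⟩ : ∃ x, x = k • p2 := ⟨_, rfl⟩
  have f19 : k • p2 = p6 := q6.symm
  have e19 : k⁻¹ • p6 = p2 := inv_smul_eq_iff.2 f19.symm
  have f20 : d • p6 = p6 := by
    have t := sh
    simp only [mul_smul, one_smul, e3, e1, f6, f19] at t
    replace t := smul_left_cancel (k) (t.trans f3.symm)
    replace t := smul_left_cancel (w) (t.trans f1.symm)
    replace t := smul_left_cancel (d) (t.trans e6.symm)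
    replace t := smul_left_cancel (k⁻¹) (t.trans e19.symm)
    exact t
  have e20 : d⁻¹ • p6 = p6 := inv_smul_eq_iff.2 f20.symm
  have f21 : k • p6 = p5 := by
    have t := congrArg (· • p2) R5
    simp only [mul_smul, one_smul, f19] at t
    replace t := smul_left_cancel (k) (t.trans e17.symm)
    exact t
  have e21 : k⁻¹ • p5 = p6 := inv_smul_eq_iff.2 f21.symm
  have f22 : w⁻¹ • p6 = p3 := by
    have t := congrArg (· • p2) R10
    simp only [mul_smul, one_smul, f19] at t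
    replace t := smul_left_cancel (v) (t.trans f8.symm)
    replace t := smul_left_cancel (w) (t.trans e9.symm)
    replace t := smul_left_cancel (k⁻¹) (t.trans e12.symm)
    replace t := smul_left_cancel (w⁻¹) (t.trans e16.symm)
    replace t := smul_left_cancel (v⁻¹) (t.trans e15.symm)
    replace t := smul_left_cancel (w⁻¹) (t.trans e16.symm)
    exact t
  have e22 : w • p3 = p6 := (inv_smul_eq_iff.1 f22).symm
  have f23 : v • p6 = p5 := by
    have t := congrArg (· • p2) R6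
    simp only [mul_smul, one_smul, f19] at t
    replace t := smul_left_cancel (v) (t.trans f8.symm)
    replace t := smul_left_cancel (k) (t.trans e17.symm)
    exact t
  have e23 : v⁻¹ • p5 = p6 := inv_smul_eq_iff.2 f23.symm
  have f24 : d⁻¹ • p5 = p5 := by
    have t := congrArg (· • p6) R11
    simp only [mul_smul, one_smul, f20, f23] at t
    replace t := smul_left_cancel (v⁻¹) (t.trans e23.symm)
    exact t
  have e24 : d • p5 = p5 := (inv_smul_eq_iff.1 f24).symm
  have f25 : d • p3 = p3 := by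
    have t := congrArg (· • p6) R12
    simp only [mul_smul, one_smul, f20, f22] at t
    replace t := smul_left_cancel (w) (t.trans e22.symm)
    exact t
  have e25 : d⁻¹ • p3 = p3 := inv_smul_eq_iff.2 f25.symm
  have f26 : w⁻¹ • p5 = p6 := by
    have t := congrArg (· • p6) R13
    simp only [mul_smul, one_smul, f21, f18, f14, e13, e18] at t
    exact t
  have e26 : w • p6 = p5 := (inv_smul_eq_iff.1 f26).symm
  have f27 : v • p5 = p6 := by
    have t := congrArg (· • p6) R10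
    simp only [mul_smul, one_smul, f21, f26, f22, e14, e18, e21, e26] at t
    exact t
  have e27 : v⁻¹ • p6 = p5 := inv_smul_eq_iff.2 f27.symm
  have f28 : d⁻¹ • p4 = p4 := by
    have t := congrArg (· • p6) R14
    simp only [mul_smul, one_smul, f21, f26, f22, e14, e12, e10, f7, f12] at t
    replace t := smul_left_cancel (w) (t.trans e22.symm)
    replace t := smul_left_cancel (d) (t.trans f25.symm)
    replace t := smul_left_cancel (k⁻¹) (t.trans f11.symm)
    replace t := smul_left_cancel (d) (t.trans f4.symm)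
    replace t := smul_left_cancel (k) (t.trans f3.symm)
    replace t := smul_left_cancel (d⁻¹) (t.trans e4.symm)
    replace t := smul_left_cancel (w⁻¹) (t.trans f9.symm)
    replace t := smul_left_cancel (k⁻¹) (t.trans e19.symm)
    replace t := smul_left_cancel (w) (t.trans e22.symm)
    replace t := smul_left_cancel (w) (t.trans f16.symm)
    replace t := smul_left_cancel (k) (t.trans f12.symm)
    replace t := smul_left_cancel (w) (t.trans f10.symm)
    replace t := smul_left_cancel (d) (t.trans e7.symm)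
    replace t := smul_left_cancel (k⁻¹) (t.trans e12.symm)
    exact t
  have e28 : d • p4 = p4 := (inv_smul_eq_iff.1 f28).symm
  have cw : ∀ x ∈ [p0, p1, p2, p3, p4, p5, p6], (w) • x ∈ [p0, p1, p2, p3, p4, p5, p6] := by
    simp only [List.mem_cons, List.not_mem_nil, or_false, forall_eq_or_imp, forall_eq, f1, e9, f10, e22, f16, f18, e26, true_or, or_true, and_true, true_and]
  have cv : ∀ x ∈ [p0, p1, p2, p3, p4, p5, p6], (v) • x ∈ [p0, p1, p2, p3, p4, p5, p6] := by
    simp only [List.mem_cons, List.not_mem_nil, or_false, forall_eq_or_imp, forall_eq, f2, e5, f8, f15, f14, f27, f23, true_or, or_true, and_true, true_and]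
  have cd : ∀ x ∈ [p0, p1, p2, p3, p4, p5, p6], (d) • x ∈ [p0, p1, p2, p3, p4, p5, p6] := by
    simp only [List.mem_cons, List.not_mem_nil, or_false, forall_eq_or_imp, forall_eq, f4, e7, e6, f25, e28, e24, f20, true_or, or_true, and_true, true_and]
  have ck : ∀ x ∈ [p0, p1, p2, p3, p4, p5, p6], (k) • x ∈ [p0, p1, p2, p3, p4, p5, p6] := by
    simp only [List.mem_cons, List.not_mem_nil, or_false, forall_eq_or_imp, forall_eq, f3, f12, f19, e11, f13, e17, f21, true_or, or_true, and_true, true_and]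
  exact ⟨[p0, p1, p2, p3, p4, p5, p6], rfl, by simp, cw, cv, cd, ck⟩

end Cfsg.Agent.H1.SF
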