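import Mathlib
import Cfsg.Agent.H1.SFEnum
import Cfsg.Agent.H17.Basic

/-!
# From coset enumerations to the alternating group of degree 7
-/

set_option autoImplicit false
set_option linter.unusedVariables false
set_option linter.style.haveILetI false

namespace Cfsg.Agent.H1.SF

open Subgroup

universe u u2

theorem closure_list {G : Type u} [Group G] [Finite G] {Ω : Type u2} [MulAction G Ω] {l : List Ω}
    {s : Set G} (h : ∀ g ∈ s, ∀ x ∈ l, g • x ∈ l) : ∀ g ∈ closure s, ∀ x ∈ l, g • x ∈ l := by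
  intro g hg
  induction hg using closure_induction with
  | mem g hg => exact h g hg
  | one => intro x hx; rwa [one_smul]
  | mul a b _ _ ha hb => intro x hx; rw [mul_smul]; exact ha _ (hb x hx)
  | inv a _ ha =>
    intro x hx
    have key : ∀ n : ℕ, ∀ x ∈ l, a ^ n • x ∈ l := by
      intro n
      induction n with
      | zero => intro x hx; rwa [pow_zero, one_smul]
      | succ n ih => intro x hx; rw [pow_succ, mul_smul]; exact ih _ (ha x hx)
    have h1 : a⁻¹ = a ^ (orderOf a - 1) := by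
      rw [inv_eq_iff_mul_eq_one, ← pow_succ', Nat.sub_add_cancel (orderOf_pos a), pow_orderOf_eq_one]
    rw [h1]
    exact key _ x hx

theorem relIndex_le_length {G : Type u} [Group G] [Finite G] (N H : Subgroup G)
    {l : List (G ⧸ N)} (h0 : ((1 : G) : G ⧸ N) ∈ l) (h : ∀ g ∈ H, ∀ x ∈ l, g • x ∈ l) :
    N.relIndex H ≤ l.length := by
  classical
  let f : (H ⧸ N.subgroupOf H) → {x : G ⧸ N // x ∈ l} := fun q =>
    Quotient.liftOn' q (fun g => ⟨((g : G) : G ⧸ N), by
      have := h g g.2 _ h0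
      rwa [MulAction.Quotient.smul_coe, smul_eq_mul, mul_one] at this⟩) (by
      intro a b hab
      apply Subtype.ext
      show ((a : G) : G ⧸ N) = ((b : G) : G ⧸ N)
      rw [QuotientGroup.eq]
      exact mem_subgroupOf.1 (QuotientGroup.leftRel_apply.1 hab))
  have hf : Function.Injective f := by
    intro p q
    induction p using Quotient.inductionOn'
    induction q using Quotient.inductionOn'
    rename_i a b
    intro hab
    have h1 : ((a : G) : G ⧸ N) = ((b : G) : G ⧸ N) := congrArg Subtype.val hab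
    rw [QuotientGroup.eq] at h1
    apply Quotient.sound'
    rw [QuotientGroup.leftRel_apply]
    exact mem_subgroupOf.2 h1
  haveI : Finite {x : G ⧸ N // x ∈ l} := inferInstance
  have h1 := Nat.card_le_card_of_injective f hf
  have h2 : Nat.card {x : G ⧸ N // x ∈ l} = l.toFinset.card := by
    rw [Nat.card_congr (Equiv.subtypeEquivRight (fun x => (List.mem_toFinset (l := l)).symm)),
      Nat.card_eq_fintype_card, Fintype.card_coe]
  have h3 := List.toFinset_card_le l
  have h4 : N.relIndex H = Nat.card (H ⧸ N.subgroupOf H) := rfl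
  omega

theorem A7_of_index_seven {G : Type u} [Group G] [Finite G] [IsSimpleGroup G]
    (hna : ¬ IsMulCommutative G) (hc : Nat.card G = 2520) (H : Subgroup G) (hi : H.index = 7) :
    Nonempty (G ≃* alternatingGroup (Fin 7)) := by
  obtain ⟨f, hf⟩ := H17.exists_hom_alternating_fin hna H (by
    rintro rfl
    rw [index_top] at hi
    omega) 7 hi
  have h3 := two_mul_nat_card_alternatingGroup (α := Fin 7)
  rw [Nat.card_perm, Nat.card_fin] at h3
  have h4 : Nat.card (alternatingGroup (Fin 7)) = 2520 := by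
    have : Nat.factorial 7 = 5040 := by decide
    omega
  have hb := hf.bijective_of_nat_card_le (by rw [h4, hc])
  exact ⟨MulEquiv.ofBijective f hb⟩

theorem seven_le_index {G : Type u} [Group G] [Finite G] [IsSimpleGroup G]
    (hna : ¬ IsMulCommutative G) (hc : Nat.card G = 2520) (H : Subgroup G) (hH : H ≠ ⊤) :
    7 ≤ H.index := by
  have h1 := H17.two_mul_card_dvd_factorial hna H hH
  rw [hc] at h1
  by_contra hcon
  push Not at hcon
  have h2 : H.index ≤ 6 := by omega
  have h3 := Nat.le_of_dvd (Nat.factorial_pos _) h1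
  have h4 := Nat.factorial_le h2
  have h5 : Nat.factorial 6 = 720 := by decide
  omega

/-- The relations. -/
structure Rels {G : Type u} [Group G] (w v d k h : G) : Prop where
  rw : w * w * w * w = 1
  rv : v * v = 1
  rvw : v * w * v * w = 1
  rd : d * d * d = 1
  rdv : d * v * d⁻¹ * v⁻¹ = 1
  rwd : w * d * w⁻¹ * d = 1
  rk : k * k * k = 1
  rk1 : k * w * w * k⁻¹ * w⁻¹ * v⁻¹ = 1
  rk2 : k * v * w * k⁻¹ * w⁻¹ * v⁻¹ * w⁻¹ * w⁻¹ = 1
  rvk : v * k * v * k = 1
  hh : h = k * w * d * k⁻¹ * d * k * d⁻¹ * w⁻¹ * k⁻¹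
  rhd : h * d * h⁻¹ * d⁻¹ = 1

theorem Rels.rhd' {G : Type u} [Group G] {w v d k h : G} (R : Rels w v d k h) :
    k * w * d * k⁻¹ * d * k * d⁻¹ * w⁻¹ * k⁻¹ * d * k * w * d * k⁻¹ * d⁻¹ * k * d⁻¹ * w⁻¹ *
      k⁻¹ * d⁻¹ = 1 := by
  have := R.rhd
  rw [R.hh] at this
  rw [← this]; group

/-- First case: contradiction. -/
theorem Rels.plus {G : Type u} [Group G] {w v d k h : G} (R : Rels w v d k h)
    (h1 : h * (w * w) * h⁻¹ = v) (h2 : h * v * h⁻¹ = w * w * v) (N : Subgroup G)
    (hw : w ∈ N) (hv : v ∈ N) (hd : d ∈ N) (hh : h ∈ N) : k ∈ N := by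
  have e1 : k * w * d * k⁻¹ * d * k * d⁻¹ * w⁻¹ * k⁻¹ * w * w * k * w * d * k⁻¹ * d⁻¹ * k * d⁻¹ *
      w⁻¹ * k⁻¹ * v⁻¹ = 1 := by
    have e : h * (w * w) * h⁻¹ * v⁻¹ = 1 := by rw [h1, mul_inv_cancel]
    rw [R.hh] at e
    rw [← e]; group
  have e2 : k * w * d * k⁻¹ * d * k * d⁻¹ * w⁻¹ * k⁻¹ * v * k * w * d * k⁻¹ * d⁻¹ * k * d⁻¹ * w⁻¹ *
      k⁻¹ * v⁻¹ * w⁻¹ * w⁻¹ = 1 := by
    have e : h * v * h⁻¹ * (w * w * v)⁻¹ = 1 := by rw [h2, mul_inv_cancel]
    rw [R.hh] at e
    rw [← e]; group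
  have fix : ∀ g ∈ N, g • ((1 : G) : G ⧸ N) = ((1 : G) : G ⧸ N) := by
    intro g hg
    rw [MulAction.Quotient.smul_coe, smul_eq_mul, mul_one, QuotientGroup.eq, mul_one]
    exact inv_mem hg
  have := enum_plus R.rw R.rv R.rvw R.rd R.rdv R.rwd R.rk R.rk1 R.rk2 R.rvk R.rhd' e1 e2
    ((1 : G) : G ⧸ N) (fix w hw) (fix v hv) (fix d hd) (by rw [← R.hh]; exact fix h hh)
  rw [MulAction.Quotient.smul_coe, smul_eq_mul, mul_one, QuotientGroup.eq, mul_one] at this
  exact inv_mem_iff.1 this

/-- Second case: the alternating group of degree 7. -/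
theorem Rels.minus {G : Type u} [Group G] [Finite G] [IsSimpleGroup G]
    (hna : ¬ IsMulCommutative G) (hc : Nat.card G = 2520) {w v d k h : G} (R : Rels w v d k h)
    (h1 : h * (w * w) * h⁻¹ = w * w * v) (h2 : h * v * h⁻¹ = w * w) (N : Subgroup G)
    (hN : Nat.card N = 72)
    (hw : w ∈ N) (hv : v ∈ N) (hd : d ∈ N) (hh : h ∈ N) (hk : k ∉ N)
    (h72 : 72 ∣ Nat.card (closure ({w, v, d, h} : Set G))) :
    Nonempty (G ≃* alternatingGroup (Fin 7)) := by
  have e1 : k * w * d * k⁻¹ * d * k * d⁻¹ * w⁻¹ * k⁻¹ * w * w * k * w * d * k⁻¹ * d⁻¹ * k * d⁻¹ *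
      w⁻¹ * k⁻¹ * v⁻¹ * w⁻¹ * w⁻¹ = 1 := by
    have e : h * (w * w) * h⁻¹ * (w * w * v)⁻¹ = 1 := by rw [h1, mul_inv_cancel]
    rw [R.hh] at e
    rw [← e]; group
  have e2 : k * w * d * k⁻¹ * d * k * d⁻¹ * w⁻¹ * k⁻¹ * v * k * w * d * k⁻¹ * d⁻¹ * k * d⁻¹ * w⁻¹ *
      k⁻¹ * w⁻¹ * w⁻¹ = 1 := by
    have e : h * v * h⁻¹ * (w * w)⁻¹ = 1 := by rw [h2, mul_inv_cancel]
    rw [R.hh] at e
    rw [← e]; group
  have fix : ∀ N : Subgroup G, ∀ g ∈ N, g • ((1 : G) : G ⧸ N) = ((1 : G) : G ⧸ N) := by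
    intro N g hg
    rw [MulAction.Quotient.smul_coe, smul_eq_mul, mul_one, QuotientGroup.eq, mul_one]
    exact inv_mem hg
  set H : Subgroup G := closure {w, v, k, h} with hH
  set G' : Subgroup G := closure {w, v, d, k} with hG'
  have mw : w ∈ H := subset_closure (by simp)
  have mv : v ∈ H := subset_closure (by simp)
  have mk : k ∈ H := subset_closure (by simp)
  have mh : h ∈ H := subset_closure (by simp)
  have gw : w ∈ G' := subset_closure (by simp)
  have gv : v ∈ G' := subset_closure (by simp)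
  have gk : k ∈ G' := subset_closure (by simp)
  have gd : d ∈ G' := subset_closure (by simp)
  have gh : h ∈ G' := by
    rw [R.hh]
    exact mul_mem (mul_mem (mul_mem (mul_mem (mul_mem (mul_mem (mul_mem (mul_mem gk gw) gd)
      (inv_mem gk)) gd) gk) (inv_mem gd)) (inv_mem gw)) (inv_mem gk)
  have hHG : H ≤ G' := by
    rw [hH, closure_le]
    rintro x (rfl | rfl | rfl | rfl)
    · exact gw
    · exact gv
    · exact gk
    · exact gh
  -- `H` is proper
  obtain ⟨l, hl, hl0, lw, lv, lk, lh⟩ := enum_minus_N R.rw R.rv R.rvw R.rd R.rdv R.rwd R.rk R.rk1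
    R.rk2 R.rvk R.rhd' e1 e2 ((1 : G) : G ⧸ N) (fix N w hw) (fix N v hv) (fix N d hd)
    (by rw [← R.hh]; exact fix N h hh)
  rw [← R.hh] at lh
  have hrel := relIndex_le_length N H hl0 (closure_list (s := {w, v, k, h}) (by
    rintro g (rfl | rfl | rfl | rfl)
    · exact lw
    · exact lv
    · exact lk
    · exact lh))
  rw [hl] at hrel
  have hNi : N.index = 35 := by
    have := N.card_mul_index
    rw [hN, hc] at this
    omega
  have hHt : H ≠ ⊤ := by
    intro h
    rw [h, relIndex_top_right, hNi] at hrel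
    omega
  have hH7 := seven_le_index hna hc H hHt
  obtain ⟨l2, hl2, hl20, l2w, l2v, l2d, l2k⟩ := enum_minus_H R.rw R.rv R.rvw R.rd R.rdv R.rwd R.rk
    R.rk1 R.rk2 R.rvk R.rhd' e1 e2 ((1 : G) : G ⧸ H) (fix H w mw) (fix H v mv) (fix H k mk)
    (by rw [← R.hh]; exact fix H h mh)
  have hrel2 := relIndex_le_length H G' hl20 (closure_list (s := {w, v, d, k}) (by
    rintro g (rfl | rfl | rfl | rfl)
    · exact l2w
    · exact l2v
    · exact l2d
    · exact l2k))
  rw [hl2] at hrel2
  by_cases hGt : G' = ⊤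
  · rw [hGt, relIndex_top_right] at hrel2
    exact A7_of_index_seven hna hc H (by omega)
  · have h7 := seven_le_index hna hc G' hGt
    have hle : closure ({w, v, d, h} : Set G) ≤ G' := by
      rw [closure_le]
      rintro x (rfl | rfl | rfl | rfl)
      · exact gw
      · exact gv
      · exact gd
      · exact gh
    have hd72 : 72 ∣ Nat.card G' := h72.trans (card_dvd_of_le hle)
    obtain ⟨t, ht⟩ := hd72
    have hmul := G'.card_mul_index
    rw [ht, hc] at hmul
    have ht35 : t * G'.index = 35 := by nlinarith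
    have htd : t ∈ Nat.divisors 35 := Nat.mem_divisors.2 ⟨⟨_, ht35.symm⟩, by norm_num⟩
    have h35 : Nat.divisors 35 = {1, 5, 7, 35} := by decide
    rw [h35] at htd
    simp only [Finset.mem_insert, Finset.mem_singleton] at htd
    rcases htd with rfl | rfl | rfl | rfl
    · exfalso
      apply hk
      have h3 : closure ({w, v, d, h} : Set G) = G' :=
        eq_of_le_of_card_ge hle (by
          rw [ht, mul_one]
          exact Nat.le_of_dvd Nat.card_pos h72)
      have h4 : closure ({w, v, d, h} : Set G) ≤ N := by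
        rw [closure_le]
        rintro x (rfl | rfl | rfl | rfl)
        · exact hw
        · exact hv
        · exact hd
        · exact hh
      rw [h3] at h4
      exact h4 gk
    · exact A7_of_index_seven hna hc G' (by omega)
    · omega
    · omega

end Cfsg.Agent.H1.SF
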