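import Mathlib
import Cfsg.Agent.H1.SFNorm
import Cfsg.Agent.H1.SFOrb
import Cfsg.Agent.H17.Basic
import Cfsg.Agent.H17.SylowInter

/-!
# Self-centralizing elements of order 4: the case of order 2520
-/

set_option autoImplicit false
set_option linter.unusedSectionVars false
set_option linter.unusedVariables false
set_option linter.style.haveILetI false

namespace Cfsg.Agent.H1.SF

open Subgroup Cfsg
open scoped Pointwise

universe u

variable {G : Type u} [Group G] [Finite G] {w v : G}

/-- The situation of order 2520. -/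
structure S7 (w v : G) : Prop where
  D : Dat w v
  all : ∀ t : G, orderOf t = 2 → IsConj (w * w) t
  k1 : kk w v = 3
  k2 : kk w (v * w) = 1
  cG : Nat.card G = 2520
  cN : Nat.card (normalizer (DD w v : Set G)) = 72

namespace S7

variable (S : S7 w v)

include S

theorem card_K : Nat.card (KK w) = 3 := by rw [S.D.card_K, S.k1, S.k2]

theorem DD_eq : DD w v = KK w :=
  eq_of_le_of_card_ge inf_le_left (by rw [S.card_K, ← kk_eq, S.k1])

theorem exists_d : ∃ d : G, d ≠ 1 ∧ d * d * d = 1 ∧ d ∈ KK w ∧ (∀ x ∈ KK w, x = 1 ∨ x = d ∨ x = d⁻¹) := by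
  haveI : Fact (Nat.Prime 3) := ⟨Nat.prime_three⟩
  have hc := S.card_K
  haveI : Nontrivial (KK w) := Finite.one_lt_card_iff_nontrivial.1 (by rw [hc]; norm_num)
  obtain ⟨⟨d, hd⟩, hd1⟩ := exists_ne (1 : KK w)
  have hd1' : d ≠ 1 := fun h => hd1 (Subtype.ext h)
  have h3 : orderOf d = 3 := by
    have h1 := orderOf_dvd_natCard (⟨d, hd⟩ : KK w)
    rw [hc, orderOf_mk] at h1
    rcases (Nat.dvd_prime Nat.prime_three).1 h1 with h | h
    · exact absurd (orderOf_eq_one_iff.1 h) hd1'
    · exact h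
  have hd3 : d ^ 3 = 1 := by rw [← h3, pow_orderOf_eq_one]
  have hz : zpowers d = KK w := by
    apply eq_of_le_of_card_ge
    · rwa [zpowers_le]
    · rw [Nat.card_zpowers, h3, hc]
  refine ⟨d, hd1', ?_, hd, ?_⟩
  · rw [← hd3]; simp only [pow_succ, pow_zero, one_mul]
  · intro x hx
    rw [← hz] at hx
    obtain ⟨n, rfl⟩ := hx
    have e1 : d ^ n = d ^ (n % 3) := by
      rw [← zpow_mod_orderOf, h3]; rfl
    have h0 := Int.emod_nonneg n (by norm_num : (3 : ℤ) ≠ 0)
    have h1 := Int.emod_lt_of_pos n (by norm_num : (0 : ℤ) < 3)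
    show d ^ n = 1 ∨ d ^ n = d ∨ d ^ n = d⁻¹
    rw [e1]
    have : n % 3 = 0 ∨ n % 3 = 1 ∨ n % 3 = 2 := by omega
    rcases this with h | h | h <;> rw [h]
    · left; rw [zpow_zero]
    · right; left; rw [zpow_one]
    · right; right
      rw [eq_inv_iff_mul_eq_one]
      rw [← hd3]
      show d ^ (2 : ℤ) * d = d ^ 3
      rw [← zpow_natCast d 3, show ((3 : ℕ) : ℤ) = 2 + 1 by norm_num, zpow_add, zpow_one]

/-- `v` centralizes `K`. -/
theorem v_comm {x : G} (hx : x ∈ KK w) : x * v = v * x := by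
  rw [← S.DD_eq] at hx
  exact (S.D.mem_DD.1 hx).2

theorem vw_inv {x : G} (hx : x ∈ KK w) : (v * w) * x * (v * w)⁻¹ = x⁻¹ := by
  have h1 := S.D.K_main.1 x hx
  calc (v * w) * x * (v * w)⁻¹ = v * (w * x * w⁻¹) * v⁻¹ := by group
    _ = v * x⁻¹ * v⁻¹ := by rw [h1]
    _ = x⁻¹ := by
      rw [← S.v_comm (inv_mem hx)]; group

theorem cent_V2 {x : G} (h1 : x * (w * w) = w * w * x) (h2 : x * (v * w) = v * w * x) :
    x = 1 ∨ x = w * w ∨ x = v * w ∨ x = w * w * (v * w) := by
  have D := S.D
  obtain ⟨k, hk, s, hs, rfl⟩ := D.exists_decomp h1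
  have hinv := S.vw_inv hk
  have hvw : v * w ∈ closure ({v, v * w} : Set G) := subset_closure (by simp)
  have h3 : k * (s * (v * w)) = k⁻¹ * (v * w * s) := by
    calc k * (s * (v * w)) = k * s * (v * w) := by group
      _ = v * w * (k * s) := h2
      _ = (v * w * k * (v * w)⁻¹) * (v * w * s) := by group
      _ = k⁻¹ * (v * w * s) := by rw [hinv]
  obtain ⟨e1, e2⟩ := D.KS_inj hk (inv_mem hk) (mul_mem hs hvw) (mul_mem hvw hs) h3
  have hk1 : k = 1 := by
    have h4 : orderOf k ∣ 2 := orderOf_dvd_of_pow_eq_one (by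
      rw [pow_two]; nth_rewrite 1 [e1]; exact inv_mul_cancel k)
    rcases (Nat.dvd_prime Nat.prime_two).1 h4 with h | h
    · exact orderOf_eq_one_iff.1 h
    · exact absurd (by rw [h]) (D.mem_K.1 hk).2
  rw [hk1, one_mul]
  have hvi := D.swap.inv
  have hwv : w * (v * w) = v := by
    rw [← mul_assoc, ← D.vwi]; group
  have bad : (v * w) * w = w * (v * w) → False := by
    intro h
    rw [hwv] at h
    apply D.z1
    have h5 : v * (w * w) = v * 1 := by rw [mul_one, ← mul_assoc]; exact h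
    exact mul_left_cancel h5
  obtain ⟨i, rfl | rfl⟩ := D.mem_S.1 hs
  · fin_cases i
    · left; exact pow_zero w
    · exfalso
      have e3 : w ^ 1 * (v * w) = v * w * w ^ 1 := e2
      rw [pow_one] at e3
      exact bad e3.symm
    · right; left
      show w ^ 2 = w * w
      exact pow_two w
    · exfalso
      have e3 : w ^ 3 * (v * w) = v * w * w ^ 3 := e2
      have e4 : w ^ 3 = w⁻¹ := by rw [D.wi]; simp only [pow_succ, pow_zero, one_mul]
      rw [e4] at e3
      apply bad
      calc v * w * w = w * (w⁻¹ * (v * w)) * w := by group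
        _ = w * (v * w * w⁻¹) * w := by rw [e3]
        _ = w * (v * w) := by group
  · fin_cases i
    · exfalso
      have e3 : w ^ 0 * v * (v * w) = v * w * (w ^ 0 * v) := e2
      rw [pow_zero, one_mul, ← mul_assoc, D.vv, one_mul, D.inv] at e3
      apply D.z1
      nth_rewrite 1 [e3]
      exact inv_mul_cancel w
    · right; right; right
      show w ^ 1 * v = w * w * (v * w)
      rw [pow_one, mul_assoc w w, hwv]
    · exfalso
      have e3 : w ^ 2 * v * (v * w) = v * w * (w ^ 2 * v) := e2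
      apply D.z1
      have e5 : w ^ 2 * v * (v * w) = w * w * w := by
        rw [mul_assoc, ← mul_assoc v v, D.vv, one_mul, pow_two]
      have e6 : v * w * (w ^ 2 * v) = w := by
        calc v * w * (w ^ 2 * v) = v * (w * w * w) * v := by rw [pow_two]; group
          _ = v * w⁻¹ * v := by rw [← D.wi]
          _ = w := by rw [D.vwi, mul_assoc, D.vv, mul_one]
      rw [e5, e6] at e3
      have e7 : w * w * w = 1 * w := by rw [e3, one_mul]
      exact mul_right_cancel e7
    · right; right; left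
      show w ^ 3 * v = v * w
      rw [D.vw, D.wi]; simp only [pow_succ, pow_zero, one_mul]

/-- The element `k`. -/
theorem exists_k : ∃ k : G, k * (w * w) * k⁻¹ = v * w ∧ k * (v * w) * k⁻¹ = w * w * (v * w) ∧
    k * k * k = 1 ∧ v * k * v * k = 1 := by
  have D := S.D
  obtain ⟨g, hg1, hg2⟩ := D.swap.exists_perm (S.all _ D.swap.ov)
  have hg3 : g * (w * w * (v * w)) * g⁻¹ = w * w := by
    calc g * (w * w * (v * w)) * g⁻¹ = (g * (w * w) * g⁻¹) * (g * (v * w) * g⁻¹) := by group
      _ = (v * w) * (w * w * (v * w)) := by rw [hg1, hg2]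
      _ = w * w := by rw [D.swap.zv, ← mul_assoc, D.swap.vv, one_mul]
  have hzz := D.w4
  have htt := D.swap.vv
  have htz := D.swap.zv
  -- conjugation by `g⁻¹`
  have gi1 : g⁻¹ * (v * w) * g = w * w := by rw [← hg1]; group
  have gi2 : g⁻¹ * (w * w * (v * w)) * g = v * w := by rw [← hg2]; group
  have gi3 : g⁻¹ * (w * w) * g = w * w * (v * w) := by nth_rewrite 1 [← hg3]; group
  have cube : ∀ y : G, y * (w * w) * y⁻¹ = v * w → y * (v * w) * y⁻¹ = w * w * (v * w) →
      y * y * y = 1 := by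
    intro y h1 h2
    have h3 : y * (w * w * (v * w)) * y⁻¹ = w * w := by
      calc y * (w * w * (v * w)) * y⁻¹ = (y * (w * w) * y⁻¹) * (y * (v * w) * y⁻¹) := by group
        _ = (v * w) * (w * w * (v * w)) := by rw [h1, h2]
        _ = w * w := by rw [htz, ← mul_assoc, htt, one_mul]
    have c1 : (y * y * y) * (w * w) = w * w * (y * y * y) := by
      rw [← mul_inv_eq_iff_eq_mul]
      calc (y * y * y) * (w * w) * (y * y * y)⁻¹
          = y * (y * (y * (w * w) * y⁻¹) * y⁻¹) * y⁻¹ := by group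
        _ = w * w := by rw [h1, h2, h3]
    have c2 : (y * y * y) * (v * w) = v * w * (y * y * y) := by
      rw [← mul_inv_eq_iff_eq_mul]
      calc (y * y * y) * (v * w) * (y * y * y)⁻¹
          = y * (y * (y * (v * w) * y⁻¹) * y⁻¹) * y⁻¹ := by group
        _ = v * w := by rw [h2, h3, h1]
    have c3 : y * (y * y * y) * y⁻¹ = y * y * y := by group
    rcases S.cent_V2 c1 c2 with h | h | h | h
    · exact h
    · exfalso; rw [h, h1] at c3
      exact D.swap.z_ne_v c3.symm
    · exfalso; rw [h, h2] at c3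
      apply D.z1
      have : w * w * (v * w) = 1 * (v * w) := by rw [c3, one_mul]
      exact mul_right_cancel this
    · exfalso; rw [h, h3] at c3
      apply D.swap.v1
      have : w * w * 1 = w * w * (v * w) := by rw [mul_one]; exact c3
      exact (mul_left_cancel this).symm
  have vz : v * (w * w) * v = w * w := by rw [← D.zv, mul_assoc, D.vv, mul_one]
  have vt : v * (v * w) * v = w * w * (v * w) := by
    calc v * (v * w) * v = (v * v) * w * v := by group
      _ = w * v := by rw [D.vv, one_mul]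
      _ = w * (w * (v * w)) := by
        congr 1
        rw [← mul_assoc, ← D.vwi]; group
      _ = w * w * (v * w) := by group
  have vt2 : v * (w * w * (v * w)) * v = v * w := by
    rw [← vt]
    calc v * (v * (v * w) * v) * v = (v * v) * (v * w) * (v * v) := by group
      _ = v * w := by rw [D.vv]; group
  -- `c = v g v g` centralizes `V₂`
  have c1 : (v * g * v * g) * (w * w) = w * w * (v * g * v * g) := by
    rw [← mul_inv_eq_iff_eq_mul]
    calc (v * g * v * g) * (w * w) * (v * g * v * g)⁻¹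
        = v * (g * (v * (g * (w * w) * g⁻¹) * v⁻¹) * g⁻¹) * v⁻¹ := by group
      _ = w * w := by rw [hg1, D.vi, vt, hg3, vz]
  have c2 : (v * g * v * g) * (v * w) = v * w * (v * g * v * g) := by
    rw [← mul_inv_eq_iff_eq_mul]
    calc (v * g * v * g) * (v * w) * (v * g * v * g)⁻¹
        = v * (g * (v * (g * (v * w) * g⁻¹) * v⁻¹) * g⁻¹) * v⁻¹ := by group
      _ = v * w := by rw [hg2, D.vi, vt2, hg2, vt2]
  -- `c` commutes with `v g` in a twisted sense
  have c3 : (v * g) * (v * g * v * g) * (v * g)⁻¹ = v * g * v * g := by group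
  rcases S.cent_V2 c1 c2 with h | h | h | h
  · exact ⟨g, hg1, hg2, cube g hg1 hg2, h⟩
  · exfalso
    rw [h] at c3
    have : (v * g) * (w * w) * (v * g)⁻¹ = w * w * (v * w) := by
      calc (v * g) * (w * w) * (v * g)⁻¹ = v * (g * (w * w) * g⁻¹) * v⁻¹ := by group
        _ = w * w * (v * w) := by rw [hg1, D.vi, vt]
    rw [this] at c3
    apply D.swap.v1
    have h5 : w * w * (v * w) = w * w * 1 := by rw [mul_one]; exact c3
    exact mul_left_cancel h5
  · -- `c = v w`
    have hk2 : w * w * (w * w * (v * w)) * (w * w)⁻¹ = w * w * (v * w) := by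
      calc w * w * (w * w * (v * w)) * (w * w)⁻¹ = w * w * (v * w * (w * w)) * (w * w)⁻¹ := by
            rw [htz]
        _ = w * w * (v * w) := by group
    refine ⟨w * w * g, ?_, ?_, ?_, ?_⟩
    · calc w * w * g * (w * w) * (w * w * g)⁻¹ = w * w * (g * (w * w) * g⁻¹) * (w * w)⁻¹ := by group
        _ = v * w := by rw [hg1, htz]; group
    · calc w * w * g * (v * w) * (w * w * g)⁻¹ = w * w * (g * (v * w) * g⁻¹) * (w * w)⁻¹ := by group
        _ = w * w * (v * w) := by rw [hg2, hk2]
    · apply cube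
      · calc w * w * g * (w * w) * (w * w * g)⁻¹ = w * w * (g * (w * w) * g⁻¹) * (w * w)⁻¹ := by group
          _ = v * w := by rw [hg1, htz]; group
      · calc w * w * g * (v * w) * (w * w * g)⁻¹ = w * w * (g * (v * w) * g⁻¹) * (w * w)⁻¹ := by group
          _ = w * w * (v * w) := by rw [hg2, hk2]
    · calc v * (w * w * g) * v * (w * w * g)
          = (v * (w * w) * v) * (v⁻¹ * g * v * g) * (g⁻¹ * (w * w) * g) := by group
        _ = (w * w) * (v * g * v * g) * (g⁻¹ * (w * w) * g) := by rw [vz, D.vi]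
        _ = (w * w) * (v * w) * (w * w * (v * w)) := by rw [h, gi3]
        _ = (w * w) * (v * w) * (v * w * (w * w)) := by rw [htz]
        _ = (w * w) * ((v * w) * (v * w)) * (w * w) := by group
        _ = 1 := by rw [htt, mul_one, hzz]
  · exfalso
    rw [h] at c3
    have : (v * g) * (w * w * (v * w)) * (v * g)⁻¹ = w * w := by
      calc (v * g) * (w * w * (v * w)) * (v * g)⁻¹
          = v * (g * (w * w * (v * w)) * g⁻¹) * v⁻¹ := by group
        _ = w * w := by rw [hg3, D.vi, vz]
    rw [this] at c3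
    apply D.swap.v1
    have h5 : w * w * 1 = w * w * (v * w) := by rw [mul_one]; exact c3
    exact (mul_left_cancel h5).symm

theorem exists_V : ∃ V : Subgroup G, IsKleinFour V ∧
    ∀ x, x ∈ V ↔ x = 1 ∨ x = w * w ∨ x = v ∨ x = w * w * v :=
  ⟨FourGraph.fourSubgroup (w * w) v S.D.w4 S.D.vv S.D.zv,
    FourGraph.isKleinFour_fourSubgroup S.D.z1 S.D.v1 S.D.z_ne_v, fun _ => Iff.rfl⟩

theorem card_Cz : Nat.card (centralizer ({w * w} : Set G)) = 24 := by
  rw [S.D.card_C, S.card_K]

theorem card_Ct {t : G} (ht : orderOf t = 2) : Nat.card (centralizer ({t} : Set G)) = 24 := by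
  rw [← S.D.card_centralizer_of_isConj (S.all t ht), S.card_Cz]

theorem comm_V {V : Subgroup G} (hV : ∀ x, x ∈ V ↔ x = 1 ∨ x = w * w ∨ x = v ∨ x = w * w * v)
    {y : G} (h1 : w * w * y = y * (w * w)) (h2 : y * v = v * y) : ∀ a ∈ V, a * y = y * a := by
  intro a ha
  rcases (hV a).1 ha with rfl | rfl | rfl | rfl
  · rw [one_mul, mul_one]
  · exact h1
  · exact h2.symm
  · rw [mul_assoc, ← h2, ← mul_assoc, h1, mul_assoc]

theorem norm_V {V : Subgroup G} (hV : ∀ x, x ∈ V ↔ x = 1 ∨ x = w * w ∨ x = v ∨ x = w * w * v) :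
    normalizer (V : Set G) = normalizer (DD w v : Set G) := by
  haveI : Fact (Nat.Prime 3) := ⟨Nat.prime_three⟩
  have D := S.D
  have hzV : w * w ∈ V := (hV _).2 (Or.inr (Or.inl rfl))
  have hvV : v ∈ V := (hV _).2 (Or.inr (Or.inr (Or.inl rfl)))
  have hle : normalizer (V : Set G) ≤ normalizer (DD w v : Set G) := by
    intro m hm
    apply H21.mem_normalizer_of_map_conj_le
    rintro _ ⟨y, hy, rfl⟩
    show m * y * m⁻¹ ∈ DD w v
    replace hy : y ∈ DD w v := hy
    rw [D.mem_DD] at hy ⊢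
    obtain ⟨⟨hy1, hy2⟩, hy3⟩ := hy
    have hcV := S.comm_V hV hy1 hy3
    have key : ∀ a ∈ V, a * (m * y * m⁻¹) = m * y * m⁻¹ * a := by
      intro a ha
      have h1 : m⁻¹ * a * m ∈ V := by
        have := (mem_normalizer_iff.1 (inv_mem hm) a).1 ha
        rwa [inv_inv] at this
      have h2 := hcV _ h1
      calc a * (m * y * m⁻¹) = m * ((m⁻¹ * a * m) * y) * m⁻¹ := by group
        _ = m * y * m⁻¹ * a := by rw [h2]; group
    exact ⟨⟨key _ hzV, by rw [H4.orderOf_conj']; exact hy2⟩, (key v hvV).symm⟩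
  -- the order
  have hwv : w * v * w⁻¹ = w * w * v := by
    rw [mul_assoc, D.vwi, ← mul_assoc]
  have hwM : w ∈ normalizer (V : Set G) := by
    apply H21.mem_normalizer_of_map_conj_le
    rintro _ ⟨y, hy, rfl⟩
    show w * y * w⁻¹ ∈ V
    rcases (hV y).1 hy with h | h | h | h
    · rw [h, mul_one, mul_inv_cancel]; exact one_mem V
    · rw [h, ← D.zw, mul_assoc, mul_inv_cancel, mul_one]; exact hzV
    · rw [h, hwv]; exact mul_mem hzV hvV
    · have h5 : w * (w * w * v) * w⁻¹ = w * w * (w * v * w⁻¹) := by group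
      rw [h, h5, hwv]
      exact mul_mem hzV (mul_mem hzV hvV)
  have hvM : v ∈ normalizer (V : Set G) := le_normalizer hvV
  obtain ⟨g, hg1, hg2⟩ := D.exists_perm (S.all v D.ov)
  have hg3 : g * (w * w * v) * g⁻¹ = w * w := by
    calc g * (w * w * v) * g⁻¹ = (g * (w * w) * g⁻¹) * (g * v * g⁻¹) := by group
      _ = v * (w * w * v) := by rw [hg1, hg2]
      _ = w * w := by rw [D.zv, ← mul_assoc, D.vv, one_mul]
  have hgM : g ∈ normalizer (V : Set G) := by
    apply H21.mem_normalizer_of_map_conj_le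
    rintro _ ⟨y, hy, rfl⟩
    show g * y * g⁻¹ ∈ V
    rcases (hV y).1 hy with h | h | h | h
    · rw [h, mul_one, mul_inv_cancel]; exact one_mem V
    · rw [h, hg1]; exact hvV
    · rw [h, hg2]; exact mul_mem hzV hvV
    · rw [h, hg3]; exact hzV
  have h8 : 8 ∣ Nat.card (normalizer (V : Set G)) := by
    obtain ⟨P, hP, -, h8⟩ := D.exists_sylow
    rw [← h8, hP]
    apply card_dvd_of_le
    rw [Subgroup.closure_le]
    rintro x (rfl | rfl)
    · exact hvM
    · exact mul_mem hvM hwM
  have h3C : 3 ∣ Nat.card (centralizer (V : Set G)) := by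
    have h1 : DD w v ≤ centralizer (V : Set G) := by
      intro y hy
      rw [mem_centralizer_iff]
      have h2 := D.mem_DD.1 hy
      exact S.comm_V hV h2.1.1 h2.2
    have h2 := card_dvd_of_le h1
    rwa [← kk_eq, S.k1] at h2
  have h3R : 3 ∣ (centralizer (V : Set G)).relIndex (normalizer (V : Set G)) := by
    haveI hn : ((centralizer (V : Set G)).subgroupOf (normalizer (V : Set G))).Normal :=
      Subgroup.normal_subgroupOf_centralizer_normalizer _
    have hq3 : (QuotientGroup.mk' ((centralizer (V : Set G)).subgroupOf (normalizer (V : Set G)))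
        ⟨g, hgM⟩) ^ 3 = 1 := by
      rw [← map_pow]
      apply (QuotientGroup.eq_one_iff _).2
      rw [mem_subgroupOf]
      show g ^ 3 ∈ _
      rw [mem_centralizer_iff]
      have c1 : (w * w) * (g ^ 3) = g ^ 3 * (w * w) := by
        rw [eq_comm, ← mul_inv_eq_iff_eq_mul]
        calc g ^ 3 * (w * w) * (g ^ 3)⁻¹ = g * (g * (g * (w * w) * g⁻¹) * g⁻¹) * g⁻¹ := by
              simp only [pow_succ, pow_zero, one_mul]; group
          _ = w * w := by rw [hg1, hg2, hg3]
      have c2 : g ^ 3 * v = v * g ^ 3 := by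
        rw [← mul_inv_eq_iff_eq_mul]
        calc g ^ 3 * v * (g ^ 3)⁻¹ = g * (g * (g * v * g⁻¹) * g⁻¹) * g⁻¹ := by
              simp only [pow_succ, pow_zero, one_mul]; group
          _ = v := by rw [hg2, hg3, hg1]
      exact S.comm_V hV c1 c2
    have hq1 : (QuotientGroup.mk' ((centralizer (V : Set G)).subgroupOf (normalizer (V : Set G)))
        ⟨g, hgM⟩) ≠ 1 := by
      intro h
      have h1 := mem_subgroupOf.1 ((QuotientGroup.eq_one_iff _).1 h)
      have h2 : (w * w) * g = g * (w * w) := mem_centralizer_iff.1 h1 _ hzV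
      apply D.z_ne_v
      rw [← hg1, ← h2, mul_assoc, mul_inv_cancel, mul_one]
    have ho : orderOf (QuotientGroup.mk' ((centralizer (V : Set G)).subgroupOf
        (normalizer (V : Set G))) ⟨g, hgM⟩) = 3 := orderOf_eq_prime hq3 hq1
    rw [relIndex, index, ← ho]
    exact orderOf_dvd_natCard _
  have h9 : 9 ∣ Nat.card (normalizer (V : Set G)) := by
    rw [← H17.relIndex_mul_card_of_le (centralizer_le_normalizer (V : Set G))]
    exact mul_dvd_mul h3R h3C
  have h72 : 72 ∣ Nat.card (normalizer (V : Set G)) :=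
    Nat.Coprime.mul_dvd_of_dvd_of_dvd (by norm_num : Nat.Coprime 8 9) h8 h9
  exact eq_of_le_of_card_ge hle (by rw [S.cN]; exact Nat.le_of_dvd Nat.card_pos h72)

/-- Elements commuting with `d` lie in `N`. -/
theorem mem_N_of_comm {d e : G} (hd1 : d ≠ 1) (hd : d ∈ KK w) (he : e * d = d * e) :
    e ∈ normalizer (DD w v : Set G) := by
  obtain ⟨d0, h01, h03, h0K, h0all⟩ := S.exists_d
  have hall : ∀ x ∈ KK w, x = 1 ∨ x = d ∨ x = d⁻¹ := by
    intro x hx
    rcases h0all d hd with h | h | h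
    · exact absurd h hd1
    · rw [h]; exact h0all x hx
    · rcases h0all x hx with h' | h' | h'
      · exact Or.inl h'
      · right; right; rw [h, inv_inv]; exact h'
      · right; left; rw [h]; exact h'
  apply H21.mem_normalizer_of_map_conj_le
  rintro _ ⟨y, hy, rfl⟩
  show e * y * e⁻¹ ∈ DD w v
  have hyK : y ∈ KK w := by
    have : y ∈ DD w v := hy
    rwa [S.DD_eq] at this
  have hc : e * y = y * e := by
    rcases hall y hyK with rfl | rfl | rfl
    · rw [mul_one, one_mul]
    · exact he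
    · exact ((show Commute e d from he).inv_right).eq
  rw [hc, mul_assoc, mul_inv_cancel, mul_one]
  exact hy

theorem star {E : Subgroup G} (hE : Nat.card E = 9) (hEc : ∀ a ∈ E, ∀ b ∈ E, a * b = b * a)
    {d : G} (hdE : d ∈ E) (hd1 : d ≠ 1) (hd : d ∈ KK w)
    (hz : ∀ e ∈ E, w * w * e * (w * w)⁻¹ ∈ E) : False := by
  obtain ⟨V, hVk, hV⟩ := S.exists_V
  have hzV : w * w ∈ V := (hV _).2 (Or.inr (Or.inl rfl))
  have hle : E ≤ centralizer ({w * w} : Set G) := by
    intro e he
    rw [mem_centralizer_singleton_iff]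
    have heN : e ∈ normalizer (V : Set G) := by
      rw [S.norm_V hV]
      exact S.mem_N_of_comm hd1 hd (hEc e he d hdE)
    have h1 : w * w * e * (w * w)⁻¹ * e⁻¹ ∈ E := mul_mem (hz e he) (inv_mem he)
    have h2 : w * w * e * (w * w)⁻¹ * e⁻¹ ∈ V := by
      have h3 : e * (w * w)⁻¹ * e⁻¹ ∈ V := (mem_normalizer_iff.1 heN _).1 (inv_mem hzV)
      have h4 : w * w * e * (w * w)⁻¹ * e⁻¹ = w * w * (e * (w * w)⁻¹ * e⁻¹) := by group
      rw [h4]
      exact mul_mem hzV h3
    have h5 : orderOf (w * w * e * (w * w)⁻¹ * e⁻¹) ∣ 9 := by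
      rw [← hE]; exact orderOf_dvd_natCard (⟨_, h1⟩ : E) |>.trans (by rfl) |> fun h => by
        rwa [orderOf_mk] at h
    have h6 : orderOf (w * w * e * (w * w)⁻¹ * e⁻¹) ∣ 4 := by
      rw [← hVk.card_four]; exact orderOf_dvd_natCard (⟨_, h2⟩ : V) |> fun h => by
        rwa [orderOf_mk] at h
    have h7 : orderOf (w * w * e * (w * w)⁻¹ * e⁻¹) ∣ Nat.gcd 9 4 := Nat.dvd_gcd h5 h6
    have h8 : w * w * e * (w * w)⁻¹ * e⁻¹ = 1 := by
      apply orderOf_eq_one_iff.1
      exact Nat.dvd_one.1 h7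
    have h9 : w * w * e * (w * w)⁻¹ = e := by
      rw [← mul_inv_eq_one]; exact h8
    exact (mul_inv_eq_iff_eq_mul.1 h9).symm
  have h10 := card_dvd_of_le hle
  rw [hE, S.card_Cz] at h10
  norm_num at h10

end S7

end Cfsg.Agent.H1.SF
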