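import Mathlib
import Cfsg.Agent.H1.SFA7

/-!
# Self-centralizing elements of order 4: the case of order 2520, continued
-/

set_option autoImplicit false
set_option linter.unusedSectionVars false
set_option linter.unusedVariables false
set_option linter.style.haveILetI false

namespace Cfsg.Agent.H1.SF

open Subgroup Cfsg
open scoped Pointwise

universe u

variable {G : Type u} [Group G] [Finite G] {w v : G}

/-- An element of order 5 or 7 normalizing a subgroup of order 9 centralizes it. -/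
theorem comm_of_order {E : Subgroup G} (hE : Nat.card E = 9) {p : ℕ} (hp : p.Prime)
    (hp5 : p = 5 ∨ p = 7) {x : G} (hx : x ∈ normalizer (E : Set G)) (ho : orderOf x = p) :
    ∀ e ∈ E, x * e = e * x := by
  haveI : Fact p.Prime := ⟨hp⟩
  let α : MulAut E := E.normalizerMonoidHom ⟨x, hx⟩
  have hα : α ^ p = 1 := by
    show (E.normalizerMonoidHom ⟨x, hx⟩) ^ p = 1
    rw [← map_pow]
    have : (⟨x, hx⟩ : normalizer (E : Set G)) ^ p = 1 := by
      apply Subtype.ext
      show x ^ p = 1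
      rw [← ho, pow_orderOf_eq_one]
    rw [this, map_one]
  have hZ : IsPGroup p (zpowers α) := by
    rintro ⟨g, n, rfl⟩
    refine ⟨1, ?_⟩
    apply Subtype.ext
    show (α ^ n) ^ (p ^ 1) = 1
    rw [pow_one, ← zpow_natCast, ← zpow_mul, mul_comm, zpow_mul, zpow_natCast, hα, one_zpow]
  have h1 := hZ.card_modEq_card_fixedPoints E
  let F : Subgroup E := MonoidHom.eqLocus α.toMonoidHom (MonoidHom.id E)
  have hF : Nat.card (MulAction.fixedPoints (zpowers α) E) = Nat.card F := by
    apply Nat.card_congr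
    refine Equiv.subtypeEquivRight ?_
    intro e
    constructor
    · intro h
      exact h ⟨α, mem_zpowers α⟩
    · intro h
      have h' : α e = e := h
      rintro ⟨g, n, rfl⟩
      show (α ^ n) e = e
      have hst : α ∈ MulAction.stabilizer (MulAut E) e := h'
      exact zpow_mem hst n
  rw [hF, hE] at h1
  have h2 : Nat.card F ∣ 9 := by rw [← hE]; exact card_subgroup_dvd_card F
  have h3 : Nat.card F = 9 := by
    have h4 : Nat.card F ∈ Nat.divisors 9 := Nat.mem_divisors.2 ⟨h2, by norm_num⟩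
    have h5 : Nat.divisors 9 = {1, 3, 9} := by decide
    rw [h5] at h4
    simp only [Finset.mem_insert, Finset.mem_singleton] at h4
    rcases h4 with h | h | h
    · rw [h] at h1
      rcases hp5 with rfl | rfl <;> exact absurd h1 (by decide)
    · rw [h] at h1
      rcases hp5 with rfl | rfl <;> exact absurd h1 (by decide)
    · exact h
  have h6 : F = ⊤ := eq_top_of_card_eq F (by rw [h3, hE])
  intro e he
  have h7 : (⟨e, he⟩ : E) ∈ F := h6 ▸ mem_top _
  have h8 : α ⟨e, he⟩ = ⟨e, he⟩ := h7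
  have h9 : x * e * x⁻¹ = e := congrArg Subtype.val h8
  exact mul_inv_eq_iff_eq_mul.1 h9

namespace S7

variable (S : S7 w v)

include S

theorem star' {t : G} (ht : orderOf t = 2) {c : G} (hc1 : c ≠ 1) (hc3 : c * c * c = 1)
    (htc : t * c = c * t) {E : Subgroup G} (hE : Nat.card E = 9)
    (hEc : ∀ a ∈ E, ∀ b ∈ E, a * b = b * a) (hcE : c ∈ E)
    (htE : ∀ e ∈ E, t * e * t⁻¹ ∈ E) : False := by
  obtain ⟨g, hg⟩ := isConj_iff.1 (S.all t ht)
  have hgi : ∀ x : G, x ∈ E.map (MulAut.conj g⁻¹).toMonoidHom ↔ g * x * g⁻¹ ∈ E := by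
    intro x
    constructor
    · rintro ⟨y, hy, rfl⟩
      have : g * ((MulAut.conj g⁻¹).toMonoidHom y) * g⁻¹ = y := by
        show g * (g⁻¹ * y * g⁻¹⁻¹) * g⁻¹ = y
        group
      rw [this]; exact hy
    · intro h
      refine ⟨_, h, ?_⟩
      show g⁻¹ * (g * x * g⁻¹) * g⁻¹⁻¹ = x
      group
  have hc : (w * w) * (g⁻¹ * c * g) = (g⁻¹ * c * g) * (w * w) := by
    calc (w * w) * (g⁻¹ * c * g) = g⁻¹ * ((g * (w * w) * g⁻¹) * c) * g := by group
      _ = g⁻¹ * (c * (g * (w * w) * g⁻¹)) * g := by rw [hg, htc]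
      _ = (g⁻¹ * c * g) * (w * w) := by group
  apply S.star (E := E.map (MulAut.conj g⁻¹).toMonoidHom) (d := g⁻¹ * c * g)
  · rw [← hE]
    exact (Nat.card_congr (E.equivMapOfInjective _ (MulAut.conj g⁻¹).injective).toEquiv).symm
  · intro a ha b hb
    rw [hgi] at ha hb
    have := hEc _ ha _ hb
    calc a * b = g⁻¹ * ((g * a * g⁻¹) * (g * b * g⁻¹)) * g := by group
      _ = b * a := by rw [this]; group
  · rw [hgi]
    have : g * (g⁻¹ * c * g) * g⁻¹ = c := by group
    rw [this]; exact hcE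
  · intro h
    apply hc1
    calc c = g * (g⁻¹ * c * g) * g⁻¹ := by group
      _ = 1 := by rw [h]; group
  · rw [S.D.mem_K]
    refine ⟨hc, ?_⟩
    intro h2
    have h3 : orderOf (g⁻¹ * c * g) ∣ 3 := by
      apply orderOf_dvd_of_pow_eq_one
      calc (g⁻¹ * c * g) ^ 3 = g⁻¹ * (c * c * c) * g := by
            simp only [pow_succ, pow_zero, one_mul]; group
        _ = 1 := by rw [hc3]; group
    have := h2.trans h3
    norm_num at this
  · intro e he
    rw [hgi] at he ⊢
    have := htE _ he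
    have e1 : g * (w * w * e * (w * w)⁻¹) * g⁻¹ =
        (g * (w * w) * g⁻¹) * (g * e * g⁻¹) * (g * (w * w) * g⁻¹)⁻¹ := by group
    rw [e1, hg]; exact this

theorem exists_E [IsSimpleGroup G] (hna : ¬ IsMulCommutative G) {d : G} (hd1 : d ≠ 1)
    (hd3 : d * d * d = 1) (hd : d ∈ KK w) :
    ∃ E : Subgroup G, Nat.card E = 9 ∧ (∀ a ∈ E, ∀ b ∈ E, a * b = b * a) ∧ d ∈ E ∧
      Nat.card (normalizer (E : Set G)) = 36 := by
  haveI : Fact (Nat.Prime 3) := ⟨Nat.prime_three⟩
  obtain ⟨P, hdP⟩ := H4.exists_sylow_mem (p := 3) (k := 1) (t := d) (by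
    rw [pow_one, ← hd3]; simp only [pow_succ, pow_zero, one_mul])
  have hP9 : Nat.card P = 9 :=
    H17.card_sylow_eq P (k := 2) (m := 280) (by rw [S.cG]; norm_num) (by norm_num)
  have hPc : ∀ a ∈ (P : Subgroup G), ∀ b ∈ (P : Subgroup G), a * b = b * a := by
    haveI := H17.isMulCommutative_of_card_prime_sq (p := 3) (H := P) hP9
    intro a ha b hb
    exact congrArg Subtype.val (IsMulCommutative.is_comm.comm (⟨a, ha⟩ : P) ⟨b, hb⟩)
  -- centralizer
  have hC : Nat.card (centralizer ((P : Subgroup G) : Set G)) = 9 := by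
    have hle : centralizer ((P : Subgroup G) : Set G) ≤ normalizer (DD w v : Set G) := by
      intro e he
      exact S.mem_N_of_comm hd1 hd ((mem_centralizer_iff.1 he) d hdP).symm
    have h1 := card_dvd_of_le hle
    rw [S.cN] at h1
    have h2 : ¬ 2 ∣ Nat.card (centralizer ((P : Subgroup G) : Set G)) := by
      intro h
      haveI : Fact (Nat.Prime 2) := ⟨Nat.prime_two⟩
      obtain ⟨⟨t, ht⟩, ho⟩ := exists_prime_orderOf_dvd_card' 2 h
      rw [orderOf_mk] at ho
      have ht' := mem_centralizer_iff.1 ht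
      exact S.star' ho hd1 hd3 (ht' d hdP).symm hP9 hPc hdP (fun e he => by
        have := ht' e he
        rw [← this, mul_assoc, mul_inv_cancel, mul_one]; exact he)
    have h3 : 9 ∣ Nat.card (centralizer ((P : Subgroup G) : Set G)) := by
      rw [← hP9]
      apply card_dvd_of_le
      intro x hx
      rw [mem_centralizer_iff]
      intro y hy
      exact (hPc x hx y hy).symm
    obtain ⟨m, hm⟩ := h3
    rw [hm] at h1 h2 ⊢
    have h4 : m ∣ 8 := Nat.dvd_of_mul_dvd_mul_left (by norm_num : 0 < 9) h1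
    have h5 : ¬ 2 ∣ m := fun h => h2 (Dvd.dvd.mul_left h 9)
    have h6 : m ≤ 8 := Nat.le_of_dvd (by norm_num) h4
    interval_cases m <;> omega
  obtain ⟨c, hc⟩ : ∃ c, c = (centralizer ((P : Subgroup G) : Set G)).relIndex
    (normalizer ((P : Subgroup G) : Set G)) := ⟨_, rfl⟩
  have hcN : c * 9 = Nat.card (normalizer ((P : Subgroup G) : Set G)) := by
    rw [← hC, hc]; exact H17.relIndex_mul_card_of_le (centralizer_le_normalizer _)
  have hc1 : c ≠ 1 := by
    rw [hc]; exact H17.relIndex_ne_one hna (by rw [S.cG]; norm_num) P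
  have hNn := H17.card_normalizer_mul P
  rw [← hcN, S.cG] at hNn
  have hmod := H17.card_sylow_mod (p := 3) (G := G)
  have hcn : c * Nat.card (Sylow 3 G) = 280 := by
    have : c * 9 * Nat.card (Sylow 3 G) = 9 * (c * Nat.card (Sylow 3 G)) := by ring
    omega
  have key : ∀ p : ℕ, p.Prime → (p = 5 ∨ p = 7) → ¬ p ∣ c := by
    intro p hp hp5 hpc
    haveI : Fact p.Prime := ⟨hp⟩
    have h1 : p ∣ Nat.card (normalizer ((P : Subgroup G) : Set G)) := by
      rw [← hcN]; exact Dvd.dvd.mul_right hpc 9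
    obtain ⟨⟨x, hx⟩, ho⟩ := exists_prime_orderOf_dvd_card' p h1
    rw [orderOf_mk] at ho
    have h2 := comm_of_order hP9 hp hp5 hx ho
    have h3 : x ∈ centralizer ((P : Subgroup G) : Set G) := by
      rw [mem_centralizer_iff]; intro y hy; exact (h2 y hy).symm
    have h4 := orderOf_dvd_natCard (⟨x, h3⟩ : centralizer ((P : Subgroup G) : Set G))
    rw [orderOf_mk, ho, hC] at h4
    rcases hp5 with rfl | rfl <;> norm_num at h4
  have h5 := key 5 (by norm_num) (Or.inl rfl)
  have h7 := key 7 (by norm_num) (Or.inr rfl)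
  have hc8 : c ∣ 8 := by
    have h1 : c ∣ 8 * 35 := ⟨_, hcn.symm⟩
    refine Nat.Coprime.dvd_of_dvd_mul_right ?_ h1
    rw [show 35 = 5 * 7 by norm_num]
    exact Nat.Coprime.mul_right (((Nat.Prime.coprime_iff_not_dvd (by norm_num)).2 h5).symm)
      (((Nat.Prime.coprime_iff_not_dvd (by norm_num)).2 h7).symm)
  have hc4 : c = 4 := by
    have h6 : c ≤ 8 := Nat.le_of_dvd (by norm_num) hc8
    interval_cases c <;> omega
  refine ⟨P, hP9, hPc, hdP, ?_⟩
  rw [← hcN, hc4]

/-- The element of order 4. -/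
theorem exists_t [IsSimpleGroup G] (hna : ¬ IsMulCommutative G) {d : G} (hd1 : d ≠ 1)
    (hd3 : d * d * d = 1) (hd : d ∈ KK w) (hall : ∀ x ∈ KK w, x = 1 ∨ x = d ∨ x = d⁻¹) :
    ∃ t : G, t ∉ normalizer (DD w v : Set G) ∧ t * t ≠ 1 ∧ t * t * (t * t) = 1 ∧
      t * t * d * (t * t)⁻¹ = d⁻¹ ∧ d * (t * d * t⁻¹) = t * d * t⁻¹ * d := by
  obtain ⟨E, hE9, hEc, hdE, hN36⟩ := S.exists_E hna hd1 hd3 hd
  haveI : Fact (Nat.Prime 2) := ⟨Nat.prime_two⟩
  haveI : Fact (Nat.Prime 3) := ⟨Nat.prime_three⟩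
  have D := S.D
  have hEN : E ≤ normalizer (DD w v : Set G) := fun e he =>
    S.mem_N_of_comm hd1 hd (hEc e he d hdE)
  have hnle : ¬ normalizer (E : Set G) ≤ normalizer (DD w v : Set G) := by
    intro hle
    have hi : (normalizer (E : Set G)).relIndex (normalizer (DD w v : Set G)) = 2 := by
      have := H17.relIndex_mul_card_of_le hle
      rw [hN36, S.cN] at this
      omega
    have hw : w ∈ normalizer (DD w v : Set G) := D.centralizer_le D.w_mem_C
    have h2 := sq_mem_of_index_two (H := (normalizer (E : Set G)).subgroupOf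
      (normalizer (DD w v : Set G))) hi ⟨w, hw⟩
    rw [mem_subgroupOf] at h2
    have h3 : w * w ∈ normalizer (E : Set G) := by
      have : w ^ 2 ∈ normalizer (E : Set G) := h2
      rwa [pow_two] at this
    exact S.star hE9 hEc hdE hd1 hd (fun e he => (mem_normalizer_iff.1 h3 e).1 he)
  -- a subgroup of order 4
  obtain ⟨T0, hT0⟩ := Sylow.exists_subgroup_card_pow_prime (G := normalizer (E : Set G)) 2 (n := 2)
    (by rw [hN36]; norm_num)
  obtain ⟨T, hTdef⟩ : ∃ T : Subgroup G, T = T0.map (normalizer (E : Set G)).subtype := ⟨_, rfl⟩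
  have hT4 : Nat.card T = 4 := by
    rw [hTdef, ← Nat.card_congr (T0.equivMapOfInjective _ (normalizer (E : Set G)).subtype_injective).toEquiv,
      hT0]
    norm_num
  have hTN : T ≤ normalizer (E : Set G) := by
    rw [hTdef]; rintro _ ⟨x, -, rfl⟩; exact x.2
  have hTn : ¬ T ≤ normalizer (DD w v : Set G) := by
    intro hT
    apply hnle
    have h1 : 4 ∣ Nat.card (normalizer (E : Set G) ⊓ normalizer (DD w v : Set G) : Subgroup G) := by
      rw [← hT4]; exact card_dvd_of_le (le_inf hTN hT)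
    have h2 : 9 ∣ Nat.card (normalizer (E : Set G) ⊓ normalizer (DD w v : Set G) : Subgroup G) := by
      rw [← hE9]; exact card_dvd_of_le (le_inf le_normalizer hEN)
    have h3 : 36 ∣ Nat.card (normalizer (E : Set G) ⊓ normalizer (DD w v : Set G) : Subgroup G) :=
      Nat.Coprime.mul_dvd_of_dvd_of_dvd (by norm_num : Nat.Coprime 4 9) h1 h2
    have h4 : normalizer (E : Set G) ⊓ normalizer (DD w v : Set G) = normalizer (E : Set G) := by
      apply eq_of_le_of_card_ge inf_le_left
      rw [hN36]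
      exact Nat.le_of_dvd Nat.card_pos h3
    rw [← h4]; exact inf_le_right
  obtain ⟨t, htT, htn⟩ : ∃ t ∈ T, t ∉ normalizer (DD w v : Set G) := by
    by_contra hcon
    push Not at hcon
    exact hTn hcon
  have ht4 : t * t * (t * t) = 1 := by
    have h1 := orderOf_dvd_natCard (⟨t, htT⟩ : T)
    rw [orderOf_mk, hT4] at h1
    have h2 := orderOf_dvd_iff_pow_eq_one.1 h1
    rw [← h2]; simp only [pow_succ, pow_zero, one_mul]; group
  have conjE : ∀ s ∈ normalizer (E : Set G), ∀ e ∈ E, s * e * s⁻¹ ∈ E := fun s hs e he =>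
    (mem_normalizer_iff.1 hs e).1 he
  have cube : ∀ s ∈ normalizer (E : Set G), (d * (s * d * s⁻¹)) * (d * (s * d * s⁻¹)) *
      (d * (s * d * s⁻¹)) = 1 := by
    intro s hs
    have hc : d * (s * d * s⁻¹) = (s * d * s⁻¹) * d := hEc _ hdE _ (conjE s hs d hdE)
    have h2 : (s * d * s⁻¹) * (s * d * s⁻¹) * (s * d * s⁻¹) = 1 := by
      calc (s * d * s⁻¹) * (s * d * s⁻¹) * (s * d * s⁻¹) = s * (d * d * d) * s⁻¹ := by group
        _ = 1 := by rw [hd3]; group
    have hcm : Commute d (s * d * s⁻¹) := hc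
    have h3 : (d * (s * d * s⁻¹)) ^ 3 = 1 := by
      rw [hcm.mul_pow]
      have e1 : d ^ 3 = 1 := by rw [← hd3]; simp only [pow_succ, pow_zero, one_mul]
      have e2 : (s * d * s⁻¹) ^ 3 = 1 := by rw [← h2]; simp only [pow_succ, pow_zero, one_mul]
      rw [e1, e2, one_mul]
    rw [← h3]; simp only [pow_succ, pow_zero, one_mul]
  -- an involution normalizing `E` inverts `d`
  have inv : ∀ s ∈ normalizer (E : Set G), s * s = 1 → s ≠ 1 → s * d * s⁻¹ = d⁻¹ := by
    intro s hs hs2 hs1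
    by_contra hne
    have ho : orderOf s = 2 := orderOf_eq_prime (by rw [pow_two]; exact hs2) hs1
    have hc : d * (s * d * s⁻¹) = (s * d * s⁻¹) * d := hEc _ hdE _ (conjE s hs d hdE)
    apply S.star' ho (c := d * (s * d * s⁻¹)) _ (cube s hs) _ hE9 hEc
      (mul_mem hdE (conjE s hs d hdE)) (conjE s hs)
    · intro h
      exact hne (eq_inv_of_mul_eq_one_right h)
    · have hsi : s⁻¹ = s := inv_eq_of_mul_eq_one_right hs2
      calc s * (d * (s * d * s⁻¹)) = (s * d * s⁻¹) * (s * s) * d * s⁻¹ := by group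
        _ = (s * d * s⁻¹) * d * s⁻¹ := by rw [hs2, mul_one]
        _ = d * (s * d * s⁻¹) * s := by rw [← hc, hsi]
  have htN : t ∈ normalizer (E : Set G) := hTN htT
  have ht2 : t * t ≠ 1 := by
    intro h
    apply htn
    have h1 := inv t htN h (fun h1 => htn (h1 ▸ one_mem _))
    apply H21.mem_normalizer_of_map_conj_le
    rintro _ ⟨y, hy, rfl⟩
    show t * y * t⁻¹ ∈ DD w v
    have hyK : y ∈ KK w := by
      have : y ∈ DD w v := hy
      rwa [S.DD_eq] at this
    rw [S.DD_eq]
    rcases hall y hyK with h2 | h2 | h2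
    · rw [h2, mul_one, mul_inv_cancel]; exact one_mem _
    · rw [h2, h1]; exact inv_mem hd
    · have : t * y * t⁻¹ = (t * d * t⁻¹)⁻¹ := by rw [h2]; group
      rw [this, h1, inv_inv]; exact hd
  exact ⟨t, htn, ht2, ht4, inv _ (mul_mem htN htN) ht4 ht2,
    hEc _ hdE _ (conjE t htN d hdE)⟩

end S7

end Cfsg.Agent.H1.SF
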