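import Mathlib
import Cfsg.Agent.H1.SFA8

/-!
# Self-centralizing elements of order 4: the case of order 2520, end
-/

set_option autoImplicit false
set_option linter.unusedSectionVars false
set_option linter.unusedVariables false
set_option linter.style.haveILetI false

namespace Cfsg.Agent.H1.SF

open Subgroup Cfsg
open scoped Pointwise

universe u

variable {G : Type u} [Group G] [Finite G] {w v : G}

namespace S7

variable (S : S7 w v)

include S

/-- Criterion for membership in the normalizer. -/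
theorem mem_N_of_conj {d s : G} (hd : d ∈ KK w) (hall : ∀ x ∈ KK w, x = 1 ∨ x = d ∨ x = d⁻¹)
    (h : s * d * s⁻¹ ∈ KK w) : s ∈ normalizer (DD w v : Set G) := by
  apply H21.mem_normalizer_of_map_conj_le
  rintro _ ⟨y, hy, rfl⟩
  show s * y * s⁻¹ ∈ DD w v
  have hyK : y ∈ KK w := by
    have : y ∈ DD w v := hy
    rwa [S.DD_eq] at this
  rw [S.DD_eq]
  rcases hall y hyK with h2 | h2 | h2
  · rw [h2, mul_one, mul_inv_cancel]; exact one_mem _
  · rw [h2]; exact h
  · have : s * y * s⁻¹ = (s * d * s⁻¹)⁻¹ := by rw [h2]; group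
    rw [this]; exact inv_mem h

theorem exists_t' [IsSimpleGroup G] (hna : ¬ IsMulCommutative G) {d : G} (hd1 : d ≠ 1)
    (hd3 : d * d * d = 1) (hd : d ∈ KK w) (hall : ∀ x ∈ KK w, x = 1 ∨ x = d ∨ x = d⁻¹) :
    ∃ t : G, t ∉ normalizer (DD w v : Set G) ∧ t * t = v * w ∧
      ∀ x ∈ KK w, x * (t * x * t⁻¹) = t * x * t⁻¹ * x := by
  obtain ⟨t, htn, ht2, ht4, htd, htc⟩ := S.exists_t hna hd1 hd3 hd hall
  haveI : Fact (Nat.Prime 2) := ⟨Nat.prime_two⟩
  have D := S.D
  have hwN : w ∈ normalizer (DD w v : Set G) := D.centralizer_le D.w_mem_C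
  have hvN : v ∈ normalizer (DD w v : Set G) := D.centralizer_le D.v_mem_C
  have h0N : t * t ∈ normalizer (DD w v : Set G) :=
    S.mem_N_of_conj hd hall (by rw [htd]; exact inv_mem hd)
  obtain ⟨P, hP, -, h8⟩ := D.exists_sylow
  have hPN : (P : Subgroup G) ≤ normalizer (DD w v : Set G) := by
    rw [hP, Subgroup.closure_le]
    rintro x (rfl | rfl)
    · exact hvN
    · exact mul_mem hvN hwN
  obtain ⟨Q, hQ⟩ := H4.exists_sylow_mem (p := 2) (k := 1)
    (t := (⟨t * t, h0N⟩ : normalizer (DD w v : Set G))) (by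
      apply Subtype.ext
      show (t * t) ^ 2 ^ 1 = 1
      rw [pow_one, pow_two, ht4])
  obtain ⟨n, hn⟩ := MulAction.exists_smul_eq (normalizer (DD w v : Set G)) Q (P.subtype hPN)
  have hyS : (n : G) * (t * t) * (n : G)⁻¹ ∈ closure ({v, v * w} : Set G) := by
    have h1 : n * ⟨t * t, h0N⟩ * n⁻¹ ∈ ((n • Q : Sylow 2 _) : Subgroup _) := by
      rw [Sylow.coe_subgroup_smul]
      exact Subgroup.smul_mem_pointwise_smul _ (MulAut.conj n) _ hQ
    rw [hn] at h1
    have h2 : (n : G) * (t * t) * (n : G)⁻¹ ∈ (P : Subgroup G) := h1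
    rwa [hP] at h2
  obtain ⟨y, hy⟩ : ∃ y, y = (n : G) * (t * t) * (n : G)⁻¹ := ⟨_, rfl⟩
  rw [← hy] at hyS
  have hy1 : y ≠ 1 := by
    intro h
    rw [h] at hy
    apply ht2
    calc t * t = (n : G)⁻¹ * ((n : G) * (t * t) * (n : G)⁻¹) * n := by group
      _ = 1 := by rw [← hy]; group
  have hy2 : y * y = 1 := by
    rw [hy]
    calc _ = (n : G) * (t * t * (t * t)) * (n : G)⁻¹ := by group
      _ = 1 := by rw [ht4]; group
  -- `y` inverts some element of `K`
  obtain ⟨d', hd'⟩ : ∃ d', d' = (n : G) * d * (n : G)⁻¹ := ⟨_, rfl⟩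
  have hd'K : d' ∈ KK w := by
    have h1 := (mem_normalizer_iff.1 n.2 d).1 (by
      show d ∈ DD w v
      rw [S.DD_eq]; exact hd)
    have h2 : d' ∈ DD w v := by rw [hd']; exact h1
    rwa [S.DD_eq] at h2
  have hd'1 : d' ≠ 1 := by
    intro h
    rw [h] at hd'
    apply hd1
    calc d = (n : G)⁻¹ * ((n : G) * d * (n : G)⁻¹) * n := by group
      _ = 1 := by rw [← hd']; group
  have hyd : y * d' * y⁻¹ = d'⁻¹ := by
    rw [hy, hd']
    calc _ = (n : G) * (t * t * d * (t * t)⁻¹) * (n : G)⁻¹ := by group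
      _ = ((n : G) * d * (n : G)⁻¹)⁻¹ := by rw [htd]; group
  have hnc : y * d' ≠ d' * y := by
    intro h
    rw [h, mul_assoc, mul_inv_cancel, mul_one] at hyd
    have h2 : d' * d' = 1 := by nth_rewrite 1 [hyd]; exact inv_mul_cancel d'
    have h3 : orderOf d' = 2 := orderOf_eq_prime (by rw [pow_two]; exact h2) hd'1
    exact (D.mem_K.1 hd'K).2 (by rw [h3])
  -- we may assume that `t²` is conjugate to `v w`
  have key : ∃ m ∈ normalizer (DD w v : Set G), m * (t * t) * m⁻¹ = v * w := by
    obtain ⟨i, h | h⟩ := D.mem_S.1 hyS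
    · exfalso
      fin_cases i
      · exact hy1 (by rw [h]; exact pow_zero w)
      · have h' : y = w := by rw [h]; exact pow_one w
        rw [h'] at hy2
        exact D.z1 hy2
      · have h' : y = w * w := by rw [h]; exact pow_two w
        apply hnc
        rw [h']; exact (D.mem_K.1 hd'K).1
      · have h' : y = w⁻¹ := by
          rw [h, D.wi]
          show w ^ 3 = _
          simp only [pow_succ, pow_zero, one_mul]
        rw [h'] at hy2
        apply D.z1
        have h9 : w⁻¹ * w⁻¹ = (w * w)⁻¹ := (mul_inv_rev w w).symm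
        rw [h9, inv_eq_one] at hy2
        exact hy2
    · fin_cases i
      · exfalso
        have h' : y = v := by rw [h]; exact (congrArg (· * v) (pow_zero w)).trans (one_mul v)
        apply hnc
        rw [h']; exact (S.v_comm hd'K).symm
      · have h' : y = w * v := by rw [h]; exact congrArg (· * v) (pow_one w)
        refine ⟨w⁻¹ * n, mul_mem (inv_mem hwN) n.2, ?_⟩
        calc w⁻¹ * (n : G) * (t * t) * (w⁻¹ * (n : G))⁻¹ =
              w⁻¹ * ((n : G) * (t * t) * (n : G)⁻¹) * w := by group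
          _ = w⁻¹ * (w * v) * w := by rw [← hy, h']
          _ = v * w := by group
      · exfalso
        have h' : y = w * w * v := by rw [h]; exact congrArg (· * v) (pow_two w)
        apply hnc
        rw [h', mul_assoc, ← S.v_comm hd'K, ← mul_assoc, (D.mem_K.1 hd'K).1, mul_assoc]
      · have h' : y = v * w := by
          rw [h, D.vw, D.wi]
          show w ^ 3 * v = _
          simp only [pow_succ, pow_zero, one_mul]
        exact ⟨n, n.2, by rw [← hy, h']⟩
  obtain ⟨m, hm, hmt⟩ := key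
  refine ⟨m * t * m⁻¹, ?_, ?_, ?_⟩
  · intro h
    apply htn
    have h1 := mul_mem (mul_mem (inv_mem hm) h) hm
    have h2 : m⁻¹ * (m * t * m⁻¹) * m = t := by group
    rwa [h2] at h1
  · calc (m * t * m⁻¹) * (m * t * m⁻¹) = m * (t * t) * m⁻¹ := by group
      _ = v * w := hmt
  · intro x hx
    have hx' : m⁻¹ * x * m ∈ KK w := by
      have h1 := (mem_normalizer_iff.1 (inv_mem hm) x).1 (by
        show x ∈ DD w v
        rw [S.DD_eq]; exact hx)
      rw [inv_inv] at h1
      have h2 : m⁻¹ * x * m ∈ DD w v := h1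
      rwa [S.DD_eq] at h2
    have h3 : (m⁻¹ * x * m) * (t * (m⁻¹ * x * m) * t⁻¹) =
        t * (m⁻¹ * x * m) * t⁻¹ * (m⁻¹ * x * m) := by
      rcases hall _ hx' with h | h | h
      · rw [h]; group
      · rw [h]; exact htc
      · rw [h]
        have h4 : Commute d (t * d * t⁻¹) := htc
        have h5 := h4.inv_inv
        have h6 : (t * d * t⁻¹)⁻¹ = t * d⁻¹ * t⁻¹ := by group
        rw [h6] at h5
        exact h5.eq
    calc x * (m * t * m⁻¹ * x * (m * t * m⁻¹)⁻¹) =
          m * ((m⁻¹ * x * m) * (t * (m⁻¹ * x * m) * t⁻¹)) * m⁻¹ := by group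
      _ = m * (t * (m⁻¹ * x * m) * t⁻¹ * (m⁻¹ * x * m)) * m⁻¹ := by rw [h3]
      _ = m * t * m⁻¹ * x * (m * t * m⁻¹)⁻¹ * x := by group

theorem exists_rels [IsSimpleGroup G] (hna : ¬ IsMulCommutative G) :
    ∃ e t k h : G, e ∈ KK w ∧ e ≠ 1 ∧ t ∉ normalizer (DD w v : Set G) ∧ h = t * e * t⁻¹ ∧
      h * e = e * h ∧ k * (w * w) * k⁻¹ = v * w ∧ Rels w v e k h := by
  obtain ⟨d, hd1, hd3, hd, hall⟩ := S.exists_d
  obtain ⟨t, htn, ht2, htc⟩ := S.exists_t' hna hd1 hd3 hd hall
  obtain ⟨k, hk1, hk2, hk3, hk4⟩ := S.exists_k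
  have D := S.D
  obtain ⟨V, hVk, hV⟩ := S.exists_V
  have hzV : w * w ∈ V := (hV _).2 (Or.inr (Or.inl rfl))
  have hxx : (k⁻¹ * t * k) * (k⁻¹ * t * k) = w * w := by
    calc (k⁻¹ * t * k) * (k⁻¹ * t * k) = k⁻¹ * (t * t) * k := by group
      _ = k⁻¹ * (k * (w * w) * k⁻¹) * k := by rw [ht2, hk1]
      _ = w * w := by group
  have hxz : (k⁻¹ * t * k) * (w * w) = (w * w) * (k⁻¹ * t * k) := by
    rw [← hxx]; group
  obtain ⟨κ, hκ, s, hs, hx⟩ := D.exists_decomp hxz
  have hsC : w * w * s = s * (w * w) := by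
    have h1 := D.clo_le hs
    exact (mem_centralizer_singleton_iff.1 h1).symm
  have hss : s * s = w * w := by
    have h1 : (κ * (s * κ * s⁻¹)) * (s * s) = 1 * (w * w) := by
      rw [one_mul, ← hxx, hx]; group
    exact (D.KS_inj (mul_mem hκ (D.conj_K hsC hκ)) (one_mem _) (mul_mem hs hs)
      (mul_mem (D.mem_S.2 ⟨1, Or.inl (pow_one w).symm⟩) (D.mem_S.2 ⟨1, Or.inl (pow_one w).symm⟩)) h1).2
  have hsw : s = w ∨ s = w⁻¹ := by
    obtain ⟨i, h | h⟩ := D.mem_S.1 hs
    · fin_cases i
      · exfalso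
        have h' : s = 1 := by rw [h]; exact pow_zero w
        rw [h', one_mul] at hss
        exact D.z1 hss.symm
      · left; rw [h]; exact pow_one w
      · exfalso
        have h' : s = w * w := by rw [h]; exact pow_two w
        rw [h', D.w4] at hss
        exact D.z1 hss.symm
      · right
        rw [h, D.wi]
        show w ^ 3 = _
        simp only [pow_succ, pow_zero, one_mul]
    · exfalso
      have hinv : v * w ^ (i : ℕ) * v = (w ^ (i : ℕ))⁻¹ := by
        have h1 : v * w ^ (i : ℕ) * v⁻¹ = (v * w * v⁻¹) ^ (i : ℕ) := (conj_pow).symm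
        rw [D.vi, D.inv] at h1
        rw [h1, inv_pow]
      apply D.z1
      rw [← hss, h]
      calc w ^ (i : ℕ) * v * (w ^ (i : ℕ) * v) = w ^ (i : ℕ) * (v * w ^ (i : ℕ) * v) := by group
        _ = 1 := by rw [hinv, mul_inv_cancel]
  -- replace `t` by `t⁻¹` if necessary
  obtain ⟨t', e, he, htn', htc', hte⟩ : ∃ t' e : G, e ∈ KK w ∧
      t' ∉ normalizer (DD w v : Set G) ∧ (∀ x ∈ KK w, x * (t' * x * t'⁻¹) = t' * x * t'⁻¹ * x) ∧
      t' = k * w * e * k⁻¹ := by
    have hκi : w * κ⁻¹ = κ * w := by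
      have h1 := D.K_main.1 κ hκ
      calc w * κ⁻¹ = (w * κ * w⁻¹)⁻¹ * w := by group
        _ = κ * w := by rw [h1, inv_inv]
    rcases hsw with h | h
    · refine ⟨t, κ⁻¹, inv_mem hκ, htn, htc, ?_⟩
      rw [h, ← hκi] at hx
      calc t = k * (k⁻¹ * t * k) * k⁻¹ := by group
        _ = k * w * κ⁻¹ * k⁻¹ := by rw [hx]; group
    · refine ⟨t⁻¹, κ⁻¹, inv_mem hκ, fun h2 => htn (by simpa using inv_mem h2), ?_, ?_⟩
      · intro x hx'
        have h1 := htc x hx'
        calc x * (t⁻¹ * x * t⁻¹⁻¹) = t⁻¹ * ((t * x * t⁻¹) * x) * t := by group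
          _ = t⁻¹ * (x * (t * x * t⁻¹)) * t := by rw [h1]
          _ = t⁻¹ * x * t⁻¹⁻¹ * x := by group
      · calc t⁻¹ = k * (k⁻¹ * t * k)⁻¹ * k⁻¹ := by group
          _ = k * w * κ⁻¹ * k⁻¹ := by rw [hx, h]; group
  -- `e ≠ 1`
  have he1 : e ≠ 1 := by
    intro he1
    rw [he1, mul_one] at hte
    obtain ⟨h0, hh0⟩ : ∃ h0, h0 = t' * d * t'⁻¹ := ⟨_, rfl⟩
    have hh3 : h0 * h0 * h0 = 1 := by
      rw [hh0]
      calc _ = t' * (d * d * d) * t'⁻¹ := by group
        _ = 1 := by rw [hd3]; group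
    have hh1 : h0 ≠ 1 := by
      intro h
      apply hd1
      calc d = t'⁻¹ * h0 * t' := by rw [hh0]; group
        _ = 1 := by rw [h]; group
    have hhN : h0 ∈ normalizer (V : Set G) := by
      rw [S.norm_V hV]
      apply S.mem_N_of_comm hd1 hd
      rw [hh0]; exact (htc' d hd).symm
    have hzt : w * w * t' = t' * (w * w * (v * w)) := by
      have h3 : k * (w * w * (v * w)) * k⁻¹ = w * w := by
        calc k * (w * w * (v * w)) * k⁻¹ = (k * (w * w) * k⁻¹) * (k * (v * w) * k⁻¹) := by group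
          _ = (v * w) * (w * w * (v * w)) := by rw [hk1, hk2]
          _ = w * w := by rw [D.swap.zv, ← mul_assoc, D.swap.vv, one_mul]
      have h4 : w * w * (v * w) * w = w * (v * w) := by
        calc w * w * (v * w) * w = (w * w * v) * (w * w) := by group
          _ = v * (w * w * (w * w)) := by rw [D.zv]; group
          _ = v := by rw [D.w4, mul_one]
          _ = w * (w⁻¹ * v) := by group
          _ = w * (v * w) := by rw [← D.vw]
      rw [hte]
      calc w * w * (k * w * k⁻¹) = (k * (w * w * (v * w)) * k⁻¹) * (k * w * k⁻¹) := by rw [h3]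
        _ = k * (w * w * (v * w) * w) * k⁻¹ := by group
        _ = k * w * k⁻¹ * (k * (v * w) * k⁻¹) := by rw [h4]; group
        _ = k * w * k⁻¹ * (w * w * (v * w)) := by rw [hk2]
    have hzd : w * w * (v * w) * d = d⁻¹ * (w * w * (v * w)) := by
      have h5 := S.vw_inv hd
      have h6 := (D.mem_K.1 (inv_mem hd)).1
      calc w * w * (v * w) * d = w * w * ((v * w) * d * (v * w)⁻¹) * (v * w) := by group
        _ = w * w * d⁻¹ * (v * w) := by rw [h5]
        _ = d⁻¹ * (w * w * (v * w)) := by rw [h6]; group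
    have hzh : w * w * h0 * (w * w)⁻¹ = h0⁻¹ := by
      rw [hh0, mul_inv_eq_iff_eq_mul]
      calc w * w * (t' * d * t'⁻¹) = (w * w * t') * d * t'⁻¹ := by group
        _ = t' * (w * w * (v * w) * d) * t'⁻¹ := by rw [hzt]; group
        _ = t' * d⁻¹ * t'⁻¹ * (t' * (w * w * (v * w))) * t'⁻¹ := by rw [hzd]; group
        _ = t' * d⁻¹ * t'⁻¹ * (w * w * t') * t'⁻¹ := by rw [hzt]
        _ = (t' * d * t'⁻¹)⁻¹ * (w * w) := by group
    have h0V : h0 ∈ V := by
      have h7 : h0 * (w * w)⁻¹ * h0⁻¹ ∈ V := (mem_normalizer_iff.1 hhN _).1 (inv_mem hzV)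
      have h8 : w * w * (h0 * (w * w)⁻¹ * h0⁻¹) ∈ V := mul_mem hzV h7
      have h9 : w * w * (h0 * (w * w)⁻¹ * h0⁻¹) = h0 := by
        calc w * w * (h0 * (w * w)⁻¹ * h0⁻¹) = (w * w * h0 * (w * w)⁻¹) * h0⁻¹ := by group
          _ = h0⁻¹ * h0⁻¹ := by rw [hzh]
          _ = (h0 * h0 * h0) * (h0⁻¹ * h0⁻¹) := by rw [hh3, one_mul]
          _ = h0 := by group
      rwa [h9] at h8
    have h10 : orderOf h0 ∣ 4 := by
      rw [← hVk.card_four]
      have := orderOf_dvd_natCard (⟨h0, h0V⟩ : V)
      rwa [orderOf_mk] at this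
    have h11 : orderOf h0 ∣ 3 := orderOf_dvd_of_pow_eq_one (by
      rw [← hh3]; simp only [pow_succ, pow_zero, one_mul])
    have h12 : orderOf h0 ∣ Nat.gcd 4 3 := Nat.dvd_gcd h10 h11
    exact hh1 (orderOf_eq_one_iff.1 (Nat.dvd_one.1 h12))
  have he3 : e * e * e = 1 := by
    rcases hall e he with h | h | h
    · exact absurd h he1
    · rw [h, hd3]
    · rw [h]
      calc d⁻¹ * d⁻¹ * d⁻¹ = (d * d * d)⁻¹ := by group
        _ = 1 := by rw [hd3, inv_one]
  refine ⟨e, t', k, t' * e * t'⁻¹, he, he1, htn', rfl, (htc' e he).symm, hk1, ?_⟩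
  have hwinv : w * e * w⁻¹ = e⁻¹ := D.K_main.1 e he
  exact
    { rw := by rw [← D.w4]; group
      rv := D.vv
      rvw := by rw [D.inv, inv_mul_cancel]
      rd := he3
      rdv := by rw [S.v_comm he]; group
      rwd := by rw [hwinv, inv_mul_cancel]
      rk := hk3
      rk1 := by
        calc k * w * w * k⁻¹ * w⁻¹ * v⁻¹ = (k * (w * w) * k⁻¹) * (v * w)⁻¹ := by group
          _ = 1 := by rw [hk1, mul_inv_cancel]
      rk2 := by
        calc k * v * w * k⁻¹ * w⁻¹ * v⁻¹ * w⁻¹ * w⁻¹ =
              (k * (v * w) * k⁻¹) * (w * w * (v * w))⁻¹ := by group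
          _ = 1 := by rw [hk2, mul_inv_cancel]
      rvk := hk4
      hh := by rw [hte]; group
      rhd := by rw [← htc' e he]; group }

/-- A simple group in the situation `S7` is the alternating group of degree 7. -/
theorem nonempty_A7 [IsSimpleGroup G] (hna : ¬ IsMulCommutative G) :
    Nonempty (G ≃* alternatingGroup (Fin 7)) := by
  obtain ⟨e, t, k, h, he, he1, htn, hh, hhe, hk1, R⟩ := S.exists_rels hna
  have D := S.D
  haveI : Fact (Nat.Prime 3) := ⟨Nat.prime_three⟩
  haveI : Fact (Nat.Prime 2) := ⟨Nat.prime_two⟩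
  obtain ⟨V, hVk, hV⟩ := S.exists_V
  have hzV : w * w ∈ V := (hV _).2 (Or.inr (Or.inl rfl))
  have hvV : v ∈ V := (hV _).2 (Or.inr (Or.inr (Or.inl rfl)))
  have hh3 : h * h * h = 1 := by
    rw [hh]
    calc _ = t * (e * e * e) * t⁻¹ := by group
      _ = 1 := by rw [R.rd]; group
  have hh1 : h ≠ 1 := by
    intro h1
    apply he1
    calc e = t⁻¹ * h * t := by rw [hh]; group
      _ = 1 := by rw [h1]; group
  have hoh : orderOf h = 3 := orderOf_eq_prime (by
    rw [← hh3]; simp only [pow_succ, pow_zero, one_mul]) hh1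
  have hoe : orderOf e = 3 := orderOf_eq_prime (by
    rw [← R.rd]; simp only [pow_succ, pow_zero, one_mul]) he1
  have hze : zpowers e = KK w := by
    apply eq_of_le_of_card_ge
    · rwa [zpowers_le]
    · rw [Nat.card_zpowers, hoe, S.card_K]
  have hall : ∀ x ∈ KK w, x = 1 ∨ x = e ∨ x = e⁻¹ := by
    obtain ⟨d0, h01, h03, h0K, h0all⟩ := S.exists_d
    intro x hx
    rcases h0all e he with h | h | h
    · exact absurd h he1
    · rw [h]; exact h0all x hx
    · rcases h0all x hx with h' | h' | h'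
      · exact Or.inl h'
      · right; right; rw [h, inv_inv]; exact h'
      · right; left; rw [h]; exact h'
  have hhN : h ∈ normalizer (DD w v : Set G) := S.mem_N_of_comm he1 he hhe
  have hhV : h ∈ normalizer (V : Set G) := by rw [S.norm_V hV]; exact hhN
  have hhK : h ∉ KK w := by
    intro h1
    exact htn (S.mem_N_of_conj he hall (by rw [← hh]; exact h1))
  have hnc : h * (w * w) ≠ w * w * h := by
    intro h1
    exact hhK (D.mem_K.2 ⟨h1.symm, by rw [hoh]; norm_num⟩)
  have hnc2 : h * h * (w * w) ≠ w * w * (h * h) := by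
    intro h1
    apply hnc
    have h2 : Commute (h * h) (w * w) := h1
    have h3 : Commute ((h * h) * (h * h)) (w * w) := h2.mul_left h2
    have h4 : (h * h) * (h * h) = h := by
      calc (h * h) * (h * h) = (h * h * h) * h := by group
        _ = h := by rw [hh3, one_mul]
    rw [h4] at h3
    exact h3.eq
  have hwN : w ∈ normalizer (DD w v : Set G) := D.centralizer_le D.w_mem_C
  have hvN : v ∈ normalizer (DD w v : Set G) := D.centralizer_le D.v_mem_C
  have heN : e ∈ normalizer (DD w v : Set G) := S.mem_N_of_comm he1 he rfl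
  have hkN : k ∉ normalizer (DD w v : Set G) := fun hk =>
    D.not_perm (by rw [S.k1]; norm_num) hk hk1
  have c1 : h * (w * w) * h⁻¹ ∈ V := (mem_normalizer_iff.1 hhV _).1 hzV
  have c2 : h * v * h⁻¹ ∈ V := (mem_normalizer_iff.1 hhV _).1 hvV
  have cne : h * (w * w) * h⁻¹ ≠ h * v * h⁻¹ := by
    intro h1
    exact D.z_ne_v (mul_left_cancel (mul_right_cancel h1))
  have cone : ∀ x : G, x ≠ 1 → h * x * h⁻¹ ≠ 1 := by
    intro x hx h1
    apply hx
    calc x = h⁻¹ * (h * x * h⁻¹) * h := by group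
      _ = 1 := by rw [h1]; group
  have hsq : ∀ y : G, h * (w * w) * h⁻¹ = y → h * y * h⁻¹ = w * w → False := by
    intro y h1 h2
    apply hnc2
    rw [← mul_inv_eq_iff_eq_mul]
    calc h * h * (w * w) * (h * h)⁻¹ = h * (h * (w * w) * h⁻¹) * h⁻¹ := by group
      _ = w * w := by rw [h1, h2]
  rcases (hV _).1 c1 with h1 | h1 | h1 | h1
  · exact absurd h1 (cone _ D.z1)
  · exact absurd (mul_inv_eq_iff_eq_mul.1 h1) hnc
  · exfalso
    rcases (hV _).1 c2 with h2 | h2 | h2 | h2
    · exact cone _ D.v1 h2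
    · exact hsq _ h1 h2
    · exact cne (h1.trans h2.symm)
    · exact hkN (R.plus h1 h2 _ hwN hvN heN hhN)
  · rcases (hV _).1 c2 with h2 | h2 | h2 | h2
    · exact absurd h2 (cone _ D.v1)
    · -- the good case
      apply R.minus hna S.cG h1 h2 _ S.cN hwN hvN heN hhN hkN
      obtain ⟨L, hL⟩ : ∃ L : Subgroup G, L = closure ({w, v, e, h} : Set G) := ⟨_, rfl⟩
      rw [← hL]
      have hwL : w ∈ L := by rw [hL]; exact subset_closure (by simp)
      have hvL : v ∈ L := by rw [hL]; exact subset_closure (by simp)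
      have heL : e ∈ L := by rw [hL]; exact subset_closure (by simp)
      have hhL : h ∈ L := by rw [hL]; exact subset_closure (by simp)
      have d8 : 8 ∣ Nat.card L := by
        obtain ⟨P, hP, -, h8⟩ := D.exists_sylow
        rw [← h8, hP]
        apply card_dvd_of_le
        rw [Subgroup.closure_le]
        rintro x (rfl | rfl)
        · exact hvL
        · exact mul_mem hvL hwL
      have d9 : 9 ∣ Nat.card L := by
        have e1 : zpowers e ≤ L := by rwa [zpowers_le]
        have e2 : zpowers h ≤ L := by rwa [zpowers_le]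
        have hdis : Disjoint (zpowers e) (zpowers h) := by
          rw [disjoint_iff]
          have h3 : Nat.card (zpowers e ⊓ zpowers h : Subgroup G) ∣ 3 := by
            rw [← hoh, ← Nat.card_zpowers]
            exact card_dvd_of_le inf_le_right
          rcases (Nat.dvd_prime Nat.prime_three).1 h3 with h4 | h4
          · exact Subgroup.card_eq_one.1 h4
          · exfalso
            apply hhK
            rw [← hze]
            have h5 : zpowers e ⊓ zpowers h = zpowers h := by
              apply eq_of_le_of_card_ge inf_le_right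
              rw [h4, Nat.card_zpowers, hoh]
            have h6 : h ∈ zpowers e ⊓ zpowers h := by rw [h5]; exact mem_zpowers h
            exact h6.1
        have hcm : ∀ (a : zpowers e) (b : zpowers h), Commute (inclusion e1 a) (inclusion e2 b) := by
          rintro ⟨a, i, rfl⟩ ⟨b, j, rfl⟩
          apply Subtype.ext
          show e ^ i * h ^ j = h ^ j * e ^ i
          have : Commute e h := hhe.symm
          exact (this.zpow_zpow i j).eq
        let f : zpowers e × zpowers h →* L := (inclusion e1).noncommCoprod (inclusion e2) hcm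
        have hf : Function.Injective f := by
          intro p q hpq
          have h7 := Subgroup.mul_injective_of_disjoint hdis
          apply h7
          exact congrArg Subtype.val hpq
        have h8 := Subgroup.card_dvd_of_injective f hf
        rw [Nat.card_prod, Nat.card_zpowers, Nat.card_zpowers, hoe, hoh] at h8
        exact h8
      exact Nat.Coprime.mul_dvd_of_dvd_of_dvd (by norm_num : Nat.Coprime 8 9) d8 d9
    · exfalso
      have h3 : h * (w * w * v) * h⁻¹ = w * w := by
        calc h * (w * w * v) * h⁻¹ = (h * (w * w) * h⁻¹) * (h * v * h⁻¹) := by group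
          _ = w * w * (v * v) := by rw [h1, h2]; group
          _ = w * w := by rw [D.vv, mul_one]
      exact hsq _ h1 h3
    · exact absurd (h1.trans h2.symm) cne

end S7

end Cfsg.Agent.H1.SF
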