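import Mathlib

/-!
# Self-centralizing elements of order 4: arithmetic
-/

set_option autoImplicit false

namespace Cfsg.Agent.H1.SF

/-- Clearing denominators in the equations for the normalizer. -/
theorem norm_clear {k1 k2 c m : ℕ} {f : ℤ} (hk1 : 0 < k1) (hk2 : 0 < k2) (hf : Odd f)
    (hf1 : f + 1 ≠ 0)
    (e3 : (((8 * (k1 * k2)) * c * 2 : ℕ) : ℚ) = m * (2 - 2 / f))
    (e4 : (((8 * (k1 * k2)) * (8 * (k1 * k2)) * (2 * k2 ^ 2) : ℕ) : ℚ) =
        m * ((k1 * k2 : ℕ) * (2 + 2 / f - 8 / (f + 1)))) :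
    8 * (k1 * k2 : ℤ) * c * f = m * (f - 1) ∧
      64 * (k1 * k2 : ℤ) * k2 ^ 2 * (f * (f + 1)) = m * (f - 1) ^ 2 := by
  have f0 : f ≠ 0 := by rintro rfl; exact absurd hf (by decide)
  have f0' : (f : ℚ) ≠ 0 := by exact_mod_cast f0
  have f1' : (f : ℚ) + 1 ≠ 0 := by exact_mod_cast hf1
  have hk : ((k1 * k2 : ℕ) : ℚ) ≠ 0 := by positivity
  constructor
  · have : (8 * (k1 * k2 : ℤ) * c * f : ℚ) = (m * (f - 1) : ℚ) := by
      push_cast at e3 ⊢
      field_simp at e3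
      linarith
    exact_mod_cast this
  · have : (64 * (k1 * k2 : ℤ) * k2 ^ 2 * (f * (f + 1)) : ℚ) = (m * (f - 1) ^ 2 : ℚ) := by
      have e5 : (2 + 2 / f - 8 / (f + 1) : ℚ) = 2 * (f - 1) ^ 2 / (f * (f + 1)) := by
        field_simp
        ring
      rw [e5] at e4
      have e6 : (((8 * (k1 * k2)) * (8 * (k1 * k2)) * (2 * k2 ^ 2) : ℕ) : ℚ) =
        ((k1 * k2 : ℕ) : ℚ) * (128 * ((k1 * k2 : ℕ) : ℚ) * k2 ^ 2) := by push_cast; ring
      rw [e6] at e4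
      have e7 : (m : ℚ) * (((k1 * k2 : ℕ) : ℚ) * (2 * (f - 1) ^ 2 / (f * (f + 1)))) =
        ((k1 * k2 : ℕ) : ℚ) * (m * (2 * (f - 1) ^ 2 / (f * (f + 1)))) := by ring
      rw [e7] at e4
      have e8 := mul_left_cancel₀ hk e4
      rw [← mul_div_assoc, eq_div_iff (mul_ne_zero f0' f1')] at e8
      push_cast at e8 ⊢
      linarith
    exact_mod_cast this

/-- The arithmetic of the normalizer. -/
theorem norm_arith {k1 k2 c m' : ℕ} {f : ℤ} (hk1 : Odd k1) (hk2 : Odd k2) (hm : Odd m')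
    (hf : Odd f)
    (hc : c ∣ 8 * (k1 * k2))
    (e3 : 8 * (k1 * k2 : ℤ) * c * f = (8 * m' : ℕ) * (f - 1))
    (e4 : 64 * (k1 * k2 : ℤ) * k2 ^ 2 * (f * (f + 1)) = (8 * m' : ℕ) * (f - 1) ^ 2) :
    ∃ (g q : ℤ), Odd g ∧ 0 < q ∧ m' * g ^ 2 = k1 * k2 ^ 3 * (4 * g + 1) * (2 * g + 1) ∧
      c * g = 4 * k2 ^ 2 * (2 * g + 1) ∧ k1 * g = k2 * (2 * g + 1) * q := by
  have k1pos : 0 < k1 := hk1.pos
  have k2pos : 0 < k2 := hk2.pos
  have k1Z : (k1 : ℤ) ≠ 0 := by exact_mod_cast k1pos.ne'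
  have k2Z : (k2 : ℤ) ≠ 0 := by exact_mod_cast k2pos.ne'
  have hk1' : Odd (k1 : ℤ) := by exact_mod_cast hk1
  have hk2' : Odd (k2 : ℤ) := by exact_mod_cast hk2
  have hm' : Odd (m' : ℤ) := by exact_mod_cast hm
  obtain ⟨a, rfl⟩ := hf
  push_cast at e3 e4
  have e5 : 4 * ((k1 : ℤ) * k2 ^ 3 * (2 * a + 1) * (a + 1)) = m' * a ^ 2 := by
    have : (32 : ℤ) * (4 * ((k1 : ℤ) * k2 ^ 3 * (2 * a + 1) * (a + 1))) = 32 * (m' * a ^ 2) := by
      linear_combination e4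
    exact mul_left_cancel₀ (by norm_num) this
  have e6 : (k1 : ℤ) * k2 * c * (2 * a + 1) = 2 * a * m' := by
    have : (8 : ℤ) * ((k1 : ℤ) * k2 * c * (2 * a + 1)) = 8 * (2 * a * m') := by
      linear_combination e3
    exact mul_left_cancel₀ (by norm_num) this
  have ha : Even a := by
    have h1 : Even ((m' : ℤ) * a ^ 2) := by
      rw [← e5]
      exact ⟨2 * ((k1 : ℤ) * k2 ^ 3 * (2 * a + 1) * (a + 1)), by ring⟩
    rcases Int.even_mul.1 h1 with h2 | h2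
    · exact absurd h2 (Int.not_even_iff_odd.2 hm')
    · exact (Int.even_pow.1 h2).1
  obtain ⟨g, rfl⟩ := ha
  have e7 : (m' : ℤ) * g ^ 2 = k1 * k2 ^ 3 * (4 * g + 1) * (2 * g + 1) := by
    have : (4 : ℤ) * ((m' : ℤ) * g ^ 2) = 4 * (k1 * k2 ^ 3 * (4 * g + 1) * (2 * g + 1)) := by
      linear_combination -e5
    exact mul_left_cancel₀ (by norm_num) this
  have hg : Odd g := by
    rw [← Int.not_even_iff_odd]
    intro hg
    have h1 : Even ((m' : ℤ) * g ^ 2) := Int.even_mul.2 (Or.inr (Int.even_pow.2 ⟨hg, by norm_num⟩))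
    rw [e7] at h1
    have h2 : Odd ((k1 : ℤ) * k2 ^ 3 * (4 * g + 1) * (2 * g + 1)) :=
      ((hk1'.mul (hk2'.pow)).mul ⟨2 * g, by ring⟩).mul ⟨g, rfl⟩
    exact (Int.not_even_iff_odd.2 h2) h1
  have g0 : g ≠ 0 := by rintro rfl; exact absurd hg (by decide)
  have g4 : 4 * g + 1 ≠ 0 := by omega
  have g2 : 2 * g + 1 ≠ 0 := by omega
  have e8 : (c : ℤ) * g = 4 * k2 ^ 2 * (2 * g + 1) := by
    have h1 : ((k1 : ℤ) * k2 * (4 * g + 1)) * ((c : ℤ) * g) =
        ((k1 : ℤ) * k2 * (4 * g + 1)) * (4 * k2 ^ 2 * (2 * g + 1)) := by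
      linear_combination g * e6 + 4 * e7
    exact mul_left_cancel₀ (mul_ne_zero (mul_ne_zero k1Z k2Z) g4) h1
  obtain ⟨t, ht⟩ := hc
  have ht' : 8 * ((k1 : ℤ) * k2) = c * t := by exact_mod_cast ht
  have e9 : 2 * (k1 : ℤ) * g = k2 * (2 * g + 1) * t := by
    have h1 : (4 * (k2 : ℤ)) * (2 * (k1 : ℤ) * g) = (4 * (k2 : ℤ)) * (k2 * (2 * g + 1) * t) := by
      linear_combination g * ht' + t * e8
    exact mul_left_cancel₀ (mul_ne_zero (by norm_num) k2Z) h1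
  have hte : Even (t : ℤ) := by
    have h1 : Even ((k2 : ℤ) * (2 * g + 1) * t) := by
      rw [← e9]; exact ⟨k1 * g, by ring⟩
    rcases Int.even_mul.1 h1 with h2 | h2
    · exact absurd h2 (Int.not_even_iff_odd.2 (hk2'.mul ⟨g, rfl⟩))
    · exact h2
  obtain ⟨q, hq⟩ := hte
  have e10 : (k1 : ℤ) * g = k2 * (2 * g + 1) * q := by
    rw [hq] at e9
    have : (2 : ℤ) * ((k1 : ℤ) * g) = 2 * (k2 * (2 * g + 1) * q) := by linear_combination e9
    exact mul_left_cancel₀ (by norm_num) this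
  refine ⟨g, q, hg, ?_, e7, e8, e10⟩
  have ht0 : (0 : ℤ) ≤ t := Int.natCast_nonneg t
  have hq0 : q ≠ 0 := by
    rintro rfl
    rw [mul_zero] at e10
    rcases mul_eq_zero.1 e10 with h | h
    · exact k1Z h
    · exact g0 h
  omega

/-- Both `k₁, k₂ > 1`. -/
theorem both_arith {k1 k2 : ℕ} {g q h p : ℤ} (hk1 : 0 < k1) (hk2 : 0 < k2) (hg : Odd g)
    (hh : Odd h) (hq : 0 < q) (hp : 0 < p) (e1 : k1 * g = k2 * (2 * g + 1) * q)
    (e2 : k2 * h = k1 * (2 * h + 1) * p) : g = -1 ∧ k1 = k2 := by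
  have g0 : g ≠ 0 := by rintro rfl; exact absurd hg (by decide)
  have h0 : h ≠ 0 := by rintro rfl; exact absurd hh (by decide)
  have k1Z : (k1 : ℤ) ≠ 0 := by exact_mod_cast hk1.ne'
  have k2Z : (k2 : ℤ) ≠ 0 := by exact_mod_cast hk2.ne'
  have e3 : g * h = (q * p) * ((2 * g + 1) * (2 * h + 1)) := by
    have : ((k1 : ℤ) * k2) * (g * h) = ((k1 : ℤ) * k2) * ((q * p) * ((2 * g + 1) * (2 * h + 1))) := by
      linear_combination (k2 * h) * e1 + (k2 * (2 * g + 1) * q) * e2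
    exact mul_left_cancel₀ (mul_ne_zero k1Z k2Z) this
  have hqp : 1 ≤ q * p := by nlinarith
  have hle : |(2 * g + 1) * (2 * h + 1)| ≤ |g * h| := by
    rw [e3, abs_mul (q * p)]
    have : 1 ≤ |q * p| := by rw [abs_of_pos (by linarith)]; exact hqp
    nlinarith [abs_nonneg ((2 * g + 1) * (2 * h + 1))]
  rw [abs_mul, abs_mul] at hle
  have hg1 : |g| ≤ |2 * g + 1| := by
    rcases lt_or_gt_of_ne g0 with h1 | h1
    · rw [abs_of_neg h1, abs_of_neg (by omega)]; omega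
    · rw [abs_of_pos h1, abs_of_pos (by omega)]; omega
  have hh1 : |h| ≤ |2 * h + 1| := by
    rcases lt_or_gt_of_ne h0 with h1 | h1
    · rw [abs_of_neg h1, abs_of_neg (by omega)]; omega
    · rw [abs_of_pos h1, abs_of_pos (by omega)]; omega
  have hgp : 0 < |g| := abs_pos.2 g0
  have hhp : 0 < |h| := abs_pos.2 h0
  have hg2 : |2 * g + 1| = |g| := by nlinarith
  have hh2 : |2 * h + 1| = |h| := by nlinarith
  have hgm : g = -1 := by
    rcases lt_or_gt_of_ne g0 with h1 | h1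
    · rw [abs_of_neg h1, abs_of_neg (by omega)] at hg2; omega
    · rw [abs_of_pos h1, abs_of_pos (by omega)] at hg2; omega
  have hhm : h = -1 := by
    rcases lt_or_gt_of_ne h0 with h1 | h1
    · rw [abs_of_neg h1, abs_of_neg (by omega)] at hh2; omega
    · rw [abs_of_pos h1, abs_of_pos (by omega)] at hh2; omega
  refine ⟨hgm, ?_⟩
  rw [hgm, hhm] at e3
  rw [hgm] at e1
  have hqp1 : q * p = 1 := by linarith
  have hq1 : q = 1 := by
    rcases Int.eq_one_or_neg_one_of_mul_eq_one hqp1 with h | h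
    · exact h
    · omega
  rw [hq1] at e1
  have : (k1 : ℤ) = k2 := by linarith
  exact_mod_cast this

/-- Clearing denominators in the equations for `G`. -/
theorem all_clear {k1 k2 n : ℕ} {f f2 f3 : ℤ} (hk1 : 0 < k1) (hk2 : 0 < k2) (hf : Odd f)
    (hf1 : f + 1 ≠ 0) (h2 : f2 ≠ 0) (h3 : f3 ≠ 0) (hs : f2 + f3 = f + 1)
    (e1 : (((8 * (k1 * k2)) * (8 * (k1 * k2)) * 4 : ℕ) : ℚ) = n * (1 + 1 / f - 1 / f2 - 1 / f3))
    (e2 : (((8 * (k1 * k2)) * (8 * (k1 * k2)) * (2 * k1 ^ 2 + 2 * k2 ^ 2) : ℕ) : ℚ) =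
        n * ((k1 * k2 : ℕ) * (1 + 1 / f + 1 / f2 + 1 / f3 - 8 / (f + 1)))) :
    256 * (k1 * k2 : ℤ) ^ 2 * f * (f2 * f3) = n * (f + 1) * (f2 * f3 - f) ∧
    64 * (k1 * k2 : ℤ) * (k1 + k2) ^ 2 * (f * (f + 1)) = n * (f - 1) ^ 2 := by
  have f0 : f ≠ 0 := by rintro rfl; exact absurd hf (by decide)
  have f0' : (f : ℚ) ≠ 0 := by exact_mod_cast f0
  have f1' : (f : ℚ) + 1 ≠ 0 := by exact_mod_cast hf1
  have f2' : (f2 : ℚ) ≠ 0 := by exact_mod_cast h2
  have f3' : (f3 : ℚ) ≠ 0 := by exact_mod_cast h3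
  have hs' : (f2 : ℚ) + f3 = f + 1 := by exact_mod_cast hs
  have hk : ((k1 * k2 : ℕ) : ℚ) ≠ 0 := by positivity
  constructor
  · have : (256 * (k1 * k2 : ℤ) ^ 2 * f * (f2 * f3) : ℚ) = (n * (f + 1) * (f2 * f3 - f) : ℚ) := by
      have e3 : (1 + 1 / f - 1 / f2 - 1 / f3 : ℚ) * (f * (f2 * f3)) =
          (f + 1) * (f2 * f3 - f) := by
        field_simp
        linear_combination (-(f : ℚ)) * hs'
      have e4 : (((8 * (k1 * k2)) * (8 * (k1 * k2)) * 4 : ℕ) : ℚ) * (f * (f2 * f3)) =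
          n * ((f + 1) * (f2 * f3 - f)) := by rw [e1, mul_assoc, e3]
      push_cast at e4 ⊢
      linear_combination e4
    exact_mod_cast this
  · have : (64 * (k1 * k2 : ℤ) * (k1 + k2) ^ 2 * (f * (f + 1)) : ℚ) = (n * (f - 1) ^ 2 : ℚ) := by
      have e6 : (((8 * (k1 * k2)) * (8 * (k1 * k2)) * (2 * k1 ^ 2 + 2 * k2 ^ 2) : ℕ) : ℚ) =
        ((k1 * k2 : ℕ) : ℚ) * (128 * ((k1 * k2 : ℕ) : ℚ) * (k1 ^ 2 + k2 ^ 2)) := by
          push_cast; ring
      rw [e6] at e2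
      have e7 : (n : ℚ) * ((k1 * k2 : ℕ) * (1 + 1 / f + 1 / f2 + 1 / f3 - 8 / (f + 1))) =
        ((k1 * k2 : ℕ) : ℚ) * (n * (1 + 1 / f + 1 / f2 + 1 / f3 - 8 / (f + 1))) := by ring
      rw [e7] at e2
      have e8 := mul_left_cancel₀ hk e2
      have e9 : (2 + 2 / f - 8 / (f + 1) : ℚ) * (f * (f + 1)) = 2 * (f - 1) ^ 2 := by
        field_simp
        ring
      have e10 : (256 * ((k1 * k2 : ℕ) : ℚ) ^ 2 +
          128 * ((k1 * k2 : ℕ) : ℚ) * (k1 ^ 2 + k2 ^ 2)) = n * (2 + 2 / f - 8 / (f + 1)) := by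
        push_cast at e1 e8 ⊢
        linear_combination e1 + e8
      have e11 : (256 * ((k1 * k2 : ℕ) : ℚ) ^ 2 +
          128 * ((k1 * k2 : ℕ) : ℚ) * (k1 ^ 2 + k2 ^ 2)) * (f * (f + 1)) =
          n * (2 * (f - 1) ^ 2) := by rw [e10, mul_assoc, e9]
      push_cast at e11 ⊢
      linear_combination (1 / 2 : ℚ) * e11
    exact_mod_cast this

/-- Both `k₁ = k₂ = k > 1`: the index is 7 or 15. -/
theorem index_arith {k j : ℕ} {f : ℤ} (hk : 0 < k) (hj : Odd j) (hf : Odd f)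
    (e : 64 * (k * k : ℤ) * (k + k) ^ 2 * (f * (f + 1)) = (24 * k ^ 4 * j : ℕ) * (f - 1) ^ 2) :
    j = 7 ∨ j = 15 := by
  have kZ : (k : ℤ) ≠ 0 := by exact_mod_cast hk.ne'
  have hj' : Odd (j : ℤ) := by exact_mod_cast hj
  obtain ⟨a, rfl⟩ := hf
  push_cast at e
  have e1 : 16 * ((2 * a + 1) * (a + 1)) = 3 * j * a ^ 2 := by
    have : (32 * (k : ℤ) ^ 4) * (16 * ((2 * a + 1) * (a + 1))) = (32 * (k : ℤ) ^ 4) * (3 * j * a ^ 2) := by
      linear_combination e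
    exact mul_left_cancel₀ (mul_ne_zero (by norm_num) (pow_ne_zero 4 kZ)) this
  have h3j : Odd (3 * (j : ℤ)) := Odd.mul (by decide) hj'
  have ha : Even a := by
    have h1 : Even (3 * (j : ℤ) * a ^ 2) := by
      rw [← e1]; exact ⟨8 * ((2 * a + 1) * (a + 1)), by ring⟩
    rcases Int.even_mul.1 h1 with h2 | h2
    · exact absurd h2 (Int.not_even_iff_odd.2 h3j)
    · exact (Int.even_pow.1 h2).1
  obtain ⟨b, rfl⟩ := ha
  have e2 : 4 * ((4 * b + 1) * (2 * b + 1)) = 3 * j * b ^ 2 := by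
    have : (4 : ℤ) * (4 * ((4 * b + 1) * (2 * b + 1))) = 4 * (3 * j * b ^ 2) := by
      linear_combination e1
    exact mul_left_cancel₀ (by norm_num) this
  have hb : Even b := by
    have h1 : Even (3 * (j : ℤ) * b ^ 2) := by
      rw [← e2]; exact ⟨2 * ((4 * b + 1) * (2 * b + 1)), by ring⟩
    rcases Int.even_mul.1 h1 with h2 | h2
    · exact absurd h2 (Int.not_even_iff_odd.2 h3j)
    · exact (Int.even_pow.1 h2).1
  obtain ⟨d, rfl⟩ := hb
  have e3 : (8 * d + 1) * (4 * d + 1) = 3 * j * d ^ 2 := by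
    have : (4 : ℤ) * ((8 * d + 1) * (4 * d + 1)) = 4 * (3 * j * d ^ 2) := by
      linear_combination e2
    exact mul_left_cancel₀ (by norm_num) this
  have hd : d ∣ 1 := ⟨3 * j * d - 32 * d - 12, by linear_combination e3⟩
  rcases Int.isUnit_iff.1 (isUnit_of_dvd_one hd) with rfl | rfl
  · right; norm_num at e3; omega
  · left; norm_num at e3; omega

/-- `|N|` when `k₂ = 1`. -/
theorem norm_one {k c m' : ℕ} {g : ℤ} (hg : Odd g)
    (e1 : m' * g ^ 2 = k * (1 : ℕ) ^ 3 * (4 * g + 1) * (2 * g + 1))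
    (e2 : c * g = 4 * (1 : ℕ) ^ 2 * (2 * g + 1)) : m' = 15 * k ∨ m' = 3 * k := by
  push_cast at e1 e2
  have h1 : g ∣ 4 := ⟨c - 8, by linear_combination -e2⟩
  have h2 : IsUnit g := by
    have h3 : IsCoprime g (4 : ℤ) := by
      have h4 : IsCoprime g 2 := by
        obtain ⟨a, rfl⟩ := hg
        exact ⟨1, -a, by ring⟩
      have := h4.pow_right (n := 2)
      norm_num at this
      exact this
    exact h3.isUnit_of_dvd' (dvd_refl g) h1
  rcases Int.isUnit_iff.1 h2 with rfl | rfl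
  · left
    norm_num at e1
    have : (m' : ℤ) = ((15 * k : ℕ) : ℤ) := by push_cast; linarith
    exact_mod_cast this
  · right
    norm_num at e1
    have : (m' : ℤ) = ((3 * k : ℕ) : ℤ) := by push_cast; linarith
    exact_mod_cast this

theorem small_arith {κ r u j : ℤ} (hκ : 2 ≤ κ) (hr : Odd r) (hrκ : r ∣ κ) (hu : u = 4 * κ + r)
    (hj1 : 1 ≤ j) (hj2 : 2 * j + 1 ≤ u) (e : j * (u - j) = 8 * κ - 4) :
    (κ = 2 ∧ r = -1) ∨ (κ = 5 ∧ r = -5) ∨ (κ = 3 ∧ r = -3) := by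
  have hle : |r| ≤ κ := by
    have := Int.le_of_dvd (by omega) ((abs_dvd r κ).2 hrκ)
    exact this
  obtain ⟨hle1, hle2⟩ := abs_le.1 hle
  have r0 : r ≠ 0 := by rintro rfl; exact absurd hr (by decide)
  obtain ⟨t, ht⟩ := hrκ
  rcases lt_or_gt_of_ne r0 with hneg | hpos
  · rcases (by omega : j = 1 ∨ j = 2 ∨ j = 3 ∨ j = 4 ∨ 5 ≤ j) with h | h | h | h | h
    · rw [h] at e; omega
    · rw [h] at e; omega
    · rw [h] at e
      have h1 : 4 * κ = 5 - 3 * r := by omega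
      have h2 : r ∣ 5 := ⟨4 * t + 3, by rw [ht] at h1; linear_combination -h1⟩
      have h3 : -5 ≤ r := by
        have := Int.le_of_dvd (by norm_num) ((abs_dvd r 5).2 h2)
        exact (abs_le.1 this).1
      interval_cases r <;> omega
    · rw [h] at e
      have h1 : 2 * κ = 3 - r := by omega
      have h2 : r ∣ 3 := ⟨2 * t + 1, by rw [ht] at h1; linear_combination -h1⟩
      have h3 : -3 ≤ r := by
        have := Int.le_of_dvd (by norm_num) ((abs_dvd r 3).2 h2)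
        exact (abs_le.1 this).1
      interval_cases r <;> omega
    · have h1 : 5 * (u - 5) ≤ j * (u - j) := by nlinarith
      have h2 : κ ≤ 3 := by omega
      have h3 : u ≤ 11 := by omega
      have h4 : j ≤ 5 := by omega
      have h5 : j = 5 := by omega
      rw [h5] at e
      omega
  · exfalso
    rcases (by omega : j = 1 ∨ 2 ≤ j) with h | h
    · rw [h] at e; omega
    · have h1 : 2 * (u - 2) ≤ j * (u - j) := by nlinarith
      omega

set_option maxHeartbeats 1000000 in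
/-- The order of `G` when `k₂ = 1`. -/
theorem one_arith {k M : ℕ} {f f2 f3 : ℤ} (hk : Odd k) (hk1 : 1 < k) (hM : Odd M) (hf : Odd f)
    (hf1 : f + 1 ≠ 0) (hs : f2 + f3 = f + 1)
    (A : 256 * (k * (1 : ℕ) : ℤ) ^ 2 * f * (f2 * f3) = (8 * k * M : ℕ) * (f + 1) * (f2 * f3 - f))
    (B : 64 * (k * (1 : ℕ) : ℤ) * (k + (1 : ℕ)) ^ 2 * (f * (f + 1)) = (8 * k * M : ℕ) * (f - 1) ^ 2) :
    (k = 3 ∧ M = 105) ∨ (k = 5 ∧ M = 189) := by
  have kZ : (k : ℤ) ≠ 0 := by exact_mod_cast (by omega : k ≠ 0)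
  have hM' : Odd (M : ℤ) := by exact_mod_cast hM
  obtain ⟨e, rfl⟩ := hf
  push_cast at A B
  have e0 : e + 1 ≠ 0 := by intro h; apply hf1; linarith
  have f0 : 2 * e + 1 ≠ 0 := by omega
  have B1 : (2 * ((k : ℤ) + 1)) ^ 2 * ((2 * e + 1) * (e + 1)) = M * e ^ 2 := by
    have : (32 * (k : ℤ)) * ((2 * ((k : ℤ) + 1)) ^ 2 * ((2 * e + 1) * (e + 1))) =
        (32 * (k : ℤ)) * (M * e ^ 2) := by linear_combination B
    exact mul_left_cancel₀ (mul_ne_zero (by norm_num) kZ) this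
  have hcop : IsCoprime e ((2 * e + 1) * (e + 1)) := ⟨-(2 * e + 3), 1, by ring⟩
  have hd : e ∣ 2 * ((k : ℤ) + 1) := by
    have h1 : e ^ 2 ∣ (2 * ((k : ℤ) + 1)) ^ 2 :=
      (hcop.pow_left (m := 2)).dvd_of_dvd_mul_right ⟨M, by rw [B1]; ring⟩
    exact (Int.pow_dvd_pow_iff (by norm_num)).1 h1
  obtain ⟨r, hr⟩ := hd
  have ez : e ≠ 0 := by
    rintro rfl
    rw [zero_mul] at hr
    omega
  have hMr : (M : ℤ) = r ^ 2 * ((2 * e + 1) * (e + 1)) := by
    have : e ^ 2 * (M : ℤ) = e ^ 2 * (r ^ 2 * ((2 * e + 1) * (e + 1))) := by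
      rw [hr] at B1
      linear_combination -B1
    exact mul_left_cancel₀ (pow_ne_zero 2 ez) this
  have hrodd : Odd r := by
    rw [hMr] at hM'
    have := (Int.odd_mul.1 hM').1
    exact (Int.odd_pow.1 this).resolve_right (by norm_num)
  have r0 : r ≠ 0 := by rintro rfl; exact absurd hrodd (by decide)
  have A1 : 16 * (k : ℤ) * (f2 * f3) = (r * (e + 1)) ^ 2 * (f2 * f3 - (2 * e + 1)) := by
    have : (16 * (k : ℤ) * (2 * e + 1)) * (16 * (k : ℤ) * (f2 * f3)) =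
        (16 * (k : ℤ) * (2 * e + 1)) * ((r * (e + 1)) ^ 2 * (f2 * f3 - (2 * e + 1))) := by
      rw [hMr] at A
      linear_combination A
    exact mul_left_cancel₀ (mul_ne_zero (mul_ne_zero (by norm_num) kZ) f0) this
  obtain ⟨u, hu⟩ : ∃ u, u = r * (e + 1) := ⟨_, rfl⟩
  rw [← hu] at A1
  have hu' : u = 2 * ((k : ℤ) + 1) + r := by rw [hu, hr]; ring
  have u0 : u ≠ 0 := by rw [hu]; exact mul_ne_zero r0 e0
  have hD : (r * (f2 - f3)) ^ 2 * (u ^ 2 - 16 * k) = (4 * u * ((k : ℤ) - 1)) ^ 2 := by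
    have h1 : (f2 - f3) ^ 2 = (2 * e + 1 + 1) ^ 2 - 4 * (f2 * f3) := by rw [← hs]; ring
    have h2 : (f2 * f3) * (u ^ 2 - 16 * k) = u ^ 2 * (2 * e + 1) := by linear_combination -A1
    have h3 : r * e = 2 * ((k : ℤ) + 1) := by rw [hr]; ring
    calc (r * (f2 - f3)) ^ 2 * (u ^ 2 - 16 * k)
        = r ^ 2 * (f2 - f3) ^ 2 * (u ^ 2 - 16 * k) := by ring
      _ = r ^ 2 * (2 * e + 1 + 1) ^ 2 * (u ^ 2 - 16 * k) -
          4 * r ^ 2 * ((f2 * f3) * (u ^ 2 - 16 * k)) := by rw [h1]; ring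
      _ = 4 * u ^ 2 * (u ^ 2 - 16 * k) - 4 * r ^ 2 * (u ^ 2 * (2 * e + 1)) := by
          rw [h2, hu]; ring
      _ = 4 * u ^ 2 * ((r * e) ^ 2 - 16 * k) := by rw [hu]; ring
      _ = (4 * u * ((k : ℤ) - 1)) ^ 2 := by rw [h3]; ring
  have hk1' : (k : ℤ) - 1 ≠ 0 := by omega
  have hne : 4 * u * ((k : ℤ) - 1) ≠ 0 := mul_ne_zero (mul_ne_zero (by norm_num) u0) hk1'
  obtain ⟨v, hv⟩ : r * (f2 - f3) ∣ 4 * u * ((k : ℤ) - 1) :=
    (Int.pow_dvd_pow_iff (n := 2) (by norm_num)).1 ⟨_, hD.symm⟩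
  have hrD : r * (f2 - f3) ≠ 0 := by
    intro h
    rw [h, zero_mul] at hv
    exact hne hv
  have hT : u ^ 2 - 16 * k = v ^ 2 := by
    have : (r * (f2 - f3)) ^ 2 * (u ^ 2 - 16 * k) = (r * (f2 - f3)) ^ 2 * v ^ 2 := by
      rw [hD, hv]; ring
    exact mul_left_cancel₀ (pow_ne_zero 2 hrD) this
  obtain ⟨κ, hκ⟩ : ∃ κ : ℤ, (k : ℤ) + 1 = 2 * κ := by
    obtain ⟨a, ha⟩ := hk
    exact ⟨a + 1, by rw [ha]; push_cast; ring⟩
  have hκ2 : 2 ≤ κ := by
    have : k ≠ 2 := by rintro rfl; exact absurd hk (by decide)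
    omega
  have hrκ : r ∣ κ := by
    have h4 : IsCoprime r 2 := by
      obtain ⟨a, rfl⟩ := hrodd
      exact ⟨1, -a, by ring⟩
    have h5 : IsCoprime r (4 : ℤ) := by
      have := h4.pow_right (n := 2)
      norm_num at this
      exact this
    exact h5.dvd_of_dvd_mul_left ⟨e, by rw [mul_comm r e, ← hr, hκ]; ring⟩
  have hu2 : u = 4 * κ + r := by rw [hu', hκ]; ring
  have hrle : |r| ≤ κ := Int.le_of_dvd (by omega) ((abs_dvd r κ).2 hrκ)
  obtain ⟨hle1, hle2⟩ := abs_le.1 hrle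
  have hupos : 0 < u := by omega
  have huodd : Odd u := by
    rw [hu2]
    exact Even.add_odd ⟨2 * κ, by ring⟩ hrodd
  -- `v` is odd
  have hvodd : Odd v := by
    have h1 : Odd (v ^ 2) := by
      rw [← hT]
      exact Odd.sub_even (huodd.pow) ⟨8 * k, by ring⟩
    exact (Int.odd_pow.1 h1).resolve_right (by norm_num)
  have hvabs : Odd |v| := by
    rcases abs_choice v with h | h <;> rw [h]
    · exact hvodd
    · exact hvodd.neg
  obtain ⟨j, hj⟩ : ∃ j, u - |v| = 2 * j := by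
    obtain ⟨a, ha⟩ := huodd
    obtain ⟨b, hb⟩ := hvabs
    exact ⟨a - b, by rw [ha, hb]; ring⟩
  have hvpos : 1 ≤ |v| := by
    have h1 := abs_nonneg v
    obtain ⟨b, hb⟩ := hvabs
    omega
  have hT' : u ^ 2 - 16 * k = |v| ^ 2 := by rw [hT, sq_abs]
  have hvu : |v| < u := by
    have h0 : 0 < (k : ℤ) := by omega
    exact lt_of_pow_lt_pow_left₀ 2 hupos.le (by rw [← hT']; linarith)
  have hv2 : |v| = u - 2 * j := by linarith
  have hjj : j * (u - j) = 8 * κ - 4 := by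
    rw [hv2] at hT'
    have : 4 * (j * (u - j)) = 4 * (8 * κ - 4) := by
      have hk' : (k : ℤ) = 2 * κ - 1 := by linarith
      rw [hk'] at hT'
      linear_combination hT'
    exact mul_left_cancel₀ (by norm_num) this
  rcases small_arith hκ2 hrodd hrκ hu2 (by omega) (by omega) hjj with ⟨h1, h2⟩ | ⟨h1, h2⟩ | ⟨h1, h2⟩
  · left
    have hk3 : (k : ℤ) = 3 := by omega
    have he : e = -8 := by rw [h2] at hr; omega
    rw [h2, he] at hMr
    norm_num at hMr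
    exact ⟨by exact_mod_cast hk3, by exact_mod_cast hMr⟩
  · exfalso
    have hk3 : (k : ℤ) = 9 := by omega
    have hu3 : u = 15 := by omega
    rw [hu3, hk3] at hT
    norm_num at hT
    have hv9 : (v - 9) * (v + 9) = 0 := by linear_combination -hT
    rw [hu3, hk3, h2] at hv
    rcases mul_eq_zero.1 hv9 with h | h
    · have : v = 9 := by linarith
      rw [this] at hv
      omega
    · have : v = -9 := by linarith
      rw [this] at hv
      omega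
  · right
    have hk3 : (k : ℤ) = 5 := by omega
    have he : e = -4 := by rw [h2] at hr; omega
    rw [h2, he] at hMr
    norm_num at hMr
    exact ⟨by exact_mod_cast hk3, by exact_mod_cast hMr⟩

end Cfsg.Agent.H1.SF
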