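import Mathlib
import Cfsg.Agent.H1.SFA9
import Cfsg.Agent.H1.SFArith
import Cfsg.Agent.H17.Orbits
import Cfsg.Agent.S3035

/-!
# Self-centralizing elements of order 4: the groups
-/

set_option autoImplicit false
set_option linter.unusedSectionVars false
set_option linter.unusedVariables false
set_option linter.style.haveILetI false

namespace Cfsg.Agent.H1.SF

open Subgroup Cfsg
open scoped Pointwise

universe u

variable {G : Type u} [Group G] [Finite G] {w v : G}

/-- No simple group has order 29160. -/
theorem not_card_29160 [IsSimpleGroup G] (hna : ¬ IsMulCommutative G) : Nat.card G ≠ 29160 := by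
  intro hG
  haveI : Fact (Nat.Prime 3) := ⟨Nat.prime_three⟩
  have hG' : Nat.card G = 3 ^ 6 * 40 := by rw [hG]; norm_num
  have h1 := H17.card_sylow_mem (p := 3) hG' (by norm_num)
  have h2 := H17.card_sylow_ne_one (p := 3) hna (by rw [hG]; norm_num)
  have h3 := H17.two_mul_card_dvd_factorial_card_sylow (p := 3) hna (by rw [hG]; norm_num)
  have h4 : (Nat.divisors 40).filter (· % 3 = 1) = {1, 4, 10, 40} := by decide
  rw [h4] at h1
  simp only [Finset.mem_insert, Finset.mem_singleton] at h1
  have h10 : Nat.factorial 10 = 3628800 := by decide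
  rcases h1 with h | h | h | h
  · exact h2 h
  · rw [h, hG] at h3; revert h3; decide
  · rw [h, hG, h10] at h3; revert h3; decide
  · obtain ⟨P⟩ : Nonempty (Sylow 3 G) := inferInstance
    obtain ⟨R, hPR, hidx⟩ := H17.exists_sylow_pair (p := 3) 2 (by rw [h]; decide) P
    have hPc : ∀ P : Sylow 3 G, Nat.card (P : Subgroup G) = 729 := fun P => by
      have := H17.card_sylow_eq P hG' (by norm_num)
      simpa using this
    have hle : (P : Subgroup G) ⊓ (R : Subgroup G) ≤ P := inf_le_left
    have hle' : (P : Subgroup G) ⊓ (R : Subgroup G) ≤ R := inf_le_right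
    have e1 := H17.relIndex_mul_card_of_le hle
    rw [inf_relIndex_left, hPc P] at e1
    have e2 : (R : Subgroup G).relIndex (P : Subgroup G) ≠ 1 := by
      rw [Ne, relIndex_eq_one]
      intro h3
      apply hPR
      apply Sylow.ext
      exact Subgroup.eq_of_le_of_card_ge h3 (by rw [hPc P, hPc R])
    have e3 : (R : Subgroup G).relIndex (P : Subgroup G) ≤ 3 := by
      have : (R : Subgroup G).relIndex (P : Subgroup G) ≤ 3 ^ (2 - 1) := hidx
      simpa using this
    have e4 : (R : Subgroup G).relIndex (P : Subgroup G) ∣ 729 := ⟨_, e1.symm⟩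
    have e5 : (R : Subgroup G).relIndex (P : Subgroup G) = 3 := by
      interval_cases h : (R : Subgroup G).relIndex (P : Subgroup G)
      · norm_num at e4
      · exact absurd rfl e2
      · norm_num at e4
      · rfl
    have hDc : Nat.card ↥((P : Subgroup G) ⊓ (R : Subgroup G)) = 243 := by
      rw [e5] at e1; omega
    have hn : ∀ Q : Sylow 3 G, (P : Subgroup G) ⊓ (R : Subgroup G) ≤ Q →
        (Q : Subgroup G) ≤ normalizer (((P : Subgroup G) ⊓ (R : Subgroup G) : Subgroup G) : Set G) := by
      intro Q hQ
      have e6 := H17.relIndex_mul_card_of_le hQ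
      rw [hPc Q, hDc] at e6
      have e7 : (((P : Subgroup G) ⊓ (R : Subgroup G)).subgroupOf (Q : Subgroup G)).index = 3 := by
        show ((P : Subgroup G) ⊓ (R : Subgroup G)).relIndex (Q : Subgroup G) = 3
        omega
      have e8 : (((P : Subgroup G) ⊓ (R : Subgroup G)).subgroupOf (Q : Subgroup G)).Normal := by
        apply Subgroup.normal_of_index_eq_minFac_card
        rw [e7, hPc Q]
        norm_num
      exact (normal_subgroupOf_iff_le_normalizer hQ).1 e8
    have hD0 : (P : Subgroup G) ⊓ (R : Subgroup G) ≠ ⊥ := by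
      intro h
      rw [h, card_bot] at hDc
      norm_num at hDc
    have hPn := hn P hle
    have hRn := hn R hle'
    have f1 := H17.exists_subgroup_of_inter hPR hD0 hPn hRn
    have f2 := H17.one_lt_card_sylow_of_two hPR hPn hRn
    have f3 := H17.card_sylow_mod (p := 3)
      (G := normalizer (((P : Subgroup G) ⊓ (R : Subgroup G) : Subgroup G) : Set G))
    have f4 := H17.card_sylow_mul_index_dvd P hPn
    have f5 : (P : Subgroup G).index = 40 := H17.card_sylow_mul P hG' (by norm_num)
    rw [f5] at f4
    have f6 := H17.two_mul_card_dvd_factorial hna _ f1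
    obtain ⟨i, hi⟩ : ∃ i, i = (normalizer (((P : Subgroup G) ⊓ (R : Subgroup G) : Subgroup G) : Set G)).index :=
      ⟨_, rfl⟩
    rw [← hi] at f4 f6
    have f7 := Nat.le_of_dvd (by norm_num) f4
    have f8 : i ≤ 10 := by
      by_contra h9
      have h11 : 4 ≤ Nat.card (Sylow 3
        (normalizer (((P : Subgroup G) ⊓ (R : Subgroup G) : Subgroup G) : Set G))) := by omega
      have := Nat.mul_le_mul h11 (show 11 ≤ i by omega)
      omega
    have f9 := f6.trans (Nat.factorial_dvd_factorial f8)
    rw [hG, h10] at f9
    revert f9; decide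

theorem Dat.kk_zv (D : Dat w v) : kk w (v * w * w) = kk w v := by
  have : DD w (v * w * w) = DD w v := by
    ext x
    rw [D.mem_DD, D.mem_DD]
    constructor
    · rintro ⟨⟨h1, h2⟩, h3⟩
      refine ⟨⟨h1, h2⟩, ?_⟩
      have h4 : x * v * (w * w) = v * x * (w * w) := by
        calc x * v * (w * w) = x * (v * w * w) := by group
          _ = v * (w * w * x) := by rw [h3]; group
          _ = v * x * (w * w) := by rw [h1]; group
      exact mul_right_cancel h4
    · rintro ⟨⟨h1, h2⟩, h3⟩
      refine ⟨⟨h1, h2⟩, ?_⟩
      calc x * (v * w * w) = (x * v) * (w * w) := by group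
        _ = v * (x * (w * w)) := by rw [h3]; group
        _ = v * w * w * x := by rw [← h1]; group
  rw [kk_eq, kk_eq, this]

end Cfsg.Agent.H1.SF
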