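import Mathlib
import Cfsg.Agent.H1.SFFin

/-!
# Self-centralizing elements of order 4: the orders
-/

set_option autoImplicit false
set_option linter.unusedSectionVars false
set_option linter.unusedVariables false
set_option linter.style.haveILetI false

namespace Cfsg.Agent.H1.SF

open Subgroup Cfsg
open scoped Pointwise

universe u

variable {G : Type u} [Group G] [Finite G] {w v : G}

namespace Dat

variable (D : Dat w v)

include D

theorem odd_kk1 : Odd (kk w v) := by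
  have h1 := D.odd_K
  rw [D.card_K] at h1
  rw [← Nat.not_even_iff_odd, even_iff_two_dvd]
  exact fun h => h1 (Dvd.dvd.mul_right h _)

theorem odd_kk2 : Odd (kk w (v * w)) := by
  have h1 := D.odd_K
  rw [D.card_K] at h1
  rw [← Nat.not_even_iff_odd, even_iff_two_dvd]
  exact fun h => h1 (Dvd.dvd.mul_left h _)

theorem card_N : ∃ m : ℕ, Odd m ∧ Nat.card (normalizer (DD w v : Set G)) = 8 * m := by
  have h1 := card_dvd_of_le D.centralizer_le
  rw [D.card_C'] at h1
  have h2 : 8 ∣ Nat.card (normalizer (DD w v : Set G)) := (Dvd.intro _ rfl).trans h1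
  obtain ⟨m, hm⟩ := h2
  refine ⟨m, ?_, hm⟩
  rw [← Nat.not_even_iff_odd, even_iff_two_dvd]
  rintro ⟨n, rfl⟩
  apply D.n16
  refine Dvd.dvd.trans ⟨n, ?_⟩ (card_subgroup_dvd_card (normalizer (DD w v : Set G)))
  rw [hm]; ring

theorem norm_data (hc : ∀ a b : G, orderOf a = 2 → orderOf b = 2 → IsConj a b)
    (hk : kk w v ≠ 1) : ∃ (m c : ℕ) (g q : ℤ),
    Nat.card (normalizer (DD w v : Set G)) = 8 * m ∧ Odd m ∧ Odd g ∧ 0 < q ∧
    m * g ^ 2 = kk w v * kk w (v * w) ^ 3 * (4 * g + 1) * (2 * g + 1) ∧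
    c * g = 4 * kk w (v * w) ^ 2 * (2 * g + 1) ∧
    kk w v * g = kk w (v * w) * (2 * g + 1) * q := by
  obtain ⟨m, hm, hN⟩ := D.card_N
  obtain ⟨c, f, hcd, hf, hf1, e3, e4⟩ := D.norm_eqs (hc _ _ D.oz D.ov) (hc _ _ D.oz D.swap.ov) hk
  rw [hN] at e3 e4
  obtain ⟨e5, e6⟩ := norm_clear (kk_pos w v) (kk_pos w (v * w)) hf hf1 e3 e4
  obtain ⟨g, q, hg, hq, e7, e8, e9⟩ := norm_arith D.odd_kk1 D.odd_kk2 hm hf hcd e5 e6
  exact ⟨m, c, g, q, hN, hm, hg, hq, e7, e8, e9⟩

theorem both_big [IsSimpleGroup G] (hna : ¬ IsMulCommutative G)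
    (hc : ∀ a b : G, orderOf a = 2 → orderOf b = 2 → IsConj a b)
    (h1 : kk w v ≠ 1) (h2 : kk w (v * w) ≠ 1) : False := by
  obtain ⟨m, c, g, q, hN, hm, hg, hq, e1, e2, e3⟩ := D.norm_data hc h1
  obtain ⟨m', c', g', q', hN', hm', hg', hq', e1', e2', e3'⟩ := D.swap.norm_data hc h2
  rw [D.kk_zv] at e3'
  obtain ⟨hg1, hkk⟩ := both_arith (kk_pos w v) (kk_pos w (v * w)) hg hg' hq hq' e3 e3'
  obtain ⟨k, hk⟩ : ∃ k, k = kk w v := ⟨_, rfl⟩
  have hk' : kk w (v * w) = k := by rw [← hkk, hk]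
  rw [hk', ← hk] at e1
  have hm4 : m = 3 * k ^ 4 := by
    rw [hg1] at e1
    have : (m : ℤ) = 3 * k ^ 4 := by linarith
    exact_mod_cast this
  have hk0 : 0 < k := by rw [hk]; exact kk_pos w v
  have hodd : Odd k := by rw [hk]; exact D.odd_kk1
  obtain ⟨j, hj⟩ : ∃ j, j = (normalizer (DD w v : Set G)).index := ⟨_, rfl⟩
  have hG : Nat.card G = 24 * k ^ 4 * j := by
    rw [← card_mul_index (normalizer (DD w v : Set G)), hN, hm4, hj]; ring
  have hjo : Odd j := by
    rw [← Nat.not_even_iff_odd, even_iff_two_dvd]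
    rintro ⟨n, hn⟩
    apply D.n16
    rw [hG, hn]
    exact ⟨3 * k ^ 4 * n, by ring⟩
  obtain ⟨f, f2, f3, hf, hf1, hf2, hf3, hs, a1, a2⟩ := D.eqs_all hc
  obtain ⟨-, b2⟩ := all_clear (kk_pos w v) (kk_pos w (v * w)) hf hf1 hf2 hf3 hs a1 a2
  rw [hk', ← hk, hG] at b2
  have hj7 := index_arith hk0 hjo hf b2
  have hNt : normalizer (DD w v : Set G) ≠ ⊤ := by
    intro h
    rw [h, index_top] at hj
    omega
  have hdv := H17.two_mul_card_dvd_factorial hna _ hNt
  rw [← hj, hG] at hdv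
  have hkne : k ≠ 1 := by rw [hk]; exact h1
  rcases hj7 with h7 | h15
  · rw [h7] at hdv
    have h5 : Nat.factorial 7 = 5040 := by decide
    rw [h5] at hdv
    have h6 : 2 * (24 * k ^ 4 * 7) = 336 * k ^ 4 := by ring
    rw [h6] at hdv
    have h8 : k ^ 4 ∣ 15 := Nat.dvd_of_mul_dvd_mul_left (by norm_num : 0 < 336) (by simpa using hdv)
    have h9 := Nat.le_of_dvd (by norm_num) h8
    have h10 : k < 2 := by
      by_contra h11
      have := Nat.pow_le_pow_left (show 2 ≤ k by omega) 4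
      omega
    omega
  · rw [h15] at hdv
    have h5 : Nat.factorial 15 = 1307674368000 := by decide
    rw [h5] at hdv
    have h6 : 2 * (24 * k ^ 4 * 15) = 720 * k ^ 4 := by ring
    rw [h6] at hdv
    have h8 : k ^ 4 ∣ 1816214400 :=
      Nat.dvd_of_mul_dvd_mul_left (by norm_num : 0 < 720) (by simpa using hdv)
    have h9 := Nat.le_of_dvd (by norm_num) h8
    have h10 : k < 207 := by
      by_contra h11
      have := Nat.pow_le_pow_left (show 207 ≤ k by omega) 4
      omega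
    have h12 : ∀ k < 207, k ^ 4 ∣ 1816214400 → k % 2 = 1 → k ≠ 1 → k = 3 := by decide +kernel
    have h13 := h12 k h10 h8 (Nat.odd_iff.1 hodd) hkne
    apply not_card_29160 hna
    rw [hG, h13, h15]; norm_num

theorem one_big [IsSimpleGroup G] (hna : ¬ IsMulCommutative G)
    (hc : ∀ a b : G, orderOf a = 2 → orderOf b = 2 → IsConj a b)
    (h1 : kk w v ≠ 1) (h2 : kk w (v * w) = 1) : Nonempty (G ≃* alternatingGroup (Fin 7)) := by
  obtain ⟨m, c, g, q, hN, hm, hg, hq, e1, e2, e3⟩ := D.norm_data hc h1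
  obtain ⟨k, hk⟩ : ∃ k, k = kk w v := ⟨_, rfl⟩
  rw [h2, ← hk] at e1
  rw [h2] at e2
  have hmk := norm_one hg e1 e2
  have hk0 : 0 < k := by rw [hk]; exact kk_pos w v
  have hodd : Odd k := by rw [hk]; exact D.odd_kk1
  have hkne : k ≠ 1 := by rw [hk]; exact h1
  have hCG := card_subgroup_dvd_card (centralizer ({w * w} : Set G))
  rw [D.card_C', h2, ← hk, mul_one] at hCG
  obtain ⟨M, hM⟩ := hCG
  have hMo : Odd M := by
    rw [← Nat.not_even_iff_odd, even_iff_two_dvd]
    rintro ⟨n, hn⟩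
    apply D.n16
    rw [hM, hn]
    exact ⟨k * n, by ring⟩
  obtain ⟨f, f2, f3, hf, hf1, hf2, hf3, hs, a1, a2⟩ := D.eqs_all hc
  obtain ⟨b1, b2⟩ := all_clear (kk_pos w v) (kk_pos w (v * w)) hf hf1 hf2 hf3 hs a1 a2
  rw [h2, ← hk, hM] at b1 b2
  rcases one_arith hodd (by omega) hMo hf hf1 hs b1 b2 with ⟨hk3, hM3⟩ | ⟨hk5, hM5⟩
  · have hG : Nat.card G = 2520 := by rw [hM, hk3, hM3]
    rcases hmk with h | h
    · -- index 7
      apply A7_of_index_seven hna hG (normalizer (DD w v : Set G))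
      have := card_mul_index (normalizer (DD w v : Set G))
      rw [hN, h, hk3, hG] at this
      omega
    · refine S7.nonempty_A7 (w := w) (v := v) ⟨D, fun t ht => hc _ _ D.oz ht, ?_, h2, hG, ?_⟩ hna
      · rw [← hk, hk3]
      · rw [hN, h, hk3]
  · exfalso
    haveI : Fact (Nat.Prime 5) := ⟨by norm_num⟩
    have hG : Nat.card G = 7560 := by rw [hM, hk5, hM5]
    have hNG := card_subgroup_dvd_card (normalizer (DD w v : Set G))
    rw [hN, hG] at hNG
    rcases hmk with h | h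
    · rw [h, hk5] at hNG; revert hNG; decide
    · have hDD : Nat.card (DD w v) = 5 := by rw [← kk_eq, ← hk, hk5]
      have hP5 : IsPGroup 5 (DD w v) := IsPGroup.of_card (n := 1) (by rw [hDD]; norm_num)
      obtain ⟨P, hP⟩ := hP5.exists_le_sylow
      have hP' : Nat.card P = 5 := by
        have := H17.card_sylow_eq P (k := 1) (m := 1512) (by rw [hG]; norm_num) (by norm_num)
        simpa using this
      have hPD : DD w v = P := eq_of_le_of_card_ge hP (by rw [hDD]; exact hP'.le)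
      have hn := H17.card_normalizer_mul P
      rw [← hPD, hN, h, hk5, hG] at hn
      have hmod := H17.card_sylow_mod (p := 5) (G := G)
      omega

/-- Both parameters are one. -/
theorem both_one [IsSimpleGroup G] (hna : ¬ IsMulCommutative G)
    (hc : ∀ a b : G, orderOf a = 2 → orderOf b = 2 → IsConj a b)
    (h1 : kk w v = 1) (h2 : kk w (v * w) = 1) :
    Nonempty (centralizer ({w * w} : Set G) ≃* DihedralGroup 4) := by
  obtain ⟨P, hP, hd, h8⟩ := D.exists_sylow
  have h3 : Nat.card (centralizer ({w * w} : Set G)) = 8 := by rw [D.card_C', h1, h2]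
  have h4 : (P : Subgroup G) = centralizer ({w * w} : Set G) := by
    apply eq_of_le_of_card_ge
    · rw [hP]; exact D.clo_le
    · rw [h3, h8]
  rw [← h4]
  exact hd

end Dat

end Cfsg.Agent.H1.SF
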