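import Mathlib
import Cfsg.Agent.H1.SFFin2
import Cfsg.Agent.Solv.Core
import Cfsg.Agent.ClassBase.PSL27

/-!
# Self-centralizing elements of order 4: the groups
-/

set_option autoImplicit false
set_option linter.unusedSectionVars false
set_option linter.unusedVariables false
set_option linter.style.haveILetI false

namespace Cfsg.Agent.H1.SF

open Subgroup Cfsg
open scoped Pointwise

universe u

variable {G : Type u} [Group G] [Finite G] {w v : G}

/-- A perfect group is not a symmetric group. -/
theorem not_perm_equiv (hG : commutator G = ⊤) (n : ℕ) (e : G ≃* Equiv.Perm (Fin (n + 2))) : False := by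
  have h := H17.sign_eq_one_of_perfect hG e.toMonoidHom (e.symm (Equiv.swap 0 1))
  have h1 : e.toMonoidHom (e.symm (Equiv.swap 0 1)) = (Equiv.swap 0 1 : Equiv.Perm (Fin (n + 2))) :=
    e.apply_symm_apply _
  rw [h1, Equiv.Perm.sign_swap (by simp)] at h
  exact absurd h (by decide)

namespace Dat

variable (D : Dat w v)

include D

theorem final [IsSimpleGroup G] (hna : ¬ IsMulCommutative G)
    (hc : ∀ a b : G, orderOf a = 2 → orderOf b = 2 → IsConj a b) :
    Nonempty (G ≃* Matrix.ProjectiveSpecialLinearGroup (Fin 2) (ZMod 7)) ∨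
      Nonempty (G ≃* alternatingGroup (Fin 6)) ∨ Nonempty (G ≃* alternatingGroup (Fin 7)) := by
  by_cases h1 : kk w v = 1
  · by_cases h2 : kk w (v * w) = 1
    · have hcomm := H17.commutator_eq_top hna
      rcases S3035.result (w * w) D.oz (D.both_one hna hc h1 h2) with h | ⟨⟨e⟩⟩ | ⟨⟨e⟩⟩ | ⟨⟨e⟩⟩ | h
      · exfalso
        have hn : (oddCore G).Normal := Solv.pPrimeCore_normal 2
        rcases hn.eq_bot_or_eq_top with h3 | h3
        · rw [h3, sup_bot_eq] at h
          have h4 : w * w ∈ center G := by
            rw [mem_center_iff]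
            intro g
            exact mem_centralizer_singleton_iff.1 (h ▸ mem_top g)
          rw [H17.center_eq_bot hna, mem_bot] at h4
          exact D.z1 h4
        · have h4 : (Nat.card (oddCore G)).Coprime 2 := Solv.pPrimeCore_card_coprime 2
          rw [h3, card_top] at h4
          have h5 : 2 ∣ Nat.card G := by rw [← D.oz]; exact orderOf_dvd_natCard _
          have h6 := Nat.eq_one_of_dvd_coprimes h4 h5 (dvd_refl 2)
          norm_num at h6
      · exact (not_perm_equiv hcomm 2 e).elim
      · exact (not_perm_equiv hcomm 3 e).elim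
      · obtain ⟨e2⟩ := ClassBase.PSL27.main_27
        exact Or.inl ⟨e.trans e2.symm⟩
      · exact Or.inr (Or.inl h)
    · right; right
      apply D.swap.one_big hna hc h2
      rw [D.kk_zv, h1]
  · by_cases h2 : kk w (v * w) = 1
    · exact Or.inr (Or.inr (D.one_big hna hc h1 h2))
    · exact (D.both_big hna hc h1 h2).elim

end Dat

end Cfsg.Agent.H1.SF
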