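import Mathlib
import Cfsg.Agent.H1.SFFin3
import Cfsg.Agent.S3224
import Cfsg.Agent.S3277
import Cfsg.Agent.S0112
import Cfsg.Agent.S0201
import Cfsg.Agent.S3331
import Cfsg.Agent.H20.QSimple
import Cfsg.Agent.Fus.QDWMain
import Cfsg.Agent.DihSyl.Basic
import Cfsg.Agent.MaxClass.TwoGroups
import Cfsg.Agent.MaxClass.Pres
import Cfsg.Agent.H17.Klein

/-!
# Simple groups with an element whose centralizer has order at most 4
-/

set_option autoImplicit false
set_option linter.unusedSectionVars false
set_option linter.unusedVariables false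
set_option linter.style.haveILetI false

namespace Cfsg.Agent.H1.SF

open Subgroup Cfsg
open scoped Pointwise

universe u

variable {G : Type u} [Group G] [Finite G]

theorem no_index_two [IsSimpleGroup G] (hna : ¬ IsMulCommutative G) (H : Subgroup G) : H.index ≠ 2 := by
  intro h
  have hn : H.Normal := normal_of_index_eq_two h
  rcases hn.eq_bot_or_eq_top with h1 | h1
  · rw [h1, index_bot] at h
    apply hna
    haveI : Fact (Nat.Prime 2) := ⟨Nat.prime_two⟩
    haveI := isCyclic_of_prime_card h
    exact IsCyclic.isMulCommutative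
  · rw [h1, index_top] at h
    omega

theorem isConj_card {a b : G} (h : IsConj a b) :
    Nat.card (centralizer ({a} : Set G)) = Nat.card (centralizer ({b} : Set G)) := by
  obtain ⟨c, rfl⟩ := isConj_iff.1 h
  apply Nat.card_congr
  refine
    { toFun := fun g => ⟨c * g.1 * c⁻¹, ?_⟩
      invFun := fun g => ⟨c⁻¹ * g.1 * c, ?_⟩
      left_inv := fun g => Subtype.ext (by show c⁻¹ * (c * g.1 * c⁻¹) * c = g.1; group)
      right_inv := fun g => Subtype.ext (by show c * (c⁻¹ * g.1 * c) * c⁻¹ = g.1; group) }
  · have hg := mem_centralizer_singleton_iff.1 g.2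
    rw [mem_centralizer_singleton_iff]
    calc c * g.1 * c⁻¹ * (c * a * c⁻¹) = c * (g.1 * a) * c⁻¹ := by group
      _ = c * a * c⁻¹ * (c * g.1 * c⁻¹) := by rw [hg]; group
  · have hg := mem_centralizer_singleton_iff.1 g.2
    rw [mem_centralizer_singleton_iff]
    calc c⁻¹ * g.1 * c * a = c⁻¹ * (g.1 * (c * a * c⁻¹)) * c := by group
      _ = a * (c⁻¹ * g.1 * c) := by rw [hg]; group

/-- If all involutions are conjugate, the Sylow order bounds the centralizers of involutions. -/
theorem card_sylow_le (hc : ∀ a b : G, orderOf a = 2 → orderOf b = 2 → IsConj a b)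
    (S : Sylow 2 G) {w : G} (hw : orderOf w = 2) :
    Nat.card S ≤ Nat.card (centralizer ({w} : Set G)) := by
  haveI : Fact (Nat.Prime 2) := ⟨Nat.prime_two⟩
  have h2 : 2 ∣ Nat.card G := by rw [← hw]; exact orderOf_dvd_natCard w
  have hS2 : 2 ∣ Nat.card S := by
    rw [S.card_eq_multiplicity]
    apply dvd_pow_self
    have := (Nat.Prime.dvd_iff_one_le_factorization Nat.prime_two (Nat.card_pos (α := G)).ne').1 h2
    omega
  haveI : Nontrivial S := Finite.one_lt_card_iff_nontrivial.1 (by
    have := Nat.le_of_dvd Nat.card_pos hS2; omega)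
  haveI := S.2.center_nontrivial
  have h3 : 2 ∣ Nat.card (center S) := by
    obtain ⟨n, hn⟩ := (S.2.to_subgroup (center S)).exists_card_eq
    rw [hn]
    apply dvd_pow_self
    rintro rfl
    rw [pow_zero] at hn
    have := Finite.one_lt_card (α := center S)
    omega
  obtain ⟨⟨z, hz⟩, hoz⟩ := exists_prime_orderOf_dvd_card' 2 h3
  rw [orderOf_mk] at hoz
  have hoz' : orderOf (z : G) = 2 := by rw [orderOf_coe, hoz]
  rw [← isConj_card (hc _ _ hoz' hw)]
  apply card_le_of_le
  intro x hx
  rw [mem_centralizer_singleton_iff]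
  exact congrArg Subtype.val ((mem_center_iff.1 hz) ⟨x, hx⟩)

/-- Restriction of the centralizer to a subgroup containing it. -/
theorem card_centralizer_sub {S : Subgroup G} {w : G} (hw : w ∈ S)
    (h : centralizer ({w} : Set G) ≤ S) :
    Nat.card (centralizer ({(⟨w, hw⟩ : S)} : Set S)) = Nat.card (centralizer ({w} : Set G)) := by
  have h1 : centralizer ({(⟨w, hw⟩ : S)} : Set S) = (centralizer ({w} : Set G)).subgroupOf S := by
    ext x
    rw [mem_centralizer_singleton_iff, mem_subgroupOf, mem_centralizer_singleton_iff]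
    exact Subtype.ext_iff
  rw [h1]
  exact Nat.card_congr (subgroupOfEquivOfLe h).toEquiv

theorem A5_of_invol [IsSimpleGroup G] (hna : ¬ IsMulCommutative G) {w : G} (hw : orderOf w = 2)
    (hC : Nat.card (centralizer ({w} : Set G)) = 4) : Nonempty (G ≃* alternatingGroup (Fin 5)) := by
  haveI : Fact (Nat.Prime 2) := ⟨Nat.prime_two⟩
  have h2 : 2 ∣ Nat.card G := by rw [← hw]; exact orderOf_dvd_natCard w
  have hCp : IsPGroup 2 (centralizer ({w} : Set G)) := IsPGroup.of_card (n := 2) (by rw [hC]; norm_num)
  obtain ⟨S, hS⟩ := hCp.exists_le_sylow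
  have hwC : w ∈ centralizer ({w} : Set G) := mem_centralizer_singleton_iff.2 rfl
  have hwS : w ∈ (S : Subgroup G) := hS hwC
  have hni := no_index_two hna
  have hcS : 4 ∣ Nat.card S := by rw [← hC]; exact card_dvd_of_le hS
  have hle := Nat.le_of_dvd Nat.card_pos hcS
  have hres : Cfsg.pResidual 2 G = ⊤ := QDW.pResidual_two_of_perfect (H17.commutator_eq_top hna)
  have key : Nat.card S = 4 := by
    rcases S3224.result S.2 (⟨w, hwS⟩ : S) (by rw [orderOf_mk]; exact hw)
      (by rw [card_centralizer_sub hwS hS, hC]) with ⟨n, ⟨e⟩⟩ | h | h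
    · have hn := Nat.card_congr e.toEquiv
      rw [DihedralGroup.nat_card] at hn
      by_contra h4
      have hn2 : 2 ≤ n := by omega
      obtain ⟨r, s, hd⟩ := DihSyl.exists_dihData S.2 hn2 e
      have := card_sylow_le (fun a b ha hb => DihSyl.isConj_of_no_index_two hd hni ha hb) S hw
      rw [hC] at this
      omega
    · exfalso
      obtain ⟨m, hm, ⟨d⟩⟩ := H20.QDData.exists_of_isQuasiDihedral h
      have := card_sylow_le (fun a b ha hb =>
        (H20.qd_class S d hres ha).symm.trans (H20.qd_class S d hres hb)) S hw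
      rw [hC, hm, pow_add] at this
      have h16 := Nat.one_le_two_pow (n := m)
      omega
    · exact h
  have hSC : (S : Subgroup G) = centralizer ({w} : Set G) :=
    (eq_of_le_of_card_ge hS (by rw [hC]; exact key.le)).symm
  have hK : IsKleinFour S := H17.isKleinFour_of_card_four key (H17.not_isCyclic_sylow_two hna h2 S)
  apply S3277.result w hw hC
  · intro c hc
    rw [← hSC] at hc
    have := IsKleinFour.mul_self (⟨c, hc⟩ : S)
    rw [pow_two]
    exact congrArg Subtype.val this
  · rintro ⟨P, N, hN, hcomp⟩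
    rcases hN.eq_bot_or_eq_top with h | h
    · rw [h] at hcomp
      have h1 : (P : Subgroup G) = ⊤ := isComplement'_bot_left.1 hcomp
      have h3 : Nat.card G = 4 := by
        have h4 := card_centralizer_sub (S := ⊤) (mem_top w) le_top
        have h5 : Nat.card P = 4 := by
          rw [← key]; exact Nat.card_congr (Sylow.equiv P S).toEquiv
        have h6 : Nat.card (P : Subgroup G) = Nat.card G := by rw [h1, card_top]
        rw [← h6]; exact h5
      apply hna
      exact H17.isMulCommutative_of_card_prime_sq (p := 2) (by rw [h3]; norm_num)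
    · rw [h] at hcomp
      have h1 : (P : Subgroup G) = ⊥ := isComplement'_top_left.1 hcomp
      have h5 : Nat.card P = 4 := by
        rw [← key]; exact Nat.card_congr (Sylow.equiv P S).toEquiv
      have h6 : Nat.card (P : Subgroup G) = 1 := by rw [h1, card_bot]
      rw [show Nat.card (P : Subgroup G) = 4 from h5] at h6
      omega
  · intro E hE hEa
    rcases hE.eq_bot_or_eq_top with h | h
    · rw [h, card_bot]; omega
    · exfalso
      apply hna
      have h1 := hEa.1
      rw [h] at h1
      refine IsMulCommutative.of_comm fun a b => ?_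
      exact congrArg Subtype.val (h1.is_comm.comm (⟨a, mem_top a⟩ : (⊤ : Subgroup G)) ⟨b, mem_top b⟩)

end Cfsg.Agent.H1.SF
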