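import Mathlib
import Cfsg.Agent.H1.SFMain

/-!
# Simple groups with an element whose centralizer has order at most 4: elements of order 4
-/

set_option autoImplicit false
set_option linter.unusedSectionVars false
set_option linter.unusedVariables false
set_option linter.style.haveILetI false

namespace Cfsg.Agent.H1.SF

open Subgroup Cfsg
open scoped Pointwise

universe u

variable {G : Type u} [Group G] [Finite G]

/-- In a simple group with quasi-dihedral Sylow 2-subgroups, elements of order 4 have centralizers of order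
at least 8. -/
theorem qd_four [IsSimpleGroup G] (hna : ¬ IsMulCommutative G) (S : Sylow 2 G)
    (hS : Cfsg.IsQuasiDihedral (S : Subgroup G)) {w : G} (hw : orderOf w = 4) :
    8 ≤ Nat.card (centralizer ({w} : Set G)) := by
  haveI : Fact (Nat.Prime 2) := ⟨Nat.prime_two⟩
  have hres : Cfsg.pResidual 2 G = ⊤ := QDW.pResidual_two_of_perfect (H17.commutator_eq_top hna)
  obtain ⟨m, hm, ⟨d⟩⟩ := H20.QDData.exists_of_isQuasiDihedral hS
  -- `w` is conjugate to `e (2 ^ (m + 1))`
  obtain ⟨Q, ⟨eQ⟩⟩ := d.exists_q8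
  have hQS : Q.map (S : Subgroup G).subtype ≤ S := Subgroup.map_subtype_le Q
  let eQ' : Q.map (S : Subgroup G).subtype ≃* QuaternionGroup 2 :=
    (Q.equivMapOfInjective _ (Subgroup.subtype_injective _)).symm.trans eQ
  have hconj : IsConj ((d.e (2 ^ (m + 1)) : (S : Subgroup G)) : G) w := by
    rw [isConj_iff]
    rcases H20.qd_conj_four S d hw with h | ⟨g, hg⟩
    · exact h
    · rcases (H20.qd_fusQ S d eQ' hQS).1 with h2 | h6
      · exfalso
        apply d.e_one_notMem_M3
        apply H20.qd_bound_M3 S d (fun i g => H20.qd_hq_of_two S d hQS h2 eQ' i g)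
        rw [hres]; exact Subgroup.mem_top _
      · obtain ⟨g', hg'⟩ := H20.qd_ab_of_six S d hQS h6 eQ'
        refine ⟨g * g', ?_⟩
        rw [← hg, ← hg']; group
  rw [← isConj_card hconj]
  -- the cyclic subgroup
  let f : ZMod (2 ^ (m + 3)) → centralizer ({((d.e (2 ^ (m + 1)) : (S : Subgroup G)) : G)} : Set G) :=
    fun i => ⟨(d.e i : G), by
      rw [mem_centralizer_singleton_iff]
      have h1 : d.e i * d.e (2 ^ (m + 1)) = d.e (2 ^ (m + 1)) * d.e i := by
        rw [← d.e_add, ← d.e_add, add_comm]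
      exact congrArg Subtype.val h1⟩
  have hf : Function.Injective f := by
    intro i j hij
    have h1 : (f i : G) = (f j : G) := congrArg Subtype.val hij
    exact d.e_inj (Subtype.ext h1)
  have h2 := Nat.card_le_card_of_injective f hf
  rw [Nat.card_zmod] at h2
  have h3 : 8 ≤ 2 ^ (m + 3) := by
    have := Nat.one_le_two_pow (n := m)
    rw [pow_add]; omega
  exact h3.trans h2

/-- Brauer-Suzuki for simple groups. -/
theorem no_quaternion [IsSimpleGroup G] (hna : ¬ IsMulCommutative G) (S : Sylow 2 G) {n : ℕ}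
    (e : (S : Subgroup G) ≃* QuaternionGroup (2 ^ (n + 1))) (h2 : 2 ∣ Nat.card G) : False := by
  have h := S0201.result S n e (by
    intro N hN ho
    rcases hN.eq_bot_or_eq_top with h | h
    · exact h
    · exfalso
      rw [h, card_top] at ho
      exact (Nat.not_even_iff_odd.2 ho) (even_iff_two_dvd.2 h2))
  rw [H17.center_eq_bot hna, card_bot] at h
  omega

/-- The structure of the Sylow 2-subgroup. -/
theorem dat_of_four [IsSimpleGroup G] (hna : ¬ IsMulCommutative G) {w : G} (hw : orderOf w = 4)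
    (hC : Nat.card (centralizer ({w} : Set G)) = 4) :
    ∃ v : G, Dat w v ∧ ∀ a b : G, orderOf a = 2 → orderOf b = 2 → IsConj a b := by
  haveI : Fact (Nat.Prime 2) := ⟨Nat.prime_two⟩
  have hzw : zpowers w = centralizer ({w} : Set G) := by
    apply eq_of_le_of_card_ge
    · rw [zpowers_le]; exact mem_centralizer_singleton_iff.2 rfl
    · rw [hC, Nat.card_zpowers, hw]
  have h4 : 4 ∣ Nat.card G := by rw [← hw]; exact orderOf_dvd_natCard w
  have h2 : 2 ∣ Nat.card G := Dvd.dvd.trans (by norm_num) h4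
  have hCp : IsPGroup 2 (centralizer ({w} : Set G)) := IsPGroup.of_card (n := 2) (by rw [hC]; norm_num)
  obtain ⟨S, hS⟩ := hCp.exists_le_sylow
  have hwC : w ∈ centralizer ({w} : Set G) := mem_centralizer_singleton_iff.2 rfl
  have hwS : w ∈ (S : Subgroup G) := hS hwC
  have hni := no_index_two hna
  obtain ⟨n, hn⟩ := S.2.exists_card_eq
  have hn' : Nat.card (S : Subgroup G) = 2 ^ n := hn
  have hle : 4 ≤ Nat.card (S : Subgroup G) := by
    rw [← hC]; exact card_le_of_le hS
  have hn2 : 2 ≤ n := by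
    by_contra h
    have : n ≤ 1 := by omega
    have := Nat.pow_le_pow_right (show 0 < 2 by norm_num) this
    omega
  have how : orderOf (⟨w, hwS⟩ : (S : Subgroup G)) = 4 := by rw [orderOf_mk, hw]
  have hCw : Nat.card (centralizer ({(⟨w, hwS⟩ : (S : Subgroup G))} : Set (S : Subgroup G))) = 4 := by
    rw [card_centralizer_sub hwS hS, hC]
  have hA : Nat.card (zpowers (⟨w, hwS⟩ : (S : Subgroup G))) = 2 ^ 2 := by
    rw [Nat.card_zpowers, how]; norm_num
  have hzS : zpowers (⟨w, hwS⟩ : (S : Subgroup G)) = centralizer ({(⟨w, hwS⟩ : (S : Subgroup G))} : Set (S : Subgroup G)) := by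
    apply eq_of_le_of_card_ge
    · rw [zpowers_le]; exact mem_centralizer_singleton_iff.2 rfl
    · rw [hCw, hA]; norm_num
  have hCA : centralizer ((zpowers (⟨w, hwS⟩ : (S : Subgroup G)) : Subgroup (S : Subgroup G)) :
      Set (S : Subgroup G)) = zpowers (⟨w, hwS⟩ : (S : Subgroup G)) := by
    apply le_antisymm
    · intro x hx
      rw [hzS, mem_centralizer_singleton_iff]
      exact (mem_centralizer_iff.1 hx _ (mem_zpowers _)).symm
    · rintro x ⟨j, rfl⟩
      rw [mem_centralizer_iff]
      rintro y ⟨i, rfl⟩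
      exact zpow_mul_comm _ i j
  have hcl := S0112.result n hn' (zpowers (⟨w, hwS⟩ : (S : Subgroup G))) hA hCA
  have hidx := MaxClass.index_commutator_of_maxClass hn2 hn' hcl
  have hn3 : 3 ≤ n := by
    by_contra h
    have hn2' : n = 2 := by omega
    have h1 : (S : Subgroup G) = zpowers w := by
      symm
      apply eq_of_le_of_card_ge
      · rw [zpowers_le]; exact hwS
      · rw [hn', hn2', Nat.card_zpowers, hw]; norm_num
    apply H17.not_isCyclic_sylow_two hna h2 S
    rw [h1]
    infer_instance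
  obtain ⟨a, b, ha, hb, hcases⟩ := MaxClass.structure_of_index_commutator hn3 hn' (by
    rw [hidx]; norm_num)
  rcases hcases with ⟨hb2, hab⟩ | ⟨hb2, hab⟩ | ⟨hn4, hb2, hab⟩
  · have hidx2 := MaxClass.index_zpowers_of_orderOf (by omega) hn' ha
    have hbb : b * b = 1 := by rw [← pow_two]; exact hb2
    have hbi : b⁻¹ = b := inv_eq_of_mul_eq_one_right hbb
    have hconj : ∀ j : ℤ, b * a ^ j * b⁻¹ = (a ^ j)⁻¹ := by
      intro j
      have h1 : b * a ^ j * b⁻¹ = (b * a * b⁻¹) ^ j := (conj_zpow).symm
      rw [h1, hab, inv_zpow]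
    have hwa : (⟨w, hwS⟩ : (S : Subgroup G)) ∈ zpowers a := by
      by_contra hwa
      have h1 : b * ⟨w, hwS⟩ ∈ zpowers a := by
        rw [mul_mem_iff_of_index_two hidx2]
        exact ⟨fun h => absurd h hb, fun h => absurd h hwa⟩
      obtain ⟨j, hj⟩ := h1
      have hj' : a ^ j = b * ⟨w, hwS⟩ := hj
      have h3 : (⟨w, hwS⟩ : (S : Subgroup G)) = b * a ^ j := by
        rw [hj', ← mul_assoc, hbb, one_mul]
      have h4 : (⟨w, hwS⟩ : (S : Subgroup G)) ^ 2 = 1 := by
        rw [h3, pow_two]
        calc b * a ^ j * (b * a ^ j) = (b * a ^ j * b⁻¹) * (b * b) * a ^ j := by group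
          _ = 1 := by rw [hbb, mul_one, hconj, inv_mul_cancel]
      have h5 := orderOf_dvd_of_pow_eq_one h4
      rw [how] at h5
      norm_num at h5
    have hle2 : zpowers a ≤ centralizer ({(⟨w, hwS⟩ : (S : Subgroup G))} : Set (S : Subgroup G)) := by
      obtain ⟨j, hj⟩ := hwa
      rintro x ⟨i, rfl⟩
      rw [mem_centralizer_singleton_iff, ← hj]
      exact zpow_mul_comm a i j
    have h8 := card_le_of_le hle2
    rw [hCw, Nat.card_zpowers, ha] at h8
    have hn3' : n = 3 := by
      by_contra h9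
      have := Nat.pow_le_pow_right (show 0 < 2 by norm_num) (show 3 ≤ n - 1 by omega)
      omega
    rw [hn3'] at hn' ha
    obtain ⟨e⟩ := MaxClass.nonempty_mulEquiv_dihedral (m := 4) (by norm_num) (by rw [ha]; norm_num) hb hb2 hab
      (by rw [hn']; norm_num)
    obtain ⟨r, s, hd⟩ := DihSyl.exists_dihData S.2 (by norm_num) e
    refine ⟨(b : G), ?_, fun x y hx hy => DihSyl.isConj_of_no_index_two hd hni hx hy⟩
    refine ⟨hw, ?_, ?_, ?_, ?_⟩
    · exact congrArg Subtype.val hbb
    · obtain ⟨j, hj⟩ := hwa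
      have h3 : b * ⟨w, hwS⟩ * b = (⟨w, hwS⟩ : (S : Subgroup G))⁻¹ := by
        have h4 := hconj j
        rw [hbi] at h4
        have hj' : a ^ j = ⟨w, hwS⟩ := hj
        rw [hj'] at h4
        exact h4
      exact congrArg Subtype.val h3
    · intro x hx
      rw [hzw]; exact mem_centralizer_singleton_iff.2 hx
    · intro h16
      have h17 : 16 ∣ Nat.card (S : Subgroup G) := by
        have h18 : Nat.card (S : Subgroup G) = 2 ^ (Nat.card G).factorization 2 := S.card_eq_multiplicity
        rw [h18, show 16 = 2 ^ 4 by norm_num]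
        apply pow_dvd_pow
        rw [← Nat.Prime.pow_dvd_iff_le_factorization Nat.prime_two Nat.card_pos.ne']
        exact h16
      rw [hn'] at h17
      norm_num at h17
  · exfalso
    obtain ⟨k, rfl⟩ : ∃ k, n = k + 3 := ⟨n - 3, by omega⟩
    obtain ⟨e⟩ := MaxClass.nonempty_mulEquiv_quaternion (m := 2 ^ (k + 1)) (by positivity) (by
      rw [ha]; rw [← pow_succ']; rfl) hb (by rw [hb2]; rfl) hab (by
        rw [hn', show 4 * 2 ^ (k + 1) = 2 ^ (k + 3) by rw [show k + 3 = k + 1 + 2 by ring, pow_add]; ring])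
    exact no_quaternion hna S e h2
  · exfalso
    have hqd : Cfsg.IsQuasiDihedral (S : Subgroup G) := by
      refine ⟨n - 1, by omega, ?_, a, b, ha, ?_, ?_⟩
      · rw [hn']; congr 1; omega
      · exact orderOf_eq_prime hb2 (by rintro rfl; exact hb (one_mem _))
      · rw [hab]; congr 2
    have := qd_four hna S hqd hw
    omega

end Cfsg.Agent.H1.SF
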