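import Mathlib
import Cfsg.Agent.H1.SFMain2

/-!
# Simple groups with an element whose centralizer has order at most 4
-/

set_option autoImplicit false
set_option linter.unusedSectionVars false
set_option linter.unusedVariables false
set_option linter.style.haveILetI false

namespace Cfsg.Agent.H1.SF

open Subgroup Cfsg
open scoped Pointwise

universe u

variable {G : Type u} [Group G] [Finite G]

theorem not_two [IsSimpleGroup G] (hna : ¬ IsMulCommutative G) {w : G} (hw : orderOf w = 2)
    (hC : Nat.card (centralizer ({w} : Set G)) = 2) : False := by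
  haveI : Fact (Nat.Prime 2) := ⟨Nat.prime_two⟩
  have h2 : 2 ∣ Nat.card G := by rw [← hw]; exact orderOf_dvd_natCard w
  have hCp : IsPGroup 2 (centralizer ({w} : Set G)) := IsPGroup.of_card (n := 1) (by rw [hC]; norm_num)
  obtain ⟨S, hS⟩ := hCp.exists_le_sylow
  have hwC : w ∈ centralizer ({w} : Set G) := mem_centralizer_singleton_iff.2 rfl
  have hwS : w ∈ (S : Subgroup G) := hS hwC
  haveI : Nontrivial (S : Subgroup G) := ⟨⟨w, hwS⟩, 1, fun h => by
    have h1 : w = 1 := congrArg Subtype.val h
    rw [h1, orderOf_one] at hw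
    omega⟩
  haveI := S.2.center_nontrivial
  obtain ⟨z, hz1⟩ := exists_ne (1 : center (S : Subgroup G))
  have hzc : ∀ x ∈ (S : Subgroup G), x * ((z : (S : Subgroup G)) : G) = ((z : (S : Subgroup G)) : G) * x := by
    intro x hx
    exact congrArg Subtype.val ((mem_center_iff.1 z.2) ⟨x, hx⟩)
  have hzC : ((z : (S : Subgroup G)) : G) ∈ centralizer ({w} : Set G) :=
    mem_centralizer_singleton_iff.2 (hzc w hwS).symm
  have hzp : zpowers ((z : (S : Subgroup G)) : G) = centralizer ({w} : Set G) := by
    have h1 := card_dvd_of_le (zpowers_le.2 hzC)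
    rw [hC, Nat.card_zpowers] at h1
    apply eq_of_le_of_card_ge (zpowers_le.2 hzC)
    rw [hC, Nat.card_zpowers]
    rcases (Nat.dvd_prime Nat.prime_two).1 h1 with h | h
    · exfalso
      apply hz1
      have h3 : ((z : (S : Subgroup G)) : G) = 1 := orderOf_eq_one_iff.1 h
      exact Subtype.ext (Subtype.ext h3)
    · rw [h]
  have hSC : (S : Subgroup G) ≤ centralizer ({w} : Set G) := by
    intro x hx
    rw [← hzp] at hwC
    obtain ⟨i, hi⟩ := hwC
    have hi' : ((z : (S : Subgroup G)) : G) ^ i = w := hi
    rw [mem_centralizer_singleton_iff, ← hi']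
    exact ((show Commute x ((z : (S : Subgroup G)) : G) from hzc x hx).zpow_right i).eq
  have hSe : (S : Subgroup G) = centralizer ({w} : Set G) := le_antisymm hSC hS
  apply H17.not_isCyclic_sylow_two hna h2 S
  rw [hSe]
  exact isCyclic_of_prime_card hC

theorem three_case [IsSimpleGroup G] (hna : ¬ IsMulCommutative G) {w : G} (hw : orderOf w = 3)
    (hC : Nat.card (centralizer ({w} : Set G)) = 3) :
    Nonempty (G ≃* alternatingGroup (Fin 5)) ∨
      Nonempty (G ≃* Matrix.ProjectiveSpecialLinearGroup (Fin 2) (ZMod 7)) := by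
  have hzw : zpowers w = centralizer ({w} : Set G) := by
    apply eq_of_le_of_card_ge
    · rw [zpowers_le]; exact mem_centralizer_singleton_iff.2 rfl
    · rw [hC, Nat.card_zpowers, hw]
  have hCA : centralizer ((zpowers w : Subgroup G) : Set G) = zpowers w := by
    apply le_antisymm
    · intro x hx
      rw [hzw, mem_centralizer_singleton_iff]
      exact (mem_centralizer_iff.1 hx _ (mem_zpowers _)).symm
    · rintro x ⟨j, rfl⟩
      rw [mem_centralizer_iff]
      rintro y ⟨i, rfl⟩
      exact zpow_mul_comm _ i j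
  have h3 : 3 ∣ Nat.card G := by rw [← hw]; exact orderOf_dvd_natCard w
  rcases S3331.result (zpowers w) (by rw [Nat.card_zpowers, hw]) hCA with
    ⟨N, hN, hnil, hcop, hq⟩ | ⟨N, hN, hNc, hN2, ⟨e⟩⟩ | h
  · exfalso
    rcases hN.eq_bot_or_eq_top with h | h
    · subst h
      rcases hq with hq | ⟨⟨e⟩⟩
      · have hcG : Nat.card G = 3 := by
          rw [← hq]; exact Nat.card_congr (QuotientGroup.quotientBot (G := G)).symm.toEquiv
        apply hna
        haveI : Fact (Nat.Prime 3) := ⟨Nat.prime_three⟩
        haveI := isCyclic_of_prime_card hcG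
        exact IsCyclic.isMulCommutative
      · exact not_perm_equiv (H17.commutator_eq_top hna) 1
          ((QuotientGroup.quotientBot (G := G)).symm.trans e)
    · rw [h, card_top] at hcop
      have h6 := Nat.eq_one_of_dvd_coprimes hcop h3 (dvd_refl 3)
      norm_num at h6
  · rcases hN.eq_bot_or_eq_top with h | h
    · subst h
      exact Or.inl ⟨(QuotientGroup.quotientBot (G := G)).symm.trans e⟩
    · exfalso
      apply hna
      rw [h] at hNc
      refine IsMulCommutative.of_comm fun a b => ?_
      exact congrArg Subtype.val (hNc.is_comm.comm (⟨a, mem_top a⟩ : (⊤ : Subgroup G)) ⟨b, mem_top b⟩)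
  · exact Or.inr h

theorem main [IsSimpleGroup G] (hG : ¬ IsCyclic G) (w : G)
    (hw : Nat.card (centralizer ({w} : Set G)) ≤ 4) :
    Nonempty (G ≃* alternatingGroup (Fin 5)) ∨ Nonempty (G ≃* alternatingGroup (Fin 6)) ∨
      Nonempty (G ≃* alternatingGroup (Fin 7)) ∨
      Nonempty (G ≃* Matrix.ProjectiveSpecialLinearGroup (Fin 2) (ZMod 7)) := by
  have hnp : ¬ (Nat.card G).Prime := fun hp => by
    haveI : Fact (Nat.card G).Prime := ⟨hp⟩
    exact hG (isCyclic_of_prime_card rfl)
  have hna : ¬ IsMulCommutative G := H17.not_comm_of_not_prime hnp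
  have hpos : 0 < Nat.card (centralizer ({w} : Set G)) := Nat.card_pos
  have hw1 : w ≠ 1 := by
    rintro rfl
    have h1 : centralizer ({(1 : G)} : Set G) = ⊤ := by
      rw [eq_top_iff]
      intro x _
      rw [mem_centralizer_singleton_iff, mul_one, one_mul]
    rw [h1, card_top] at hw hpos
    have h2 : Nat.card G ≠ 1 := by
      have := Finite.one_lt_card (α := G)
      omega
    interval_cases h : Nat.card G
    · exact h2 rfl
    · exact hnp Nat.prime_two
    · exact hnp Nat.prime_three
    · haveI : Fact (Nat.Prime 2) := ⟨Nat.prime_two⟩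
      exact hna (H17.isMulCommutative_of_card_prime_sq (p := 2) (by rw [h]; norm_num))
  have hdv : orderOf w ∣ Nat.card (centralizer ({w} : Set G)) := by
    have hwC : w ∈ centralizer ({w} : Set G) := mem_centralizer_singleton_iff.2 rfl
    have := orderOf_dvd_natCard (⟨w, hwC⟩ : centralizer ({w} : Set G))
    rwa [orderOf_mk] at this
  have ho1 : orderOf w ≠ 1 := fun h => hw1 (orderOf_eq_one_iff.1 h)
  have hn : Nat.card (centralizer ({w} : Set G)) = 1 ∨ Nat.card (centralizer ({w} : Set G)) = 2 ∨
      Nat.card (centralizer ({w} : Set G)) = 3 ∨ Nat.card (centralizer ({w} : Set G)) = 4 := by omega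
  rcases hn with h | h | h | h
  · rw [h] at hdv
    exact absurd (Nat.dvd_one.1 hdv) ho1
  · rw [h] at hdv
    exact (not_two hna (((Nat.dvd_prime Nat.prime_two).1 hdv).resolve_left ho1) h).elim
  · rw [h] at hdv
    rcases three_case hna (((Nat.dvd_prime Nat.prime_three).1 hdv).resolve_left ho1) h with h | h
    · exact Or.inl h
    · exact Or.inr (Or.inr (Or.inr h))
  · rw [h] at hdv
    have ho : orderOf w = 2 ∨ orderOf w = 4 := by
      have h5 := Nat.le_of_dvd (by norm_num) hdv
      have h6 : orderOf w ≠ 3 := by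
        intro h7; rw [h7] at hdv; norm_num at hdv
      have h7 : 0 < orderOf w := orderOf_pos w
      omega
    rcases ho with ho | ho
    · exact Or.inl (A5_of_invol hna ho h)
    · obtain ⟨v, D, hc⟩ := dat_of_four hna ho h
      rcases D.final hna hc with h | h | h
      · exact Or.inr (Or.inr (Or.inr h))
      · exact Or.inr (Or.inl h)
      · exact Or.inr (Or.inr (Or.inl h))

end Cfsg.Agent.H1.SF
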