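import Mathlib
import Cfsg.Agent.H1.Basic
import Cfsg.Agent.S0007

/-!
Sylow numbers of normal subgroups and quotients; groups with prime power Sylow numbers.
-/

set_option autoImplicit false

namespace Cfsg.Agent.H1

open scoped Pointwise
open Cfsg

universe u

variable {G : Type*} [Group G]

theorem relIndex_mul_card_inf [Finite G] (M N : Subgroup G) :
    M.relIndex N * Nat.card (M ⊓ N : Subgroup G) = Nat.card N := by
  rw [← Subgroup.inf_relIndex_right M N, mul_comm, ← Subgroup.relIndex_bot_left (M ⊓ N),
    ← Subgroup.relIndex_bot_left N, Subgroup.relIndex_mul_relIndex _ _ _ bot_le inf_le_right]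

theorem index_eq_relIndex_of_sup_eq_top [Finite G] (N M : Subgroup G) [N.Normal]
    (hsup : N ⊔ M = ⊤) : M.index = M.relIndex N := by
  have h1 := Solv.index_mul_card_inf_eq_card_of_sup_eq_top N M hsup
  have h2 := relIndex_mul_card_inf M N
  have h3 : 0 < Nat.card (M ⊓ N : Subgroup G) := Nat.card_pos
  apply Nat.eq_of_mul_eq_mul_right h3
  rw [h1, h2]

/-- The Sylow numbers of a normal subgroup divide those of the group. -/
theorem card_sylow_dvd_of_normal [Finite G] (r : ℕ) [hr : Fact r.Prime] (N : Subgroup G)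
    [N.Normal] : Nat.card (Sylow r N) ∣ Nat.card (Sylow r G) := by
  obtain ⟨Q⟩ : Nonempty (Sylow r N) := inferInstance
  obtain ⟨R, hR⟩ := Q.exists_comap_subtype_eq
  set Q' : Subgroup G := (Q : Subgroup N).map N.subtype
  have hQ' : Q' = (R : Subgroup G) ⊓ N := by
    rw [← Subgroup.subgroupOf_map_subtype]
    change (Q : Subgroup N).map N.subtype = ((R : Subgroup G).comap N.subtype).map N.subtype
    rw [hR]
  have h1 : Subgroup.normalizer ((R : Subgroup G) : Set G) ≤ Subgroup.normalizer (Q' : Set G) := by
    intro x hx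
    rw [Subgroup.mem_normalizer_iff] at hx ⊢
    intro y
    have hNx : y ∈ N ↔ x * y * x⁻¹ ∈ N := by
      constructor
      · intro h; exact Subgroup.Normal.conj_mem inferInstance _ h _
      · intro h
        have h2 := Subgroup.Normal.conj_mem inferInstance _ h x⁻¹
        have h3 : x⁻¹ * (x * y * x⁻¹) * x⁻¹⁻¹ = y := by group
        rwa [h3] at h2
    rw [hQ', Subgroup.mem_inf, Subgroup.mem_inf, ← hNx]
    have hxy := hx y
    constructor
    · rintro ⟨ha, hb⟩; exact ⟨hxy.mp ha, hb⟩
    · rintro ⟨ha, hb⟩; exact ⟨hxy.mpr ha, hb⟩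
  have hfr : Subgroup.normalizer (Q' : Set G) ⊔ N = ⊤ := Sylow.normalizer_sup_eq_top Q
  rw [sup_comm] at hfr
  have h2 := index_eq_relIndex_of_sup_eq_top N _ hfr
  have h3 : Nat.card (Sylow r N) = (Subgroup.normalizer (Q' : Set G)).relIndex N := by
    rw [Q.card_eq_index_normalizer, Subgroup.relIndex]
    congr 1
    ext x
    change x ∈ Subgroup.normalizer ((Q : Subgroup N) : Set N) ↔
      (x : G) ∈ Subgroup.normalizer (Q' : Set G)
    rw [Subgroup.mem_normalizer_iff, Subgroup.mem_normalizer_iff]
    constructor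
    · intro h y
      constructor
      · rintro ⟨z, hz, rfl⟩
        exact ⟨x * z * x⁻¹, (h z).mp hz, rfl⟩
      · rintro ⟨z, hz, hzy⟩
        refine ⟨x⁻¹ * z * x, ?_, ?_⟩
        · rw [SetLike.mem_coe, SetLike.mem_coe.symm]
          have h4 := (h (x⁻¹ * z * x)).mpr
          apply h4
          have h5 : x * (x⁻¹ * z * x) * x⁻¹ = z := by group
          rw [h5]; exact hz
        · have h6 : (z : G) = x * y * (x : G)⁻¹ := hzy
          change (x : G)⁻¹ * (z : G) * x = y
          rw [h6]; group
    · intro h y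
      constructor
      · intro hy
        obtain ⟨z, hz, hzy⟩ := (h y).mp ⟨y, hy, rfl⟩
        have : z = x * y * x⁻¹ := Subtype.ext hzy
        rwa [← this]
      · intro hy
        obtain ⟨z, hz, hzy⟩ := (h y).mpr ⟨x * y * x⁻¹, hy, rfl⟩
        have : z = y := Subtype.ext hzy
        rwa [← this]
  rw [h3, ← h2, R.card_eq_index_normalizer]
  exact Subgroup.index_dvd_of_le h1

/-- The Sylow numbers of a quotient divide those of the group. -/
theorem card_sylow_quotient_dvd [Finite G] (r : ℕ) [hr : Fact r.Prime] (N : Subgroup G)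
    [N.Normal] : Nat.card (Sylow r (G ⧸ N)) ∣ Nat.card (Sylow r G) := by
  obtain ⟨R⟩ : Nonempty (Sylow r G) := inferInstance
  have hπ : Function.Surjective (QuotientGroup.mk' N) := QuotientGroup.mk'_surjective N
  rw [(R.mapSurjective hπ).card_eq_index_normalizer, R.card_eq_index_normalizer]
  have h1 : (Subgroup.normalizer ((R : Subgroup G) : Set G)).map (QuotientGroup.mk' N) ≤
      Subgroup.normalizer (((R.mapSurjective hπ : Sylow r (G ⧸ N)) : Subgroup (G ⧸ N)) :
        Set (G ⧸ N)) := by
    rw [Sylow.coe_mapSurjective]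
    exact Subgroup.le_normalizer_map _
  exact (Subgroup.index_dvd_of_le h1).trans (Subgroup.index_map_dvd _ hπ)

/-- If `T ≤ N(R)` is a Sylow `t`-subgroup and the Sylow numbers for `r`, `t` are coprime, then `T`
lies in the core of `N(R)`. -/
theorem sylow_le_normalCore [Finite G] (r t : ℕ) [hr : Fact r.Prime] [ht : Fact t.Prime]
    (R : Sylow r G) (T : Sylow t G)
    (hT : (T : Subgroup G) ≤ Subgroup.normalizer ((R : Subgroup G) : Set G))
    (hcop : (Nat.card (Sylow r G)).Coprime (Nat.card (Sylow t G))) :
    (T : Subgroup G) ≤ (Subgroup.normalizer ((R : Subgroup G) : Set G)).normalCore := by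
  rw [R.card_eq_index_normalizer, T.card_eq_index_normalizer] at hcop
  have h1 := (S0007.result _ _ hcop).2
  intro a ha g
  obtain ⟨x, hx, y, hy, rfl⟩ := h1 g
  have h2 : y * a * y⁻¹ ∈ (T : Subgroup G) := (Subgroup.mem_normalizer_iff.mp hy a).mp ha
  have h3 : x * y * a * (x * y)⁻¹ = x * (y * a * y⁻¹) * x⁻¹ := by group
  rw [h3]
  exact Subgroup.mul_mem _ (Subgroup.mul_mem _ hx (hT h2)) (Subgroup.inv_mem _ hx)

/-- A subgroup of index prime to `t` contains a Sylow `t`-subgroup. -/
theorem exists_sylow_le_of_not_dvd_index [Finite G] (t : ℕ) [ht : Fact t.Prime] (H : Subgroup G)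
    (hH : ¬ t ∣ H.index) : ∃ T : Sylow t G, (T : Subgroup G) ≤ H := by
  obtain ⟨Q⟩ : Nonempty (Sylow t H) := inferInstance
  have h1 : IsPGroup t ((Q : Subgroup H).map H.subtype) := Q.isPGroup'.map _
  have h2 : ¬ t ∣ ((Q : Subgroup H).map H.subtype).index := by
    rw [← Subgroup.relIndex_mul_index (Subgroup.map_subtype_le (Q : Subgroup H))]
    intro h
    rcases ht.out.dvd_mul.mp h with h | h
    · rw [Subgroup.relIndex, Subgroup.subgroupOf, Subgroup.comap_map_eq_self_of_injective
        H.subtype_injective] at h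
      exact Q.not_dvd_index h
    · exact hH h
  exact ⟨h1.toSylow h2, by rw [IsPGroup.toSylow_coe]; exact Subgroup.map_subtype_le _⟩

/-- The simple case. -/
theorem card_eq_of_simple_prime_pow_sylow [Finite G] [IsSimpleGroup G]
    (hns : ¬ Group.IsSolvable G)
    (h : ∀ (r : ℕ) [Fact r.Prime], Nat.card (Sylow r G) = 1 ∨ IsPrimePow (Nat.card (Sylow r G))) :
    ∃ p q a b : ℕ, p.Prime ∧ q.Prime ∧ Nat.card G = p ^ a * q ^ b := by
  classical
  -- Sylow subgroups are not normal
  have hnn : ∀ (r : ℕ) [Fact r.Prime], r ∣ Nat.card G → ∀ R : Sylow r G,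
      Subgroup.normalizer ((R : Subgroup G) : Set G) ≠ ⊤ := by
    intro r hr hdvd R htop
    have hn : (R : Subgroup G).Normal := Subgroup.normalizer_eq_top_iff.mp htop
    rcases hn.eq_bot_or_eq_top with h1 | h1
    · exact R.ne_bot_of_dvd_card hdvd h1
    · apply hns
      have h2 : IsPGroup r G := by
        have h3 := R.isPGroup'
        rw [h1] at h3
        exact h3.of_equiv Subgroup.topEquiv
      have := h2.isNilpotent
      infer_instance
  have hcore : ∀ (r t : ℕ) [Fact r.Prime] [Fact t.Prime], r ∣ Nat.card G → t ∣ Nat.card G →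
      (Nat.card (Sylow r G)).Coprime (Nat.card (Sylow t G)) → t ∣ Nat.card (Sylow r G) := by
    intro r t hr ht hrd htd hcop
    by_contra hnd
    obtain ⟨R⟩ : Nonempty (Sylow r G) := inferInstance
    have hnd' := hnd
    rw [R.card_eq_index_normalizer] at hnd'
    obtain ⟨T, hT⟩ := exists_sylow_le_of_not_dvd_index t _ hnd'
    have h1 := sylow_le_normalCore r t R T hT hcop
    rcases (Subgroup.normalCore_normal
      (Subgroup.normalizer ((R : Subgroup G) : Set G))).eq_bot_or_eq_top with h2 | h2
    · rw [h2, le_bot_iff] at h1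
      exact T.ne_bot_of_dvd_card htd h1
    · apply hnn r hrd R
      rw [eq_top_iff, ← h2]
      exact Subgroup.normalCore_le _
  -- the function `s`
  have hs : ∀ r : ℕ, r.Prime → r ∣ Nat.card G → ∃ s : ℕ, s.Prime ∧ s ≠ r ∧ s ∣ Nat.card G ∧
      ∃ k : ℕ, k ≠ 0 ∧ ∀ (_ : Fact r.Prime), Nat.card (Sylow r G) = s ^ k := by
    intro r hr hrd
    have hrF : Fact r.Prime := ⟨hr⟩
    obtain ⟨R⟩ : Nonempty (Sylow r G) := inferInstance
    rcases h r with h1 | h1
    · exfalso
      apply hnn r hrd R
      rw [R.card_eq_index_normalizer, Subgroup.index_eq_one] at h1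
      exact h1
    · obtain ⟨s, k, hsp, hk, hsk⟩ := h1
      have hsp' : s.Prime := Nat.prime_iff.mpr hsp
      have hsd : s ∣ Nat.card (Sylow r G) := by rw [← hsk]; exact dvd_pow_self s hk.ne'
      refine ⟨s, hsp', ?_, ?_, k, hk.ne', fun _ => hsk.symm⟩
      · rintro rfl
        exact not_dvd_card_sylow s G hsd
      · refine hsd.trans ?_
        rw [R.card_eq_index_normalizer]
        exact Subgroup.index_dvd_card _
  choose! s hsp hsr hsd k hk hsk using hs
  have hnt : Nat.card G ≠ 1 := Finite.one_lt_card.ne'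
  obtain ⟨r, hr, hrd⟩ := Nat.exists_prime_and_dvd hnt
  have key : ∀ a b : ℕ, a.Prime → b.Prime → a ∣ Nat.card G → b ∣ Nat.card G → s a ≠ s b →
      b = s a := by
    intro a b ha hb had hbd hne
    have haF : Fact a.Prime := ⟨ha⟩
    have hbF : Fact b.Prime := ⟨hb⟩
    have h1 : (Nat.card (Sylow a G)).Coprime (Nat.card (Sylow b G)) := by
      rw [hsk a ha had haF, hsk b hb hbd hbF]
      exact Nat.Coprime.pow _ _ ((Nat.coprime_primes (hsp a ha had) (hsp b hb hbd)).mpr hne)
    have h2 := hcore a b had hbd h1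
    rw [hsk a ha had haF] at h2
    exact (Nat.prime_dvd_prime_iff_eq hb (hsp a ha had)).mp (hb.dvd_of_dvd_pow h2)
  have ht := hsp r hr hrd
  have htr := hsr r hr hrd
  have htd := hsd r hr hrd
  have hst : s (s r) = r := by
    have h1 : s (s r) ≠ s r := hsr (s r) ht htd
    have h2 := key (s r) r ht hr htd hrd h1
    exact h2.symm
  have hall : ∀ v : ℕ, v.Prime → v ∣ Nat.card G → v = r ∨ v = s r := by
    intro v hv hvd
    by_contra hcon
    push Not at hcon
    have h1 : s v = s r := by
      by_contra hne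
      exact hcon.2 (key r v hr hv hrd hvd (Ne.symm hne))
    have h2 : s v ≠ s (s r) := by
      rw [hst, h1]; exact htr
    have h3 := key (s r) v ht hv htd hvd (Ne.symm h2)
    rw [hst] at h3
    exact hcon.1 h3
  refine ⟨r, s r, (Nat.card G).factorization r, (Nat.card G).factorization (s r), hr, ht, ?_⟩
  have h1 : (Nat.card G).primeFactors = {r, s r} := by
    ext v
    rw [Nat.mem_primeFactors, Finset.mem_insert, Finset.mem_singleton]
    constructor
    · rintro ⟨hv, hvd, -⟩; exact hall v hv hvd
    · rintro (rfl | rfl)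
      · exact ⟨hr, hrd, Nat.card_pos.ne'⟩
      · exact ⟨ht, htd, Nat.card_pos.ne'⟩
  have h2 := Nat.prod_factorization_pow_eq_self (n := Nat.card G) Nat.card_pos.ne'
  rw [Finsupp.prod, Nat.support_factorization, h1, Finset.prod_pair (Ne.symm htr)] at h2
  exact h2.symm

/-- Groups all of whose Sylow numbers are prime powers are solvable (given Burnside's theorem). -/
theorem solvable_of_sylow_numbers
    (hB : ∀ {G : Type u} [Group G] [Finite G] (p q a b : ℕ), p.Prime → q.Prime →
      Nat.card G = p ^ a * q ^ b → Group.IsSolvable G) (n : ℕ) :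
    ∀ {G : Type u} [Group G] [Finite G], Nat.card G = n →
      (∀ (r : ℕ) [Fact r.Prime], Nat.card (Sylow r G) = 1 ∨ IsPrimePow (Nat.card (Sylow r G))) →
      Group.IsSolvable G := by
  induction n using Nat.strong_induction_on with
  | _ n ih =>
    intro G _ _ hn h
    by_cases hnt : Nontrivial G
    swap
    · rw [not_nontrivial_iff_subsingleton] at hnt
      infer_instance
    by_cases hsimple : IsSimpleGroup G
    · by_contra hns
      obtain ⟨p, q, a, b, hp, hq, hcard⟩ := card_eq_of_simple_prime_pow_sylow hns h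
      exact hns (hB p q a b hp hq hcard)
    · have : ∃ N : Subgroup G, N.Normal ∧ N ≠ ⊥ ∧ N ≠ ⊤ := by
        by_contra hcon
        push Not at hcon
        apply hsimple
        refine { eq_bot_or_eq_top_of_normal := fun N hN => ?_ }
        by_cases hb : N = ⊥
        · exact Or.inl hb
        · exact Or.inr (hcon N hN hb)
      obtain ⟨N, hN, hbot, htop⟩ := this
      have hdvd : ∀ m l : ℕ, m ∣ l → (l = 1 ∨ IsPrimePow l) → (m = 1 ∨ IsPrimePow m) := by
        intro m l hml hl
        by_cases hm : m = 1
        · exact Or.inl hm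
        · right
          rcases hl with hl | hl
          · rw [hl, Nat.dvd_one] at hml
            exact absurd hml hm
          · exact hl.dvd hml hm
      have h1 : Group.IsSolvable N := by
        apply ih (Nat.card N) _ rfl
        · intro r hr
          exact hdvd _ _ (card_sylow_dvd_of_normal r N) (h r)
        · rw [← hn]
          exact lt_of_le_of_ne (Subgroup.card_le_card_group N)
            (fun h => htop ((Subgroup.card_eq_iff_eq_top N).mp h))
      have h2 : Group.IsSolvable (G ⧸ N) := by
        apply ih (Nat.card (G ⧸ N)) _ rfl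
        · intro r hr
          exact hdvd _ _ (card_sylow_quotient_dvd r N) (h r)
        · rw [← hn, ← Subgroup.card_mul_index N, ← Subgroup.index_eq_card]
          have h3 : 1 < Nat.card N := by
            have h4 : Nat.card N ≠ 1 := fun h => hbot (Subgroup.card_eq_one.mp h)
            have h5 : 0 < Nat.card N := Nat.card_pos
            omega
          have h4 : 0 < N.index := Nat.pos_of_ne_zero Subgroup.index_ne_zero_of_finite
          nlinarith
      exact Group.isSolvable_of_ker_le_range N.subtype (QuotientGroup.mk' N) (by simp)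

end Cfsg.Agent.H1
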