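import Cfsg.Agent.BT.Base
import Cfsg.Agent.BR.Det

/-!
S0984 (simple groups of order 2520): the interface.
-/

set_option autoImplicit false

namespace Cfsg.Agent.H1.T

open Cfsg Subgroup Cfsg.Agent.BR
open Cfsg.Agent.CharBase (oneIrr)

universe u

/-- the characters of degrees 6, 15, 10, 10 of a simple group of order 2520. -/
structure Chr (G : Type u) [Group G] [Finite G] where
  χ : IrrCharacter G
  θ : IrrCharacter G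
  ψ : IrrCharacter G
  ψ' : IrrCharacter G
  dχ : dg χ = 6
  dθ : dg θ = 15
  dψ : dg ψ = 10
  dψ' : dg ψ' = 10
  hψ : ψ ≠ ψ'
  out : ∀ φ : IrrCharacter G, φ ≠ oneIrr G → φ ≠ χ → φ ≠ θ → φ ≠ ψ → φ ≠ ψ' → 7 ∣ dg φ
  vals : ∀ g : G, ¬ 7 ∣ orderOf g → ∃ a b c : ℤ, (χ : G → ℂ) g = a ∧ (θ : G → ℂ) g = b ∧
    (ψ : G → ℂ) g = c ∧ (ψ' : G → ℂ) g = c ∧ 1 + b = a + c
  invol : ∀ t : G, orderOf t = 2 → ∀ a c : ℤ, (χ : G → ℂ) t = a → (ψ : G → ℂ) t = c →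
    (a = 2 ∧ c = -2) ∨ (a = 2 ∧ c = 6) ∨ (a = -2 ∧ c = 2)

end Cfsg.Agent.H1.T
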