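import Cfsg.Agent.H1.T0
import Cfsg.Agent.BT.InvPair
import Cfsg.Agent.BT.Kernel
import Cfsg.Agent.CycG.PrinData

/-!
S0984: integer character values.
-/

set_option autoImplicit false

namespace Cfsg.Agent.H1.T

open Cfsg Subgroup Cfsg.Agent.BR
open Cfsg.Agent.CharBase (oneIrr)

universe u

/-- an integer value of a character is taken at all generators. -/
theorem int_pow {G : Type u} [Group G] [Finite G] {χ : G → ℂ} (hχ : IsCharacter G χ) {g : G}
    {k : ℕ} (hk : k.Coprime (orderOf g)) {m : ℤ} (hm : χ g = m) : χ (g ^ k) = m := by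
  obtain ⟨σ, hσ⟩ := Char.exists_aut_pow (orderOf_pos g).ne' hk
  rw [← Char.map_char_eq hχ g dvd_rfl σ hσ, hm, map_intCast]

/-- an integer value is a rational-class value: sum over a cyclic group of prime order. -/
theorem sum_prime {G : Type u} [Group G] [Finite G] {χ : G → ℂ} (hχ : IsCharacter G χ) {g : G}
    {p : ℕ} (hp : p.Prime) (hg : orderOf g = p) {m d : ℤ} (hm : χ g = m) (hd : χ 1 = d) :
    ∃ c : ℕ, d + (p - 1) * m = p * c := by
  classical
  have := Fintype.ofFinite (zpowers g)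
  obtain ⟨c, hc⟩ := H79.sum_subgroup_eq hχ (zpowers g)
  rw [Nat.card_zpowers, hg] at hc
  refine ⟨c, ?_⟩
  have h1 : ∑ x : zpowers g, χ x = χ 1 + ∑ x ∈ (Finset.univ : Finset (zpowers g)).erase 1, χ x := by
    rw [sum_P_split (fun x : zpowers g => χ x), coe_one]
  have h2 : ∀ x ∈ (Finset.univ : Finset (zpowers g)).erase 1, χ (x : G) = m := by
    intro x hx
    obtain ⟨k, hk⟩ : ∃ k : ℕ, (x : G) = g ^ k := by
      obtain ⟨k, hk⟩ := mem_zpowers_iff.mp x.2
      have h3 : (x : G) ∈ Submonoid.powers g := by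
        rw [mem_powers_iff_mem_zpowers]; exact x.2
      obtain ⟨k, hk⟩ := h3
      exact ⟨k, hk.symm⟩
    rw [hk]
    refine int_pow hχ ?_ hm
    rw [hg, Nat.coprime_comm, hp.coprime_iff_not_dvd]
    intro h3
    apply (Finset.mem_erase.mp hx).1
    apply Subtype.ext
    rw [hk, coe_one, ← orderOf_dvd_iff_pow_eq_one, hg]
    exact h3
  rw [h1, Finset.sum_congr rfl h2, Finset.sum_const, Finset.card_erase_of_mem (Finset.mem_univ _),
    Finset.card_univ, ← Nat.card_eq_fintype_card, Nat.card_zpowers, hg, hd, nsmul_eq_mul,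
    Nat.cast_sub hp.one_lt.le, Nat.cast_one] at hc
  exact_mod_cast hc

end Cfsg.Agent.H1.T
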