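import Cfsg.Agent.H1.T1

/-!
S0984: the characters.
-/

set_option autoImplicit false

namespace Cfsg.Agent.H1.T

open Cfsg Subgroup Cfsg.Agent.BR Cfsg.Agent.BT
open Cfsg.Agent.CharBase (oneIrr)

universe u

/-- degrees in `X`. -/
theorem deg_X_arith {a : ℕ} {δ : ℤ} (hδ : δ = 1 ∨ δ = -1) (h1 : a ∣ 360) (h2 : a ≤ 50) (h3 : a ≠ 1)
    (h4 : (7 : ℤ) ∣ (a : ℤ) - δ) :
    (δ = 1 ∧ (a = 8 ∨ a = 15 ∨ a = 36)) ∨ (δ = -1 ∧ (a = 6 ∨ a = 20)) := by
  have h5 : a ∈ (Nat.divisors 360).filter (· ≤ 50) := by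
    rw [Finset.mem_filter, Nat.mem_divisors]
    exact ⟨⟨h1, by norm_num⟩, h2⟩
  have h6 : (Nat.divisors 360).filter (· ≤ 50) =
    {1, 2, 3, 4, 5, 6, 8, 9, 10, 12, 15, 18, 20, 24, 30, 36, 40, 45} := by decide +kernel
  rw [h6] at h5
  simp only [Finset.mem_insert, Finset.mem_singleton] at h5
  rcases hδ with rfl | rfl
  · left
    refine ⟨rfl, ?_⟩
    rcases h5 with rfl | rfl | rfl | rfl | rfl | rfl | rfl | rfl | rfl | rfl | rfl | rfl | rfl |
      rfl | rfl | rfl | rfl | rfl <;> first | omega | (exfalso; omega)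
  · right
    refine ⟨rfl, ?_⟩
    rcases h5 with rfl | rfl | rfl | rfl | rfl | rfl | rfl | rfl | rfl | rfl | rfl | rfl | rfl |
      rfl | rfl | rfl | rfl | rfl <;> first | omega | (exfalso; omega)

theorem deg_Y_arith {a : ℕ} {δ : ℤ} (hδ : δ = 1 ∨ δ = -1) (h1 : a ∣ 360) (h2 : a ≤ 35)
    (h4 : (7 : ℤ) ∣ (a : ℤ) + δ * 3) :
    (δ = 1 ∧ (a = 4 ∨ a = 18)) ∨ (δ = -1 ∧ (a = 3 ∨ a = 10 ∨ a = 24)) := by
  have h5 : a ∈ (Nat.divisors 360).filter (· ≤ 35) := by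
    rw [Finset.mem_filter, Nat.mem_divisors]
    exact ⟨⟨h1, by norm_num⟩, h2⟩
  have h6 : (Nat.divisors 360).filter (· ≤ 35) =
    {1, 2, 3, 4, 5, 6, 8, 9, 10, 12, 15, 18, 20, 24, 30} := by decide +kernel
  rw [h6] at h5
  simp only [Finset.mem_insert, Finset.mem_singleton] at h5
  rcases hδ with rfl | rfl
  · left
    refine ⟨rfl, ?_⟩
    rcases h5 with rfl | rfl | rfl | rfl | rfl | rfl | rfl | rfl | rfl | rfl | rfl | rfl | rfl |
      rfl | rfl <;> first | omega | (exfalso; omega)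
  · right
    refine ⟨rfl, ?_⟩
    rcases h5 with rfl | rfl | rfl | rfl | rfl | rfl | rfl | rfl | rfl | rfl | rfl | rfl | rfl |
      rfl | rfl <;> first | omega | (exfalso; omega)

set_option maxHeartbeats 4000000 in
/-- the solutions of the degree equation (up to exchange). -/
theorem deg_arith {a b e : ℕ} {δa δb δe : ℤ}
    (ha : (δa = 1 ∧ (a = 8 ∨ a = 15 ∨ a = 36)) ∨ (δa = -1 ∧ (a = 6 ∨ a = 20)))
    (hb : (δb = 1 ∧ (b = 8 ∨ b = 15 ∨ b = 36)) ∨ (δb = -1 ∧ (b = 6 ∨ b = 20)))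
    (he : (δe = 1 ∧ (e = 4 ∨ e = 18)) ∨ (δe = -1 ∧ (e = 3 ∨ e = 10 ∨ e = 24)))
    (heq : 1 + δa * a + δb * b + δe * e = 0) :
    (δa = -1 ∧ a = 6 ∧ δb = 1 ∧ b = 15 ∧ δe = -1 ∧ e = 10) ∨
    (δb = -1 ∧ b = 6 ∧ δa = 1 ∧ a = 15 ∧ δe = -1 ∧ e = 10) ∨
    (δa = -1 ∧ a = 6 ∧ δb = 1 ∧ b = 8 ∧ δe = -1 ∧ e = 3) ∨
    (δb = -1 ∧ b = 6 ∧ δa = 1 ∧ a = 8 ∧ δe = -1 ∧ e = 3) ∨
    (δa = 1 ∧ a = 8 ∧ δb = 1 ∧ b = 15 ∧ δe = -1 ∧ e = 24) ∨
    (δb = 1 ∧ b = 8 ∧ δa = 1 ∧ a = 15 ∧ δe = -1 ∧ e = 24) ∨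
    (δa = 1 ∧ a = 15 ∧ δb = -1 ∧ b = 20 ∧ δe = 1 ∧ e = 4) ∨
    (δb = 1 ∧ b = 15 ∧ δa = -1 ∧ a = 20 ∧ δe = 1 ∧ e = 4) := by
  rcases ha with ⟨rfl, rfl | rfl | rfl⟩ | ⟨rfl, rfl | rfl⟩ <;>
    rcases hb with ⟨rfl, rfl | rfl | rfl⟩ | ⟨rfl, rfl | rfl⟩ <;>
    rcases he with ⟨rfl, rfl | rfl⟩ | ⟨rfl, rfl | rfl | rfl⟩ <;>
    first
      | (exfalso; revert heq; decide)
      | decide

section

variable {G : Type u} [Group G] [Finite G]

/-- the raw data: two nonprincipal characters `α, β` and the exceptional ones `ψ, ψ'`. -/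
structure Raw (y : G) (α β ψ ψ' : IrrCharacter G) (δa δb δe : ℤ) : Prop where
  one_ne : α ≠ oneIrr G ∧ β ≠ oneIrr G ∧ ψ ≠ oneIrr G
  ne : ψ ≠ ψ'
  dg_eq : dg ψ = dg ψ'
  sa : δa = 1 ∨ δa = -1
  sb : δb = 1 ∨ δb = -1
  se : δe = 1 ∨ δe = -1
  ca : (7 : ℤ) ∣ (dg α : ℤ) - δa
  cb : (7 : ℤ) ∣ (dg β : ℤ) - δb
  ce : (7 : ℤ) ∣ (dg ψ : ℤ) + δe * 3
  da : dg α ∣ 360
  db : dg β ∣ 360
  de : dg ψ ∣ 360
  ne1 : dg α ≠ 1 ∧ dg β ≠ 1
  sq : 1 + dg α ^ 2 + dg β ^ 2 + 2 * dg ψ ^ 2 ≤ 2520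
  out : ∀ φ : IrrCharacter G, φ ≠ oneIrr G → φ ≠ α → φ ≠ β → φ ≠ ψ → φ ≠ ψ' → 7 ∣ dg φ
  reg : ∀ g : G, ¬ 7 ∣ orderOf g → 1 + (δa : ℂ) * (α : G → ℂ) g + δb * (β : G → ℂ) g +
    δe * (ψ : G → ℂ) g = 0
  yeq : ∀ g : G, ¬ 7 ∣ orderOf g → (ψ : G → ℂ) g = (ψ' : G → ℂ) g
  inv : ∀ t : G, orderOf t = 2 → 1 + (δa : ℂ) * ((α : G → ℂ) t) ^ 2 / dg α +
    δb * ((β : G → ℂ) t) ^ 2 / dg β + δe * ((ψ : G → ℂ) t) ^ 2 / dg ψ = 0

theorem Raw.swap {y : G} {α β ψ ψ' : IrrCharacter G} {δa δb δe : ℤ}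
    (R : Raw y α β ψ ψ' δa δb δe) : Raw y β α ψ ψ' δb δa δe where
  one_ne := ⟨R.one_ne.2.1, R.one_ne.1, R.one_ne.2.2⟩
  ne := R.ne
  dg_eq := R.dg_eq
  sa := R.sb
  sb := R.sa
  se := R.se
  ca := R.cb
  cb := R.ca
  ce := R.ce
  da := R.db
  db := R.da
  de := R.de
  ne1 := ⟨R.ne1.2, R.ne1.1⟩
  sq := by have := R.sq; linarith
  out := fun φ h1 h2 h3 h4 h5 => R.out φ h1 h3 h2 h4 h5
  reg := fun g hg => by have := R.reg g hg; linear_combination this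
  yeq := R.yeq
  inv := fun t ht => by have := R.inv t ht; linear_combination this

theorem exists_raw [IsSimpleGroup G] (h : Nat.card G = 2520) (hperf : commutator G = ⊤) (y : G)
    (hy : orderOf y = 7)
    (hC : Nat.card (centralizer ({y} : Set G)) = 7)
    (hN : Nat.card (normalizer (zpowers y : Set G)) = 21) :
    ∃ (α β ψ ψ' : IrrCharacter G) (δa δb δe : ℤ), Raw y α β ψ ψ' δa δb δe := by
  classical
  haveI : Fact (Nat.Prime 7) := ⟨by norm_num⟩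
  haveI : Fintype G := Fintype.ofFinite G
  haveI : Fintype (IrrCharacter G) := Fintype.ofFinite _
  have hy1 : y ≠ 1 := by
    rintro rfl
    rw [orderOf_one] at hy
    omega
  set P : Subgroup G := zpowers y with hPdef
  have hyP : y ∈ P := mem_zpowers y
  have hPc : Nat.card P = 7 := by rw [Nat.card_zpowers, hy]
  have hPi : P.index = 360 := by
    have := P.card_mul_index
    rw [hPc, h] at this
    omega
  have hP : Sp 7 P := ⟨hPc, by rw [hPi]; norm_num⟩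
  have hCP : centralizer (P : Set G) = P := by
    have h1 : centralizer (P : Set G) = centralizer ({y} : Set G) := (hP.centralizer_eq hyP hy1).symm
    rw [h1]
    symm
    refine Subgroup.eq_of_le_of_card_ge ?_ (by rw [hC, hPc])
    rw [← h1]
    intro x hx
    obtain ⟨i, rfl⟩ := mem_zpowers_iff.mp hx
    rw [mem_centralizer_iff]
    intro z hz
    obtain ⟨j, rfl⟩ := mem_zpowers_iff.mp hz
    rw [← zpow_add, ← zpow_add, add_comm]
  obtain ⟨B⟩ := CycG.nonempty_data hP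
  let st : Ex 7 P := ⟨hP, hCP, B, by norm_num⟩
  have hst : st.B = B := rfl
  have hind : ind P = 3 := by
    have := st.card_N
    rw [hN] at this
    omega
  have hNi : (normalizer (P : Set G)).index = 120 := by
    have := (normalizer (P : Set G)).card_mul_index
    rw [hN, h] at this
    omega
  have hXc : B.X.card = 3 := by rw [B.cardX, hind]
  have hYc : B.Y.card = 2 := by
    have := B.cardY
    rw [hind] at this
    omega
  obtain ⟨ψ, ψ', hψne, hY⟩ := Finset.card_eq_two.mp hYc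
  obtain ⟨α, β, hαβ, hX⟩ : ∃ α β : IrrCharacter G, α ≠ β ∧ B.X.erase (oneIrr G) = {α, β} := by
    have : (B.X.erase (oneIrr G)).card = 2 := by
      rw [Finset.card_erase_of_mem B.one_mem, hXc]
    exact Finset.card_eq_two.mp this
  have hαX : α ∈ B.X ∧ α ≠ oneIrr G := by
    have : α ∈ B.X.erase (oneIrr G) := by rw [hX]; simp
    exact ⟨Finset.mem_of_mem_erase this, Finset.ne_of_mem_erase this⟩
  have hβX : β ∈ B.X ∧ β ≠ oneIrr G := by
    have : β ∈ B.X.erase (oneIrr G) := by rw [hX]; simp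
    exact ⟨Finset.mem_of_mem_erase this, Finset.ne_of_mem_erase this⟩
  have hψY : ψ ∈ B.Y := by rw [hY]; simp
  have hψY' : ψ' ∈ B.Y := by rw [hY]; simp
  have hsumX : ∀ F : IrrCharacter G → ℂ, ∑ χ ∈ B.X, F χ = F (oneIrr G) + (F α + F β) := by
    intro F
    rw [← Finset.add_sum_erase _ _ B.one_mem, hX, Finset.sum_pair hαβ]
  have hδ1 : B.δ (oneIrr G) = 1 := B.δ_one hP
  have hdg1 : dg (oneIrr G) = 1 := by
    have h1 := dg_eq (oneIrr G)
    rw [CharBase.oneIrr_apply] at h1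
    exact_mod_cast h1.symm
  have hψ1 : ψ ≠ oneIrr G := by
    intro h0
    rw [h0] at hψY
    exact Finset.disjoint_left.mp B.disj B.one_mem hψY
  refine ⟨α, β, ψ, ψ', B.δ α, B.δ β, B.δ₀, ⟨hαX.2, hβX.2, hψ1⟩, hψne, B.dg_Y hψY hψY',
    B.sgn α hαX.1, B.sgn β hβX.1, B.sgn₀, B.congr_X hP hαX.1, B.congr_X hP hβX.1, ?_, ?_, ?_, ?_,
    ?_, ?_, ?_, ?_, fun g hg => B.Y_eq hψY hψY' hg, ?_⟩
  · have := B.congr_Y hP hψY
    rw [hind] at this
    exact_mod_cast this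
  · have := B.dvd_X hP hαX.1
    rwa [hind, hNi] at this
  · have := B.dvd_X hP hβX.1
    rwa [hind, hNi] at this
  · have := B.dvd_Y hP hψY
    rwa [hind, hNi] at this
  · exact ⟨fun h1 => hαX.2 (eq_one_of_perfect hperf h1), fun h1 => hβX.2 (eq_one_of_perfect hperf h1)⟩
  · have h1 := CharBase.sum_sq_degree (G := G)
    have h2 : ∑ φ : IrrCharacter G, dg φ ^ 2 = 2520 := by
      rw [h] at h1
      have h3 : ∑ φ : IrrCharacter G, ((dg φ : ℂ)) ^ 2 = ((2520 : ℕ) : ℂ) := by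
        rw [← h1]
        exact Finset.sum_congr rfl fun φ _ => by rw [dg_eq]
      exact_mod_cast h3
    have h3 : ∑ φ ∈ B.X ∪ B.Y, dg φ ^ 2 ≤ ∑ φ : IrrCharacter G, dg φ ^ 2 :=
      Finset.sum_le_sum_of_subset (Finset.subset_univ _)
    rw [Finset.sum_union B.disj, ← Finset.add_sum_erase _ _ B.one_mem, hX, Finset.sum_pair hαβ, hY,
      Finset.sum_pair hψne, h2, hdg1, ← B.dg_Y hψY hψY'] at h3
    linarith
  · intro φ h1 h2 h3 h4 h5
    rcases st.mem_or φ with h0 | h0 | h0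
    · rw [hst] at h0
      have : φ ∈ B.X.erase (oneIrr G) := Finset.mem_erase.mpr ⟨h1, h0⟩
      rw [hX, Finset.mem_insert, Finset.mem_singleton] at this
      rcases this with h | h
      · exact absurd h h2
      · exact absurd h h3
    · rw [hst, hY, Finset.mem_insert, Finset.mem_singleton] at h0
      rcases h0 with h | h
      · exact absurd h h4
      · exact absurd h h5
    · exact h0
  · intro g hg
    have h1 := B.reg g hg ψ hψY
    rw [hsumX, hδ1, CharBase.oneIrr_apply] at h1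
    push_cast at h1
    linear_combination h1
  · intro t ht
    have h1 : t * t = 1 := by rw [← pow_two, ← ht, pow_orderOf_eq_one]
    have h7 : ¬ 7 ∣ orderOf t := by rw [ht]; norm_num
    have h2 := st.card_pairs (g := t) (h := t) (x := y) h7 h7 hyP hy1 (ψ := ψ) hψY
    have h3 : (Finset.univ.filter (fun q : G × G =>
      q.1 * t * q.1⁻¹ * (q.2 * t * q.2⁻¹) = y)).card = 0 := by
      by_contra hne
      obtain ⟨τ, hτ1, hτ2, hτ3⟩ := st.exists_invert h1 hne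
      have h4 : τ ∈ normalizer (P : Set G) := by
        rw [← hP.conj_iff hyP hy1]
        have h5 : τ⁻¹ = τ := inv_eq_of_mul_eq_one_right hτ1
        rw [h5] at hτ2
        rw [h5, hτ2]
        exact P.inv_mem hyP
      have h5 : orderOf τ = 2 := by
        obtain ⟨c, hc⟩ := isConj_iff.mp hτ3
        have h6 : c * t * c⁻¹ = MulAut.conj c t := by simp
        rw [← hc, h6, MulEquiv.orderOf_eq, ht]
      have h6 : orderOf (⟨τ, h4⟩ : normalizer (P : Set G)) ∣ Nat.card (normalizer (P : Set G)) :=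
        orderOf_dvd_natCard _
      rw [orderOf_mk, h5, hN] at h6
      omega
    rw [h3, Nat.cast_zero, hst, hsumX, hδ1, CharBase.oneIrr_apply] at h2
    have h4 : (Nat.card G : ℂ) ≠ 0 := by exact_mod_cast Nat.card_pos.ne'
    have h5 := (mul_eq_zero.mp h2.symm).resolve_left h4
    rw [hdg1] at h5
    push_cast at h5
    linear_combination h5

end

end Cfsg.Agent.H1.T
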