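import Cfsg.Agent.H1.T2

/-!
S0984: existence of the characters of degrees 6, 15, 10, 10.
-/

set_option autoImplicit false

namespace Cfsg.Agent.H1.T

open Cfsg Subgroup Cfsg.Agent.BR Cfsg.Agent.BT
open Cfsg.Agent.CharBase (oneIrr)

universe u

theorem int_of_unique {G : Type u} [Group G] [Finite G] {φ : IrrCharacter G} {g : G}
    (h : ∀ φ' : IrrCharacter G, dg φ' = dg φ → (φ' : G → ℂ) g = (φ : G → ℂ) g) :
    ∃ m : ℤ, (φ : G → ℂ) g = m := by
  refine Char.exists_int_of_fixed (n := Nat.card G) Nat.card_pos.ne' _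
    (Char.char_mem_closure (CharBase.irr_isCharacter φ) g dvd_rfl) ?_
  intro k σ hk hσ
  rw [Char.map_char_eq (CharBase.irr_isCharacter φ) g (orderOf_dvd_natCard g) σ hσ]
  have h1 := Char.isIrrCharacter_pow φ.2 hk
  let φ' : IrrCharacter G := ⟨_, h1⟩
  have h2 : dg φ' = dg φ := by
    have h3 : (φ' : G → ℂ) 1 = (φ : G → ℂ) 1 := by
      change (φ : G → ℂ) (1 ^ k) = _
      rw [one_pow]
    rw [BR.dg_eq, BR.dg_eq] at h3
    exact_mod_cast h3
  exact h φ' h2

section

variable {G : Type u} [Group G] [Finite G]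

/-- the value at an involution -/
theorem inv_val [IsSimpleGroup G] (hperf : commutator G = ⊤) {φ : IrrCharacter G}
    (h1 : φ ≠ oneIrr G) {t : G} (ht : orderOf t = 2) : ∃ a : ℤ, (φ : G → ℂ) t = a ∧
      (4 : ℤ) ∣ dg φ - a ∧ |a| < dg φ := by
  have ht1 : t ≠ 1 := by
    rintro rfl
    rw [orderOf_one] at ht
    omega
  obtain ⟨k, hk⟩ := involution_value hperf φ (z := t) (by rw [← ht, pow_orderOf_eq_one])
  have h2 : (φ : G → ℂ) t = (((dg φ : ℤ) - 4 * k : ℤ) : ℂ) := by rw [hk]; push_cast; ring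
  refine ⟨dg φ - 4 * k, h2, ⟨k, by ring⟩, ?_⟩
  obtain ⟨n, hn1, hn2⟩ := CharBase.norm_le_of_isCharacter (CharBase.irr_isCharacter φ) t
  rw [BR.dg_eq] at hn1
  have hn : dg φ = n := by exact_mod_cast hn1
  rw [← hn, h2, Complex.norm_intCast] at hn2
  have h3 : |(dg φ : ℤ) - 4 * k| ≤ (dg φ : ℤ) := by exact_mod_cast hn2
  refine lt_of_le_of_ne h3 ?_
  intro h4
  have h5 : ‖(φ : G → ℂ) t‖ = dg φ := by
    rw [h2, Complex.norm_intCast]
    exact_mod_cast h4
  have h6 := H79.mem_center_of_norm_eq φ (fun g hg => faithful_of_simple h1 hg) h5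
  have h7 : center G = ⊥ := by
    rcases (inferInstance : (center G).Normal).eq_bot_or_eq_top with h | h
    · exact h
    · exfalso
      have h8 : commutator G = ⊥ := by
        rw [commutator_def, Subgroup.commutator_eq_bot_iff_le_centralizer]
        intro x _
        rw [mem_centralizer_iff]
        intro z _
        have : z ∈ center G := by rw [h]; trivial
        exact (mem_center_iff.mp this x).symm
      rw [hperf] at h8
      have : Nontrivial G := inferInstance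
      exact absurd h8 top_ne_bot
  rw [h7, mem_bot] at h6
  exact ht1 h6

theorem Raw.not_C [IsSimpleGroup G] (hperf : commutator G = ⊤) {y t : G} (ht : orderOf t = 2)
    {α β ψ ψ' : IrrCharacter G} (R : Raw y α β ψ ψ' 1 1 (-1)) (ha : dg α = 8) (hb : dg β = 15)
    (he : dg ψ = 24) : False := by
  obtain ⟨u, hu, -, -⟩ := inv_val hperf R.one_ne.1 ht
  obtain ⟨v, hv, -, hv3⟩ := inv_val hperf R.one_ne.2.1 ht
  obtain ⟨s, hs, -, -⟩ := inv_val hperf R.one_ne.2.2 ht
  have h1 := R.reg t (by rw [ht]; norm_num)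
  have h2 := R.inv t ht
  rw [hu, hv, hs, ha, hb, he] at h2
  rw [hu, hv, hs] at h1
  rw [hb] at hv3
  have h3 : (1 : ℤ) + u + v - s = 0 := by
    have : (((1 : ℤ) + u + v - s : ℤ) : ℂ) = 0 := by
      push_cast at h1 ⊢
      linear_combination h1
    exact_mod_cast this
  have h4 : (120 : ℤ) + 15 * u ^ 2 + 8 * v ^ 2 - 5 * s ^ 2 = 0 := by
    have : (((120 : ℤ) + 15 * u ^ 2 + 8 * v ^ 2 - 5 * s ^ 2 : ℤ) : ℂ) = 0 := by
      push_cast at h2 ⊢
      linear_combination 120 * h2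
    exact_mod_cast this
  have h5 : s = 1 + u + v := by linarith
  subst h5
  have h6 : 5 * (2 * u - (1 + v)) ^ 2 + (v - 15) ^ 2 = 0 := by linear_combination 2 * h4
  have h7 : v = 15 := by nlinarith [sq_nonneg (2 * u - (1 + v)), sq_nonneg (v - 15)]
  rw [h7] at hv3
  norm_num at hv3

theorem Raw.not_D [IsSimpleGroup G] (hperf : commutator G = ⊤) {y t : G} (ht : orderOf t = 2)
    {α β ψ ψ' : IrrCharacter G} (R : Raw y α β ψ ψ' 1 (-1) 1) (ha : dg α = 15) (hb : dg β = 20)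
    (he : dg ψ = 4) : False := by
  obtain ⟨u, hu, -, -⟩ := inv_val hperf R.one_ne.1 ht
  obtain ⟨v, hv, -, -⟩ := inv_val hperf R.one_ne.2.1 ht
  obtain ⟨s, hs, -, hs3⟩ := inv_val hperf R.one_ne.2.2 ht
  have h1 := R.reg t (by rw [ht]; norm_num)
  have h2 := R.inv t ht
  rw [hu, hv, hs, ha, hb, he] at h2
  rw [hu, hv, hs] at h1
  rw [he] at hs3
  have h3 : (1 : ℤ) + u - v + s = 0 := by
    have : (((1 : ℤ) + u - v + s : ℤ) : ℂ) = 0 := by
      push_cast at h1 ⊢
      linear_combination h1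
    exact_mod_cast this
  have h4 : (60 : ℤ) + 4 * u ^ 2 - 3 * v ^ 2 + 15 * s ^ 2 = 0 := by
    have : (((60 : ℤ) + 4 * u ^ 2 - 3 * v ^ 2 + 15 * s ^ 2 : ℤ) : ℂ) = 0 := by
      push_cast at h2 ⊢
      linear_combination 60 * h2
    exact_mod_cast this
  have h5 : v = 1 + u + s := by linarith
  subst h5
  have h6 : (u - 3 * (1 + s)) ^ 2 + 3 * (s - 4) ^ 2 = 0 := by linear_combination h4
  have h7 : s = 4 := by nlinarith [sq_nonneg (u - 3 * (1 + s)), sq_nonneg (s - 4)]
  rw [h7] at hs3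
  norm_num at hs3

theorem Raw.not_B [IsSimpleGroup G] {y x : G} (hx : orderOf x = 5)
    {α β ψ ψ' : IrrCharacter G} (R : Raw y α β ψ ψ' (-1) 1 (-1)) (ha : dg α = 6) (hb : dg β = 8)
    (he : dg ψ = 3) : False := by
  have hx1 : x ≠ 1 := by
    rintro rfl
    rw [orderOf_one] at hx
    omega
  obtain ⟨v, hv⟩ : ∃ m : ℤ, (ψ : G → ℂ) x = m := by
    apply int_of_unique
    intro φ hφ
    rw [he] at hφ
    by_cases h1 : φ = ψ
    · rw [h1]
    by_cases h2 : φ = ψ'
    · rw [h2]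
      exact (R.yeq x (by rw [hx]; norm_num)).symm
    exfalso
    have h3 := R.out φ (by
      rintro rfl
      have h1 := BR.dg_eq (oneIrr G)
      rw [CharBase.oneIrr_apply, hφ] at h1
      norm_num at h1) (by rintro rfl; omega) (by rintro rfl; omega) h1 h2
    rw [hφ] at h3
    omega
  obtain ⟨c, hc⟩ := sum_prime (CharBase.irr_isCharacter ψ) (by norm_num : Nat.Prime 5) hx hv
    (d := 3) (by rw [BR.dg_eq, he]; norm_num)
  obtain ⟨n, hn1, hn2⟩ := CharBase.norm_le_of_isCharacter (CharBase.irr_isCharacter ψ) x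
  rw [BR.dg_eq] at hn1
  have hn : dg ψ = n := by exact_mod_cast hn1
  rw [← hn, hv, Complex.norm_intCast, he] at hn2
  have h3 : |v| ≤ 3 := by exact_mod_cast hn2
  rw [abs_le] at h3
  have h4 : v = 3 := by
    have : (5 : ℤ) * c = 3 + 4 * v := by push_cast at hc; linarith
    omega
  apply hx1
  apply faithful_of_simple R.one_ne.2.2
  rw [hv, BR.dg_eq, he, h4]
  norm_num

theorem Raw.chr [IsSimpleGroup G] (hperf : commutator G = ⊤) {y : G}
    {α β ψ ψ' : IrrCharacter G} (R : Raw y α β ψ ψ' (-1) 1 (-1)) (ha : dg α = 6) (hb : dg β = 15)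
    (he : dg ψ = 10) : Nonempty (Chr G) := by
  have hone : ∀ φ : IrrCharacter G, dg φ ≠ 1 → φ ≠ oneIrr G := by
    rintro φ hφ rfl
    apply hφ
    have h1 := BR.dg_eq (oneIrr G)
    rw [CharBase.oneIrr_apply] at h1
    exact_mod_cast h1.symm
  have he' : dg ψ' = 10 := by rw [← R.dg_eq, he]
  refine ⟨⟨α, β, ψ, ψ', ha, hb, he, he', R.ne, R.out, ?_, ?_⟩⟩
  · intro g hg
    obtain ⟨a, hA⟩ : ∃ m : ℤ, (α : G → ℂ) g = m := by
      apply int_of_unique
      intro φ hφ
      rw [ha] at hφ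
      by_cases h1 : φ = α
      · rw [h1]
      exfalso
      have h3 := R.out φ (hone φ (by omega)) h1 (by rintro rfl; omega) (by rintro rfl; omega)
        (by rintro rfl; omega)
      rw [hφ] at h3
      omega
    obtain ⟨b, hB⟩ : ∃ m : ℤ, (β : G → ℂ) g = m := by
      apply int_of_unique
      intro φ hφ
      rw [hb] at hφ
      by_cases h1 : φ = β
      · rw [h1]
      exfalso
      have h3 := R.out φ (hone φ (by omega)) (by rintro rfl; omega) h1 (by rintro rfl; omega)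
        (by rintro rfl; omega)
      rw [hφ] at h3
      omega
    obtain ⟨c, hc⟩ : ∃ m : ℤ, (ψ : G → ℂ) g = m := by
      apply int_of_unique
      intro φ hφ
      rw [he] at hφ
      by_cases h1 : φ = ψ
      · rw [h1]
      by_cases h2 : φ = ψ'
      · rw [h2]
        exact (R.yeq g hg).symm
      exfalso
      have h3 := R.out φ (hone φ (by omega)) (by rintro rfl; omega) (by rintro rfl; omega) h1 h2
      rw [hφ] at h3
      omega
    refine ⟨a, b, c, hA, hB, hc, by rw [← R.yeq g hg]; exact hc, ?_⟩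
    have h1 := R.reg g hg
    rw [hA, hB, hc] at h1
    have : (((1 : ℤ) + b : ℤ) : ℂ) = ((a + c : ℤ) : ℂ) := by
      push_cast at h1 ⊢
      linear_combination h1
    exact_mod_cast this
  · intro t ht a c h1 h2
    obtain ⟨u, hu, hu2, hu3⟩ := inv_val hperf R.one_ne.1 ht
    obtain ⟨v, hv, -, -⟩ := inv_val hperf R.one_ne.2.1 ht
    obtain ⟨s, hs, hs2, hs3⟩ := inv_val hperf R.one_ne.2.2 ht
    have hau : u = a := by
      have : (u : ℂ) = a := by rw [← hu, h1]
      exact_mod_cast this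
    have hcs : s = c := by
      have : (s : ℂ) = c := by rw [← hs, h2]
      exact_mod_cast this
    subst hau hcs
    have h3 := R.reg t (by rw [ht]; norm_num)
    have h4 := R.inv t ht
    rw [hu, hv, hs, ha, hb, he] at h4
    rw [hu, hv, hs] at h3
    rw [ha] at hu2 hu3
    rw [he] at hs2 hs3
    have h5 : (1 : ℤ) - u + v - s = 0 := by
      have : (((1 : ℤ) - u + v - s : ℤ) : ℂ) = 0 := by
        push_cast at h3 ⊢
        linear_combination h3
      exact_mod_cast this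
    have h6 : (30 : ℤ) - 5 * u ^ 2 + 2 * v ^ 2 - 3 * s ^ 2 = 0 := by
      have : (((30 : ℤ) - 5 * u ^ 2 + 2 * v ^ 2 - 3 * s ^ 2 : ℤ) : ℂ) = 0 := by
        push_cast at h4 ⊢
        linear_combination 30 * h4
      exact_mod_cast this
    have h7 : v = u + s - 1 := by linarith
    subst h7
    have h8 : (3 * u - s - 8) * (u - s + 4) = 0 := by linear_combination -h6
    rw [abs_lt] at hu3 hs3
    have h9 : u = 2 ∨ u = -2 := by
      obtain ⟨hu4, hu5⟩ := hu3
      push_cast at hu2 hu4 hu5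
      omega
    obtain ⟨hs4, hs5⟩ := hs3
    push_cast at hs4 hs5
    rcases mul_eq_zero.mp h8 with h | h <;> rcases h9 with rfl | rfl <;> omega

theorem exists_chr [IsSimpleGroup G] (h : Nat.card G = 2520) (hperf : commutator G = ⊤) (y : G)
    (hy : orderOf y = 7) (hC : Nat.card (centralizer ({y} : Set G)) = 7)
    (hN : Nat.card (normalizer (zpowers y : Set G)) = 21) : Nonempty (Chr G) := by
  haveI : Fact (Nat.Prime 2) := ⟨Nat.prime_two⟩
  haveI : Fact (Nat.Prime 5) := ⟨Nat.prime_five⟩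
  obtain ⟨t, ht⟩ := exists_prime_orderOf_dvd_card' (G := G) 2 (by rw [h]; norm_num)
  obtain ⟨x, hx⟩ := exists_prime_orderOf_dvd_card' (G := G) 5 (by rw [h]; norm_num)
  obtain ⟨α, β, ψ, ψ', δa, δb, δe, R⟩ := exists_raw h hperf y hy hC hN
  have hsq := R.sq
  have ha := deg_X_arith R.sa R.da (by nlinarith) R.ne1.1 R.ca
  have hb := deg_X_arith R.sb R.db (by nlinarith) R.ne1.2 R.cb
  have he := deg_Y_arith R.se R.de (by nlinarith) R.ce
  have heq : 1 + δa * dg α + δb * dg β + δe * dg ψ = 0 := by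
    have h1 := R.reg 1 (by rw [orderOf_one]; norm_num)
    rw [BR.dg_eq, BR.dg_eq, BR.dg_eq] at h1
    exact_mod_cast h1
  rcases deg_arith ha hb he heq with ⟨rfl, h1, rfl, h2, rfl, h3⟩ | ⟨rfl, h1, rfl, h2, rfl, h3⟩ |
    ⟨rfl, h1, rfl, h2, rfl, h3⟩ | ⟨rfl, h1, rfl, h2, rfl, h3⟩ | ⟨rfl, h1, rfl, h2, rfl, h3⟩ |
    ⟨rfl, h1, rfl, h2, rfl, h3⟩ | ⟨rfl, h1, rfl, h2, rfl, h3⟩ | ⟨rfl, h1, rfl, h2, rfl, h3⟩
  · exact R.chr hperf h1 h2 h3
  · exact R.swap.chr hperf h1 h2 h3
  · exact (R.not_B hx h1 h2 h3).elim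
  · exact (R.swap.not_B hx h1 h2 h3).elim
  · exact (R.not_C hperf ht h1 h2 h3).elim
  · exact (R.swap.not_C hperf ht h1 h2 h3).elim
  · exact (R.not_D hperf ht h1 h2 h3).elim
  · exact (R.swap.not_D hperf ht h1 h2 h3).elim

end

end Cfsg.Agent.H1.T
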