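import Cfsg.Agent.H1.T3
import Cfsg.Agent.H1T.A1
import Cfsg.Agent.H1T.D2
import Cfsg.Agent.H1T.D3
import Cfsg.Agent.H1T.E
import Cfsg.Agent.H1T.F1
import Cfsg.Agent.H1T.F2
import Cfsg.Agent.H1.SFMain3
import Cfsg.Agent.H1.SFOrb

/-!
S0984: assembly.
-/

set_option autoImplicit false

namespace Cfsg.Agent.H1.T

open Cfsg Subgroup Cfsg.Agent.BR
open Cfsg.Agent.CharBase (oneIrr)

universe u

variable {G : Type u} [Group G] [Finite G]

/-- assembly -/
theorem final [IsSimpleGroup G] (h : Nat.card G = 2520)
    (n36 : Nat.card (Sylow 7 G) = 36 → ∃ t : G, Nat.card (centralizer ({t} : Set G)) ≤ 4)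
    (sylow2 : ∀ S : Sylow 2 G,
      (∀ a b : G, orderOf a = 2 → orderOf b = 2 → IsConj a b) ∧
      (Nonempty (S ≃* DihedralGroup 4) ∨ ∀ s ∈ S, s * s = 1))
    (not_elem : ∀ (_ : Chr G) (S : Sylow 2 G)
      (_ : ∀ a b : G, orderOf a = 2 → orderOf b = 2 → IsConj a b) (_ : ∀ s ∈ S, s * s = 1), False)
    (c5a : ∀ (_ : Chr G) (x t : G) (_ : orderOf x = 5) (_ : orderOf t = 2)
      (_ : x * t = t * x) (_ : Nat.card (centralizer ({x} : Set G)) ≤ 60),
      30 < Nat.card (centralizer ({x * t} : Set G))) :
    Nonempty (G ≃* alternatingGroup (Fin 7)) := by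
  haveI : Fact (Nat.Prime 2) := ⟨Nat.prime_two⟩
  haveI : Fact (Nat.Prime 5) := ⟨Nat.prime_five⟩
  haveI : Fact (Nat.Prime 7) := ⟨by norm_num⟩
  have hna : ¬ IsMulCommutative G := a1_na2520 h
  have hcyc : ¬ IsCyclic G := fun hc => hna inferInstance
  have hperf : commutator G = ⊤ := H17.commutator_eq_top hna
  have hcardA : ∀ n : ℕ, 2 ≤ n → 2 * Nat.card (alternatingGroup (Fin n)) = n.factorial := by
    intro n hn
    haveI : Nontrivial (Fin n) := Fin.nontrivial_iff_two_le.mpr hn
    have h3 := two_mul_nat_card_alternatingGroup (α := Fin n)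
    rwa [Nat.card_perm, Nat.card_fin] at h3
  have hmain : ∀ w : G, Nat.card (centralizer ({w} : Set G)) ≤ 4 →
      Nonempty (G ≃* alternatingGroup (Fin 7)) := by
    intro w hw
    rcases H1.SF.main hcyc w hw with ⟨⟨e⟩⟩ | ⟨⟨e⟩⟩ | he | ⟨⟨e⟩⟩
    · exfalso
      have h1 := hcardA 5 (by norm_num)
      rw [← Nat.card_congr e.toEquiv, h] at h1
      have : Nat.factorial 5 = 120 := by decide
      omega
    · exfalso
      have h1 := hcardA 6 (by norm_num)
      rw [← Nat.card_congr e.toEquiv, h] at h1
      have : Nat.factorial 6 = 720 := by decide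
      omega
    · exact he
    · exfalso
      have h3 := H14.SubField.card_PSL2_odd (F := ZMod 7) (by rw [ZMod.card]; decide)
      rw [ZMod.card, ← Nat.card_congr e.toEquiv, h] at h3
      omega
  rcases seven h with h7 | h7
  · obtain ⟨t, ht⟩ := n36 h7
    exact hmain t ht
  have hall := self7 h h7
  obtain ⟨y, hy⟩ := exists_prime_orderOf_dvd_card' (G := G) 7 (by rw [h]; norm_num)
  obtain ⟨C⟩ := exists_chr h hperf y hy (hall y hy).1 (hall y hy).2.1
  obtain ⟨S⟩ : Nonempty (Sylow 2 G) := inferInstance
  obtain ⟨hconj, hS⟩ := sylow2 S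
  rcases hS with ⟨⟨e⟩⟩ | hS
  swap
  · exact (not_elem C S hconj hS).elim
  by_cases hi : ∃ H : Subgroup G, H.index = 7
  · obtain ⟨H, hH⟩ := hi
    exact H1.SF.A7_of_index_seven hna h H hH
  have hC7 : ∀ y : G, orderOf y = 7 → Nat.card (centralizer ({y} : Set G)) = 7 :=
    fun y hy => (hall y hy).1
  have h5 : ∀ x : G, orderOf x = 5 →
      Nat.card (centralizer ({x} : Set G)) = 5 ∧ IsConj x (x ^ 2) := by
    intro x hx
    have hcase := n5_cases h hC7 x hx
    have hle60 : Nat.card (centralizer ({x} : Set G)) ≤ 60 := by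
      rcases hcase with h1 | h1 | h1 | h1
      · omega
      · omega
      · omega
      · omega
    have key : ∀ t : G, orderOf t = 2 → x * t = t * x →
        Nat.card (centralizer ({x} : Set G)) = 60 ∧
          centralizer ({x} : Set G) ≤ centralizer ({t} : Set G) := by
      intro t ht hxt
      have h1 := c5a C x t hx ht hxt hle60
      have hle : centralizer ({x * t} : Set G) ≤ centralizer ({x} : Set G) := by
        intro g hg
        rw [mem_centralizer_singleton_iff] at hg ⊢
        have h2 : Commute g (x * t) := hg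
        have h3 := h2.pow_right 6
        have h4 : (x * t) ^ 6 = x := by
          have hc : Commute x t := hxt
          rw [hc.mul_pow]
          have e1 : x ^ 6 = x := by
            have : x ^ 5 = 1 := by rw [← hx, pow_orderOf_eq_one]
            rw [pow_succ, this, one_mul]
          have e2 : t ^ 6 = 1 := by
            have : t ^ 2 = 1 := by rw [← ht, pow_orderOf_eq_one]
            rw [show 6 = 2 * 3 by norm_num, pow_mul, this, one_pow]
          rw [e1, e2, mul_one]
        rw [h4] at h3
        exact h3
      have hdv : Nat.card (centralizer ({x * t} : Set G)) ∣ Nat.card (centralizer ({x} : Set G)) :=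
        card_dvd_of_le hle
      have h60 : Nat.card (centralizer ({x} : Set G)) = 60 := by
        rcases hcase with h2 | h2 | h2 | h2
        · have := Nat.le_of_dvd Nat.card_pos hdv; omega
        · have := Nat.le_of_dvd Nat.card_pos hdv; omega
        · have := Nat.le_of_dvd Nat.card_pos hdv; omega
        · exact h2.1
      refine ⟨h60, ?_⟩
      have heq : Nat.card (centralizer ({x * t} : Set G)) = 60 := by
        rw [h60] at hdv
        obtain ⟨c, hc⟩ := hdv
        have : c < 2 := by nlinarith
        interval_cases c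
        · omega
        · omega
      have h3 : centralizer ({x * t} : Set G) = centralizer ({x} : Set G) :=
        Subgroup.eq_of_le_of_card_ge hle (by rw [h60, heq])
      intro g hg
      have hg1 : g ∈ centralizer ({x * t} : Set G) := by rw [h3]; exact hg
      rw [mem_centralizer_singleton_iff] at hg hg1 ⊢
      have h4 : g * t = t * g := by
        have e1 : x * (g * t) = x * (t * g) := by
          calc x * (g * t) = (x * g) * t := by group
            _ = (g * x) * t := by rw [hg]
            _ = g * (x * t) := by group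
            _ = (x * t) * g := by rw [hg1]
            _ = x * (t * g) := by group
        exact mul_left_cancel e1
      exact h4
    have hodd : ∀ t : G, orderOf t = 2 → x * t = t * x → False := by
      intro t ht hxt
      obtain ⟨h60, -⟩ := key t ht hxt
      apply hi
      refine case60 h hC7 hconj S e x hx h60 ?_ (fun t ht hxt => (key t ht hxt).2)
      rcases hcase with h2 | h2 | h2 | h2
      · omega
      · omega
      · omega
      · exact h2.2
    have heven : ¬ 2 ∣ Nat.card (centralizer ({x} : Set G)) := by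
      intro h2
      obtain ⟨⟨t, ht⟩, hot⟩ := exists_prime_orderOf_dvd_card' 2 h2
      rw [orderOf_mk] at hot
      exact hodd t hot (mem_centralizer_singleton_iff.mp ht).symm
    rcases hcase with h2 | h2 | h2 | h2
    · exact h2
    · rw [h2] at heven; omega
    · rw [h2] at heven; omega
    · rw [h2.1] at heven; omega
  obtain ⟨x, hx⟩ := exists_prime_orderOf_dvd_card' (G := G) 5 (by rw [h]; norm_num)
  have hk := card_irr_le h C x hx (h5 x hx).1 (h5 x hx).2
  obtain ⟨w, hw⟩ : ∃ w : G, orderOf w = 4 := by
    refine ⟨(e.symm (DihedralGroup.r 1) : S), ?_⟩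
    rw [orderOf_coe, MulEquiv.orderOf_eq, DihedralGroup.orderOf_r_one]
  by_cases h4 : Nat.card (centralizer ({w} : Set G)) ≤ 4
  · exact hmain w h4
  · obtain ⟨a, b⟩ := classes9 h S e (fun x hx => (h5 x hx).1)
      (fun y hy => ⟨(hall y hy).1, (hall y hy).2.2⟩) hk w hw (by omega)
    exact (no_fusion3 h S e a b).elim

end Cfsg.Agent.H1.T
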